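import Groth.Agent.L07.QuasiRegular
import Mathlib.RingTheory.Regular.RegularSequence
import Mathlib.RingTheory.Filtration
import Mathlib.RingTheory.Jacobson.Radical
import Mathlib.LinearAlgebra.Matrix.ToLin
import Mathlib.Tactic

namespace Groth.L14.QRR

open MvPolynomial RingTheory.Sequence Groth.L07.QReg

universe u
variable {R : Type u} [CommRing R]

theorem isHomogeneous_X_mul {σ : Type*} (i : σ) {G : MvPolynomial σ R} {n : ℕ} (hG : G.IsHomogeneous n) :
    (X i * G).IsHomogeneous (n + 1) :=
  Nat.add_comm 1 n ▸ (isHomogeneous_X R i).mul hG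

theorem map_aeval_lin {S : Type*} [CommRing S] (q : R →+* S) {σ τ : Type*} (g : σ → MvPolynomial τ R)
    (P : MvPolynomial σ R) :
    MvPolynomial.map q (aeval g P) = aeval (fun i => MvPolynomial.map q (g i)) (MvPolynomial.map q P) := by
  induction P using MvPolynomial.induction_on with
  | C a => simp
  | add p r hp hr => simp only [map_add, hp, hr]
  | mul_X p i hp => simp only [map_mul, aeval_X, map_X, hp]

theorem eval_aeval {σ τ : Type*} (g : σ → MvPolynomial τ R) (f : τ → R) (P : MvPolynomial σ R) :
    eval f (aeval g P) = eval (fun i => eval f (g i)) P := by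
  induction P using MvPolynomial.induction_on with
  | C a => simp
  | add p r hp hr => simp only [map_add, hp, hr]
  | mul_X p i hp => simp only [map_mul, aeval_X, eval_X, hp]

theorem isHomogeneous_linear {σ : Type*} [Fintype σ] (a : σ → R) :
    (∑ i, C (a i) * X i).IsHomogeneous 1 :=
  IsHomogeneous.sum _ _ _ fun i _ => by
    simpa using (isHomogeneous_C σ (a i)).mul (isHomogeneous_X R i)

theorem coeff_linear {σ : Type*} [Fintype σ] [DecidableEq σ] (a : σ → R) (k : σ) :
    coeff (Finsupp.single k 1) (∑ i, C (a i) * X i) = a k := by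
  rw [coeff_sum, Finset.sum_eq_single k]
  · simp [coeff_C_mul]
  · intro i _ hi
    simp [coeff_C_mul, coeff_X', Finsupp.single_left_inj (one_ne_zero : (1 : ℕ) ≠ 0), hi]
  · simp

/-- Quasi-regularity does not depend on the generators. -/
theorem isQuasiRegular_of_span_eq {n : ℕ} (f f' : Fin n → R) (hf : CAlgX.IsQuasiRegular f)
    (h : Ideal.span (Set.range f') = Ideal.span (Set.range f)) : CAlgX.IsQuasiRegular f' := by
  classical
  choose U hU using fun j => Ideal.mem_span_range_iff_exists_fun.mp
    (h ▸ Ideal.subset_span ⟨j, rfl⟩ : f' j ∈ Ideal.span (Set.range f))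
  choose V hV using fun j => Ideal.mem_span_range_iff_exists_fun.mp
    (h.symm ▸ Ideal.subset_span ⟨j, rfl⟩ : f j ∈ Ideal.span (Set.range f'))
  set I := Ideal.span (Set.range f) with hI
  set q := Ideal.Quotient.mk I with hq
  let Um : Matrix (Fin n) (Fin n) R := Matrix.of U
  let Vm : Matrix (Fin n) (Fin n) R := Matrix.of V
  have hW : ∀ i k, (Vm * Um - 1) i k ∈ I := by
    intro i k
    have he : eval f (∑ k, C ((Vm * Um - 1) i k) * X k) = 0 := by
      simp only [eval_sum, eval_mul, eval_C, eval_X]
      have h1 : ∑ k, (Vm * Um) i k * f k = f i := by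
        simp only [Matrix.mul_apply, Finset.sum_mul]
        rw [Finset.sum_comm]
        calc ∑ x, ∑ k, Vm i x * Um x k * f k = ∑ x, V i x * f' x :=
              Finset.sum_congr rfl fun x _ => by
                rw [← hU x, Finset.mul_sum]
                exact Finset.sum_congr rfl fun k _ => mul_assoc _ _ _
          _ = f i := hV i
      simp only [Matrix.sub_apply, sub_mul, Finset.sum_sub_distrib, h1, Matrix.one_apply, ite_mul,
        one_mul, zero_mul]
      simp
    have := hf 1 _ (isHomogeneous_linear _) (he ▸ Submodule.zero_mem _) (Finsupp.single k 1)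
    rwa [coeff_linear] at this
  have hVU : q.mapMatrix Vm * q.mapMatrix Um = 1 := by
    rw [← map_mul, ← sub_eq_zero, ← map_one q.mapMatrix, ← map_sub]
    ext i k
    simp only [RingHom.mapMatrix_apply, Matrix.map_apply, Matrix.zero_apply]
    rw [hq, Ideal.Quotient.eq_zero_iff_mem]; exact hW i k
  have hUV : q.mapMatrix Um * q.mapMatrix Vm = 1 := mul_eq_one_comm.mp hVU
  intro m P hP hmem d
  rw [h] at hmem ⊢
  let g : Fin n → MvPolynomial (Fin n) R := fun j => ∑ i, C (U j i) * X i
  have hg : (aeval g P).IsHomogeneous m := by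
    simpa using hP.aeval g (n := 1) fun j => isHomogeneous_linear (U j)
  have hev : eval f (aeval g P) = eval f' P := by
    have : (fun j => eval f (g j)) = f' := funext fun j => by simp [g, hU j]
    rw [eval_aeval, this]
  have hzero : MvPolynomial.map q (aeval g P) = 0 := by
    ext e
    rw [coeff_map, coeff_zero, hq, Ideal.Quotient.eq_zero_iff_mem]
    exact hf m _ hg (hev ▸ hmem) e
  rw [map_aeval_lin] at hzero
  have h2 := congrArg (aeval fun i => ∑ k, C (q (V i k)) * X k) hzero
  rw [map_zero, ← AlgHom.comp_apply, comp_aeval] at h2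
  have h3 : (fun j => aeval (fun i => ∑ k, C (q (V i k)) * X k) (MvPolynomial.map q (g j))) =
      (X : Fin n → MvPolynomial (Fin n) (R ⧸ I)) := by
    funext j
    simp only [g, map_sum, map_mul, map_C, map_X, aeval_X, algHom_C, algebraMap_eq, Finset.mul_sum]
    rw [Finset.sum_comm]
    simp only [← mul_assoc, ← C_mul, ← Finset.sum_mul, ← map_sum C]
    have h4 : ∀ k, ∑ i, q (U j i) * q (V i k) = (1 : Matrix (Fin n) (Fin n) (R ⧸ I)) j k := fun k => by
      rw [← hUV]; simp [Matrix.mul_apply, Um, Vm]
    simp only [h4, Matrix.one_apply]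
    rw [Finset.sum_eq_single j]
    · simp
    · intro k _ hk; simp [Ne.symm hk]
    · simp
  rw [h3, aeval_X_left_apply] at h2
  have := congrArg (coeff d) h2
  rwa [coeff_map, coeff_zero, hq, Ideal.Quotient.eq_zero_iff_mem] at this

theorem exists_hom_lift {S : Type u} [CommRing S] (q : R →+* S) (hq : Function.Surjective q)
    {σ : Type*} {n : ℕ} (P' : MvPolynomial σ S) (hP : P'.IsHomogeneous n) :
    ∃ P : MvPolynomial σ R, P.IsHomogeneous n ∧ MvPolynomial.map q P = P' := by
  classical
  obtain ⟨P₀, rfl⟩ := MvPolynomial.map_surjective q hq P'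
  refine ⟨homogeneousComponent n P₀, homogeneousComponent_isHomogeneous n P₀, ?_⟩
  ext d
  rw [coeff_map, coeff_homogeneousComponent, coeff_map]
  split_ifs with hd
  · rfl
  · rw [map_zero, ← coeff_map]
    by_contra hne
    exact hd (by simpa [Finsupp.degree_eq_weight_one, Pi.one_def] using hP (Ne.symm hne))

theorem mem_pow_of_head_mul {c : ℕ} {f : Fin (c + 1) → R} (h : CAlgX.IsQuasiRegular f) {m : ℕ} {x : R}
    (hm : x ∈ Ideal.span (Set.range f) ^ m)
    (hx : f 0 * x ∈ Ideal.span (Set.range f) ^ (m + 2)) : x ∈ Ideal.span (Set.range f) ^ (m + 1) := by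
  obtain ⟨G, hG, rfl⟩ := exists_homogeneous_of_mem_span_pow f m hm
  rw [pow_succ']
  refine eval_mem_mul_span_pow f _ hG fun d => ?_
  have := h (m + 1) (X 0 * G) (isHomogeneous_X_mul 0 hG)
    (by rw [eval_mul, eval_X]; exact hx) (Finsupp.single 0 1 + d)
  rwa [coeff_X_mul] at this

theorem isWeaklyRegular_of_isQuasiRegular : ∀ {c : ℕ} {R : Type u} [CommRing R] [IsNoetherianRing R]
    (f : Fin c → R), (∀ i, f i ∈ Ideal.jacobson (⊥ : Ideal R)) → CAlgX.IsQuasiRegular f →
      IsWeaklyRegular R (List.ofFn f) := by
  intro c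
  induction c with
  | zero => intro R _ _ f _ _; simp
  | succ c ih =>
    intro R _ _ f hj hqr
    set I := Ideal.span (Set.range f) with hI
    rw [List.ofFn_succ, isWeaklyRegular_cons_iff]
    constructor
    · rw [isSMulRegular_iff_right_eq_zero_of_smul]
      intro x hx
      have hall : ∀ m, x ∈ I ^ m := by
        intro m
        induction m with
        | zero => simp
        | succ m ihm =>
          exact mem_pow_of_head_mul hqr ihm (by rw [← smul_eq_mul, hx]; exact Submodule.zero_mem _)
      have : x ∈ (⨅ i : ℕ, I ^ i • ⊤ : Submodule R R) := by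
        simp only [Submodule.mem_iInf, smul_eq_mul, Ideal.mul_top]; exact hall
      rwa [Ideal.iInf_pow_smul_eq_bot_of_le_jacobson I (Ideal.span_le.mpr (by rintro _ ⟨i, rfl⟩; exact hj i)),
        Submodule.mem_bot] at this
    · let R' := R ⧸ Ideal.span {f 0}
      let q := Ideal.Quotient.mk (Ideal.span {f 0})
      let f' : Fin c → R' := fun i => q (f i.succ)
      have hj' : ∀ i, f' i ∈ Ideal.jacobson (⊥ : Ideal R') := by
        intro i
        rw [Ideal.mem_jacobson_bot]
        intro y
        obtain ⟨y, rfl⟩ := Ideal.Quotient.mk_surjective y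
        have := (Ideal.mem_jacobson_bot.mp (hj i.succ) y).map q
        rwa [map_add, map_mul, map_one] at this
      have hspan : Ideal.span (Set.range f') = Ideal.map q (Ideal.span (Set.range (f ∘ Fin.succ))) := by
        rw [Ideal.map_span, ← Set.range_comp]; rfl
      have hle : Ideal.span (Set.range (f ∘ Fin.succ)) ≤ I := Ideal.span_mono (Set.range_comp_subset_range _ _)
      have hmapI : Ideal.map q I ≤ Ideal.span (Set.range f') := by
        rw [hI, Ideal.map_span, Ideal.span_le]
        rintro _ ⟨_, ⟨i, rfl⟩, rfl⟩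
        rcases Fin.eq_zero_or_eq_succ i with rfl | ⟨j, rfl⟩
        · have : q (f 0) = 0 := Ideal.Quotient.eq_zero_iff_mem.mpr (Ideal.mem_span_singleton_self _)
          rw [this]; exact Submodule.zero_mem _
        · exact Ideal.subset_span ⟨j, rfl⟩
      have hqr' : CAlgX.IsQuasiRegular f' := by
        intro n P' hP' hmem d
        obtain ⟨P, hP, rfl⟩ := exists_hom_lift q Ideal.Quotient.mk_surjective P' hP'
        rw [coeff_map]
        refine hmapI (Ideal.mem_map_of_mem q ?_)
        have hev : eval f' (MvPolynomial.map q P) = q (eval (f ∘ Fin.succ) P) := by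
          rw [eval_map]; exact (eval₂_comp q (f ∘ Fin.succ) P).symm
        rw [hspan, ← Ideal.map_pow, hev,
          Ideal.mem_map_iff_of_surjective q Ideal.Quotient.mk_surjective] at hmem
        obtain ⟨z, hz, hzq⟩ := hmem
        obtain ⟨y, hy⟩ := Ideal.mem_span_singleton.mp (Ideal.Quotient.eq.mp hzq.symm)
        have hzI : z ∈ I ^ (n + 1) := Ideal.pow_right_mono hle _ hz
        rcases n with _ | k
        · obtain ⟨a, rfl⟩ : ∃ a, P = C a :=
            ⟨coeff 0 P, totalDegree_eq_zero_iff_eq_C.mp (Nat.eq_zero_of_le_zero hP.totalDegree_le)⟩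
          rw [eval_C] at hy
          rw [coeff_C]
          split_ifs
          · rw [show a = z + f 0 * y by linear_combination hy]
            exact I.add_mem (by simpa using hzI) (I.mul_mem_right _ (Ideal.subset_span ⟨0, rfl⟩))
          · exact I.zero_mem
        · have hPev : eval (f ∘ Fin.succ) P ∈ I ^ (k + 1) :=
            Ideal.pow_right_mono hle _ (eval_mem_span_pow _ hP)
          have hy' : ∀ m ≤ k, y ∈ I ^ m := by
            intro m hm
            induction m with
            | zero => simp
            | succ m ihm =>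
              refine mem_pow_of_head_mul hqr (ihm (by omega)) ?_
              rw [← hy]
              exact Ideal.pow_le_pow_right (show m + 2 ≤ k + 1 by omega)
                (Submodule.sub_mem _ hPev (Ideal.pow_le_pow_right (Nat.le_succ _) hzI))
          obtain ⟨G, hG, rfl⟩ := exists_homogeneous_of_mem_span_pow f k (hy' k le_rfl)
          have := hqr (k + 1) (rename Fin.succ P - X 0 * G)
            (hP.rename_isHomogeneous.sub (isHomogeneous_X_mul 0 hG))
            (by
              rw [map_sub, eval_mul, eval_X, eval_rename, show eval (f ∘ Fin.succ) P - f 0 * eval f G = z by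
                linear_combination hy]
              exact hzI)
            (Finsupp.mapDomain Fin.succ d)
          rw [coeff_sub, coeff_rename_mapDomain _ (Fin.succ_injective _), coeff_X_mul', if_neg,
            sub_zero] at this
          · exact this
          · rw [Finsupp.mem_support_iff, not_not]
            exact Finsupp.mapDomain_notin_range _ _ (by simp)
      have h5 := ih f' hj' hqr'
      have h6 : List.ofFn f' = (List.ofFn fun i => f i.succ).map (algebraMap R R') := by
        rw [List.map_ofFn]; rfl
      rw [h6, isWeaklyRegular_map_algebraMap_iff] at h5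
      have e : QuotSMulTop (f 0) R ≃ₗ[R] R' :=
        Submodule.quotEquivOfEq _ _ (by
          rw [← Submodule.ideal_span_singleton_smul, smul_eq_mul, Ideal.mul_top])
      exact (e.isWeaklyRegular_congr _).mpr h5

/-- Ideal generated by the linear relations. -/
noncomputable def koszul {c : ℕ} (f : Fin c → R) : Ideal (MvPolynomial (Fin c) R) :=
  Ideal.span {q | ∃ i j : Fin c, q = C (f i) * X j - C (f j) * X i}

theorem exists_split {c n : ℕ} (P : MvPolynomial (Fin (c + 1)) R) (hP : P.IsHomogeneous (n + 1)) :
    ∃ (P0 : MvPolynomial (Fin c) R) (P1 : MvPolynomial (Fin (c + 1)) R),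
      P0.IsHomogeneous (n + 1) ∧ P1.IsHomogeneous n ∧
        P = rename Fin.castSucc P0 + X (Fin.last c) * P1 := by
  classical
  set e : Fin (c + 1) →₀ ℕ := Finsupp.single (Fin.last c) 1 with he_def
  have hcm : ∀ d, ¬ e ≤ d ↔ d (Fin.last c) = 0 := fun d => by
    simp [he_def, Finsupp.single_le_iff]
  have hhom0 : (P.modMonomial e).IsHomogeneous (n + 1) := by
    intro d hd
    by_cases hde : e ≤ d
    · exact absurd (coeff_modMonomial_of_le P hde) hd
    · rw [coeff_modMonomial_of_not_le P hde] at hd; exact hP hd
  have hhom1 : (P.divMonomial e).IsHomogeneous n := by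
    intro d hd
    rw [coeff_divMonomial] at hd
    have := hP hd
    rw [map_add] at this
    simp only [he_def, Finsupp.weight_single, Pi.one_apply, smul_eq_mul, mul_one] at this
    change Finsupp.weight 1 d = n
    omega
  obtain ⟨P0, hP0⟩ := exists_rename_eq_of_vars_subset_range (P.modMonomial e) Fin.castSucc
    (Fin.castSucc_injective c) (by
      intro i hi
      rcases Fin.eq_castSucc_or_eq_last i with ⟨j, rfl⟩ | rfl
      · exact ⟨j, rfl⟩
      · obtain ⟨d, hd, hd'⟩ := (mem_vars_iff_mem_support _).mp (Finset.mem_coe.mp hi)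
        exfalso
        rw [mem_support_iff] at hd
        exact (Finsupp.mem_support_iff.mp hd') ((hcm d).mp fun hde => hd (coeff_modMonomial_of_le P hde)))
  refine ⟨P0, P.divMonomial e, ?_, hhom1, ?_⟩
  · rw [← IsHomogeneous.rename_isHomogeneous_iff (Fin.castSucc_injective c), hP0]; exact hhom0
  · rw [hP0]; exact (modMonomial_add_divMonomial_single P (Fin.last c)).symm

theorem mem_koszul : ∀ {c : ℕ} {f : Fin c → R}, IsWeaklyRegular R (List.ofFn f) →
    ∀ (n : ℕ) (P : MvPolynomial (Fin c) R), P.IsHomogeneous n → eval f P = 0 → P ∈ koszul f := by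
  intro c
  induction c with
  | zero =>
    intro f _ n P hP he
    rw [eq_C_of_isEmpty P] at he ⊢
    rw [eval_C] at he
    simp [he]
  | succ c ihc =>
    intro f hf
    rw [List.ofFn_succ', List.concat_eq_append] at hf
    obtain ⟨h1, h2⟩ := (isWeaklyRegular_append_iff R _ _).mp hf
    set f' := f ∘ Fin.castSucc with hf'
    set g := f (Fin.last c) with hg_def
    have hg : ∀ x, g * x ∈ Ideal.span (Set.range f') → x ∈ Ideal.span (Set.range f') := by
      intro x hx
      have h4 : Ideal.ofList (List.ofFn fun i : Fin c => f i.castSucc) • (⊤ : Submodule R R) =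
          Ideal.span (Set.range f') := by
        rw [ofList_ofFn, smul_eq_mul, Ideal.mul_top]; rfl
      rw [← h4] at hx ⊢
      rw [← Submodule.Quotient.mk_eq_zero]
      apply (isWeaklyRegular_singleton_iff _ _).mp h2
      show g • Submodule.Quotient.mk x = g • 0
      rw [smul_zero, ← Submodule.Quotient.mk_smul, smul_eq_mul, Submodule.Quotient.mk_eq_zero]
      exact hx
    have hren : ∀ Q ∈ koszul f', rename Fin.castSucc Q ∈ koszul f := by
      intro Q hQ
      have : koszul f' ≤ Ideal.comap (rename Fin.castSucc) (koszul f) := by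
        rw [koszul, Ideal.span_le]
        rintro _ ⟨i, j, rfl⟩
        refine Ideal.subset_span ⟨i.castSucc, j.castSucc, ?_⟩
        simp [hf']
      exact this hQ
    intro n
    induction n with
    | zero =>
      intro P hP he
      obtain ⟨a, rfl⟩ : ∃ a, P = C a :=
        ⟨coeff 0 P, totalDegree_eq_zero_iff_eq_C.mp (Nat.eq_zero_of_le_zero hP.totalDegree_le)⟩
      rw [eval_C] at he
      simp [he]
    | succ n ihn =>
      intro P hP he
      obtain ⟨P0, P1, hP0, hP1, rfl⟩ := exists_split P hP
      rw [map_add, eval_mul, eval_X, eval_rename, ← hf', ← hg_def] at he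
      have hP1m : eval f P1 ∈ Ideal.span (Set.range f') ^ (n + 1) :=
        mem_pow_of_mul_mem_pow (isQuasiRegular_of_isWeaklyRegular h1) hg (n + 1)
          (eq_neg_of_add_eq_zero_right he ▸ neg_mem (eval_mem_span_pow _ hP0))
      rw [pow_succ] at hP1m
      obtain ⟨z, hz, hzs⟩ := (Submodule.mem_ideal_smul_span_iff_exists_sum _ _ _).mp hP1m
      choose K hK hKe using fun i => exists_homogeneous_of_mem_span_pow f' n (hz i)
      rw [Finsupp.sum_fintype _ _ (fun i => by simp)] at hzs
      set H : MvPolynomial (Fin c) R := ∑ i, X i * K i with hH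
      have hR : P1 - ∑ i, C (f' i) * rename Fin.castSucc (K i) ∈ koszul f := by
        refine ihn _ (hP1.sub (IsHomogeneous.sum _ _ _ fun i _ => (hK i).rename_isHomogeneous.C_mul _)) ?_
        simp only [map_sub, map_sum, eval_mul, eval_C, eval_rename, ← hf', hKe, ← hzs, smul_eq_mul]
        rw [sub_eq_zero]
        exact Finset.sum_congr rfl fun i _ => mul_comm _ _
      have hL : rename Fin.castSucc (P0 + C g * H) ∈ koszul f := by
        refine hren _ (ihc h1 (n + 1) _ (hP0.add ((IsHomogeneous.sum _ _ _ fun i _ =>
          isHomogeneous_X_mul i (hK i)).C_mul g)) ?_)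
        rw [← he, ← hzs]
        simp only [hH, map_add, eval_mul, eval_C, eval_X, map_sum, hKe, smul_eq_mul]
        congr 2
        refine Finset.sum_congr rfl fun i _ => ?_
        rw [show eval (fun j => f j.castSucc) (K i) = z i from hKe i, mul_comm]; rfl
      have hgen : ∑ i, (C (f' i) * X (Fin.last c) - C g * X i.castSucc) * rename Fin.castSucc (K i) ∈
          koszul f :=
        Submodule.sum_mem _ fun i _ => Ideal.mul_mem_right _ _ (Ideal.subset_span ⟨i.castSucc, Fin.last c, rfl⟩)
      have := add_mem (add_mem hL hgen) (Ideal.mul_mem_left _ (X (Fin.last c)) hR)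
      convert this using 1
      simp only [hH, map_add, map_mul, rename_C, map_sum, rename_X, mul_sub, sub_mul, Finset.mul_sum,
        Finset.sum_sub_distrib]
      simp only [mul_assoc, mul_comm, mul_left_comm]
      abel

theorem aeval_mul_hom {σ S : Type*} [CommRing S] [Algebra R S] (t : S) (y : σ → S) {n : ℕ}
    {Q : MvPolynomial σ R} (hQ : Q.IsHomogeneous n) :
    aeval (fun i => t * y i) Q = t ^ n * aeval y Q := by
  conv_lhs => rw [Q.as_sum]
  conv_rhs => rw [Q.as_sum]
  rw [map_sum, map_sum, Finset.mul_sum]
  refine Finset.sum_congr rfl fun d hd => ?_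
  have hdeg : ∑ i ∈ d.support, d i = n := by
    have := hQ (mem_support_iff.mp hd)
    rw [Finsupp.weight_apply] at this
    simpa [Finsupp.sum] using this
  simp only [aeval_monomial, Finsupp.prod, mul_pow, Finset.prod_mul_distrib, Finset.prod_pow_eq_pow_sum,
    hdeg]
  ring

end Groth.L14.QRR
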