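import Groth.Agent.L14.PPBase
import Mathlib.RingTheory.IsTensorProduct
import Mathlib.RingTheory.TensorProduct.Maps

/-! Base change of principal parts. -/

set_option autoImplicit false
set_option linter.style.haveILetI false
universe u

open scoped TensorProduct
attribute [local instance] PP16.mapAlgebra PP16.isScalarTower_mapAlgebra

namespace Groth.L14.PP

variable (n : ℕ) (A B A' B' : Type u) [CommRing A] [CommRing B] [Algebra A B]
    [CommRing A'] [CommRing B'] [Algebra A' B'] [Algebra A A'] [Algebra B B'] [Algebra A B']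
    [IsScalarTower A A' B'] [IsScalarTower A B B'] [Algebra.IsPushout A B A' B']

/-- Two algebra maps out of `P'` agreeing on the image of `P` are equal. -/
theorem P_hom_ext (T : Type u) [CommRing T] [Algebra B' T] (F G : PP16.P n A' B' →ₐ[B'] T)
    (h : ∀ x, F (PP16.map n A B A' B' x) = G (PP16.map n A B A' B' x)) : F = G := by
  letI : Algebra A' T := ((algebraMap B' T).comp (algebraMap A' B')).toAlgebra
  haveI : IsScalarTower A' B' T := IsScalarTower.of_algebraMap_eq fun _ => rfl
  letI : Algebra A T := ((algebraMap B' T).comp (algebraMap A B')).toAlgebra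
  haveI : IsScalarTower A B' T := IsScalarTower.of_algebraMap_eq fun _ => rfl
  haveI : IsScalarTower A A' T := IsScalarTower.of_algebraMap_eq fun a => by
    show algebraMap B' T (algebraMap A B' a) = algebraMap B' T (algebraMap A' B' (algebraMap A A' a))
    rw [← IsScalarTower.algebraMap_apply A A' B']
  have key : ∀ b' : B', F (PP16.dn n A' B' b') = G (PP16.dn n A' B' b') := by
    have e : (((F.restrictScalars A').comp (PP16.dn n A' B')).restrictScalars A) =
        (((G.restrictScalars A').comp (PP16.dn n A' B')).restrictScalars A) := by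
      apply Algebra.IsPushout.algHom_ext (R := A) (S := B) (R' := A')
      · refine AlgHom.ext fun a => ?_
        show F (PP16.dn n A' B' (algebraMap A' B' a)) = G (PP16.dn n A' B' (algebraMap A' B' a))
        rw [AlgHom.commutes, IsScalarTower.algebraMap_apply A' B' (PP16.P n A' B'), AlgHom.commutes, AlgHom.commutes]
      · refine AlgHom.ext fun b => ?_
        show F (PP16.dn n A' B' (algebraMap B B' b)) = G (PP16.dn n A' B' (algebraMap B B' b))
        rw [← PP16.map_dn n A B A' B', h]
    exact fun b' => AlgHom.congr_fun e b'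
  refine AlgHom.ext fun x => ?_
  exact LinearMap.eqOn_span (f := F.toLinearMap) (g := G.toLinearMap)
    (by rintro _ ⟨c, rfl⟩; exact key c)
    (show x ∈ Submodule.span B' (Set.range (PP16.dn n A' B')) by rw [span_range_dn]; trivial)

theorem exists_P_lift (Q : Type u) [CommRing Q] [Algebra B' Q] [Algebra B Q] [IsScalarTower B B' Q]
    (inR : PP16.P n A B →ₐ[B] Q) :
    ∃ Θ : PP16.P n A' B' →ₐ[B'] Q, ∀ x, Θ (PP16.map n A B A' B' x) = inR x := by
  letI : Algebra A' Q := ((algebraMap B' Q).comp (algebraMap A' B')).toAlgebra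
  haveI : IsScalarTower A' B' Q := IsScalarTower.of_algebraMap_eq fun _ => rfl
  letI : Algebra A Q := ((algebraMap B' Q).comp (algebraMap A B')).toAlgebra
  haveI : IsScalarTower A B' Q := IsScalarTower.of_algebraMap_eq fun _ => rfl
  haveI : IsScalarTower A A' Q := IsScalarTower.of_algebraMap_eq fun a => by
    show algebraMap B' Q (algebraMap A B' a) = algebraMap B' Q (algebraMap A' B' (algebraMap A A' a))
    rw [← IsScalarTower.algebraMap_apply A A' B']
  haveI : IsScalarTower A B Q := IsScalarTower.of_algebraMap_eq fun a => by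
    show algebraMap B' Q (algebraMap A B' a) = algebraMap B Q (algebraMap A B a)
    rw [IsScalarTower.algebraMap_apply B B' Q, ← IsScalarTower.algebraMap_apply A B B']
  let f : B →ₐ[A] Q := (inR.restrictScalars A).comp (PP16.dn n A B)
  let g : A' →ₐ[A] Q := IsScalarTower.toAlgHom A A' Q
  let ψ₀ : B' →ₐ[A] Q := Algebra.pushoutDesc B' f g (fun x y => mul_comm (f x) (g y))
  let ψ : B' →ₐ[A'] Q :=
    { ψ₀.toRingHom with
      commutes' := fun a => by
        show ψ₀ (algebraMap A' B' a) = _
        exact Algebra.pushoutDesc_right B' f g _ a }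
  have hψB : ∀ b : B, ψ (algebraMap B B' b) = inR (PP16.dn n A B b) := fun b => Algebra.pushoutDesc_left B' f g _ b
  let θ : B' ⊗[A'] B' →ₐ[B'] Q := Algebra.TensorProduct.lift (Algebra.ofId B' Q) ψ (fun x y => mul_comm _ _)
  have hθl : ∀ b' : B', θ (b' ⊗ₜ 1) = algebraMap B' Q b' := fun b' => by
    rw [Algebra.TensorProduct.lift_tmul, map_one, mul_one]; rfl
  have hθr : ∀ b' : B', θ (1 ⊗ₜ b') = ψ b' := fun b' => by
    rw [Algebra.TensorProduct.lift_tmul, map_one, one_mul]
  let J : Ideal Q := (PP16.augIdeal n A B).map inR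
  have hJ : J ^ (n + 1) = ⊥ := by
    show (PP16.augIdeal n A B).map inR ^ (n + 1) = ⊥
    rw [← Ideal.map_pow, PP16.augIdeal, ← Ideal.map_pow, Ideal.map_quotient_self, Ideal.map_bot]
  have hmod : (Ideal.Quotient.mkₐ A J).comp ψ₀ =
      (Ideal.Quotient.mkₐ A J).comp (IsScalarTower.toAlgHom A B' Q) := by
    apply Algebra.IsPushout.algHom_ext (R := A) (S := B) (R' := A')
    · refine AlgHom.ext fun a => ?_
      show Ideal.Quotient.mk J (ψ₀ (algebraMap A' B' a)) = Ideal.Quotient.mk J (algebraMap B' Q (algebraMap A' B' a))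
      rw [show ψ₀ (algebraMap A' B' a) = g a from Algebra.pushoutDesc_right B' f g _ a]; rfl
    · refine AlgHom.ext fun b => ?_
      show Ideal.Quotient.mk J (ψ (algebraMap B B' b)) = Ideal.Quotient.mk J (algebraMap B' Q (algebraMap B B' b))
      rw [hψB, Ideal.Quotient.eq, ← IsScalarTower.algebraMap_apply B B' Q, ← inR.commutes, ← map_sub]
      refine Ideal.mem_map_of_mem _ ?_
      show Ideal.Quotient.mk _ ((1 : B) ⊗ₜ[A] b) - Ideal.Quotient.mk _ (b ⊗ₜ[A] (1 : B)) ∈ _
      rw [← map_sub]
      exact Ideal.mem_map_of_mem _ (KaehlerDifferential.one_smul_sub_smul_one_mem_ideal A b)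
  have hI : KaehlerDifferential.ideal A' B' ^ (n + 1) ≤ RingHom.ker θ := by
    have h := map_I_le A' B' θ.toRingHom J (fun s => by
      show θ _ ∈ J
      rw [map_sub, hθl, hθr, ← Ideal.Quotient.eq]
      exact AlgHom.congr_fun hmod s)
    intro x hx
    have h2 := Ideal.pow_right_mono h (n + 1) (Ideal.map_pow θ.toRingHom _ _ ▸ Ideal.mem_map_of_mem θ.toRingHom hx)
    rw [hJ] at h2
    exact h2
  refine ⟨Ideal.Quotient.liftₐ _ θ (fun x hx => hI hx), fun x => ?_⟩
  obtain ⟨x, rfl⟩ := Ideal.Quotient.mk_surjective x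
  rw [PP16.map_mk]
  show θ (PP16.tensorMap A B A' B' x) = inR (Ideal.Quotient.mk _ x)
  induction x using TensorProduct.induction_on with
  | zero => simp
  | add x y hx hy => rw [map_add, map_add, map_add, map_add, hx, hy]
  | tmul b c =>
    rw [PP16.tensorMap_tmul, Algebra.TensorProduct.lift_tmul, hψB]
    show algebraMap B' Q (algebraMap B B' b) * _ = _
    rw [← IsScalarTower.algebraMap_apply B B' Q, ← inR.commutes, ← map_mul]
    congr 1
    show Ideal.Quotient.mk _ (b ⊗ₜ[A] (1 : B)) * Ideal.Quotient.mk _ ((1 : B) ⊗ₜ[A] c) = _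
    rw [← map_mul, Algebra.TensorProduct.tmul_mul_tmul, mul_one, one_mul]

theorem isPushout_P : Algebra.IsPushout B (PP16.P n A B) B' (PP16.P n A' B') := by
  let φ : PP16.P n A B →ₐ[B] PP16.P n A' B' := IsScalarTower.toAlgHom B _ _
  have hφ : ∀ x, φ x = PP16.map n A B A' B' x := fun x => rfl
  let Φ : B' ⊗[B] PP16.P n A B →ₐ[B'] PP16.P n A' B' :=
    Algebra.TensorProduct.lift (Algebra.ofId B' _) φ (fun _ _ => Commute.all _ _)
  have hΦr : ∀ x, Φ (1 ⊗ₜ x) = φ x := fun x => by
    rw [Algebra.TensorProduct.lift_tmul, map_one, one_mul]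
  obtain ⟨Θ, hΘ⟩ := exists_P_lift n A B A' B' (B' ⊗[B] PP16.P n A B) Algebra.TensorProduct.includeRight
  have h1 : Φ.comp Θ = AlgHom.id B' _ := P_hom_ext n A B A' B' _ _ _ fun x => by
    rw [AlgHom.comp_apply, hΘ]
    exact hΦr x
  have h2 : Θ.comp Φ = AlgHom.id B' _ := by
    refine Algebra.TensorProduct.ext (AlgHom.ext fun b' => ?_) (AlgHom.ext fun x => ?_)
    · show Θ (Φ (b' ⊗ₜ 1)) = b' ⊗ₜ 1
      rw [Algebra.TensorProduct.lift_tmul, map_one, mul_one]
      exact Θ.commutes b'
    · show Θ (Φ (1 ⊗ₜ x)) = 1 ⊗ₜ x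
      rw [hΦr, hφ, hΘ]; rfl
  let e : B' ⊗[B] PP16.P n A B ≃ₐ[B'] PP16.P n A' B' := AlgEquiv.ofAlgHom Φ Θ h1 h2
  letI : Algebra (PP16.P n A B) (B' ⊗[B] PP16.P n A B) := Algebra.TensorProduct.rightAlgebra
  haveI : IsScalarTower B (PP16.P n A B) (B' ⊗[B] PP16.P n A B) := Algebra.TensorProduct.right_isScalarTower
  exact (Algebra.IsPushout.of_equiv (h := TensorProduct.isPushout) e (RingHom.ext fun x => hΦr x)).symm

end Groth.L14.PP
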