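import Groth.Prelude.Def_PP16
import Groth.Agent.L07.DiffOp
import Mathlib.Tactic

namespace Groth.L14.PP

open scoped TensorProduct

universe u
variable {n : ℕ} {A B : Type u} [CommRing A] [CommRing B] [Algebra A B]

/-- `mk z` in the synonym. -/
noncomputable def mkPr (n : ℕ) (z : B ⊗[A] B) : PP16.Pr n A B :=
  (Ideal.Quotient.mk (KaehlerDifferential.ideal A B ^ (n + 1)) z : PP16.P n A B)

theorem mkPr_surjective : Function.Surjective (mkPr (A := A) (B := B) n) := fun p =>
  Ideal.Quotient.mk_surjective (p : PP16.P n A B)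

theorem mkPr_add (z w : B ⊗[A] B) : mkPr n (z + w) = mkPr n z + mkPr n w := map_add _ z w

theorem smul_mkPr (b : B) (z : B ⊗[A] B) : b • mkPr n z = mkPr n (((1 : B) ⊗ₜ b) * z) := by
  rw [Algebra.smul_def]; rfl

theorem diagIdeal_eq : Groth.L07.DiffOp.diagIdeal A B B = KaehlerDifferential.ideal A B := by
  rw [← KaehlerDifferential.span_range_eq_ideal]
  rfl

variable {M N : Type u} [AddCommGroup M] [Module A M] [Module B M] [IsScalarTower A B M]
  [AddCommGroup N] [Module A N] [Module B N] [IsScalarTower A B N]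

theorem left_smul (c : B) (z : B ⊗[A] B) (m : M) :
    algebraMap B (PP16.P n A B) c • (mkPr n z ⊗ₜ[B] m : PP16.PM n A B M) =
      mkPr n ((c ⊗ₜ (1 : B)) * z) ⊗ₜ[B] m := rfl

theorem value_eq (D : M →ₗ[A] N) (u : PP16.PM n A B M →+ N)
    (h1 : ∀ (b : B) (t : PP16.PM n A B M), u (algebraMap B (PP16.P n A B) b • t) = b • u t)
    (h2 : ∀ m : M, u (PP16.dM n A B M m) = D m) (z : B ⊗[A] B) (m : M) :
    u (mkPr n z ⊗ₜ[B] m) = Groth.L07.DiffOp.act D z m := by
  induction z using TensorProduct.induction_on with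
  | zero =>
    rw [show mkPr n (0 : B ⊗[A] B) = 0 from map_zero _, TensorProduct.zero_tmul, map_zero, map_zero]
    rfl
  | add z w hz hw => rw [mkPr_add, TensorProduct.add_tmul, map_add, map_add, LinearMap.add_apply, hz, hw]
  | tmul c b =>
    rw [Groth.L07.DiffOp.act_tmul, ← h2 (b • m),
      show mkPr n (c ⊗ₜ[A] b) = mkPr n ((c ⊗ₜ (1 : B)) * (((1 : B) ⊗ₜ b) * 1)) by
        rw [mul_one, Algebra.TensorProduct.tmul_mul_tmul, mul_one, one_mul],
      ← left_smul, h1, ← smul_mkPr, TensorProduct.smul_tmul]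
    rfl

theorem factor_iff (D : M →ₗ[A] N) :
    Diff16.IsDiffOpLE A B M N n D ↔
      ∃! u : PP16.PM n A B M →+ N,
        (∀ (b : B) (t : PP16.PM n A B M), u (algebraMap B (PP16.P n A B) b • t) = b • u t) ∧
          ∀ m : M, u (PP16.dM n A B M m) = D m := by
  rw [Groth.L07.DiffOp.isDiffOpLE_iff_act_diagIdeal_pow (B' := B), diagIdeal_eq]
  constructor
  · intro h
    have hwd : ∀ z ∈ KaehlerDifferential.ideal A B ^ (n + 1), (Groth.L07.DiffOp.act D).toAddMonoidHom z = 0 := h
    let f0 : PP16.Pr n A B →+ (M →+ N) := (LinearMap.toAddMonoidHom' : (M →ₗ[A] N) →+ (M →+ N)).comp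
      (QuotientAddGroup.lift (Submodule.toAddSubgroup (KaehlerDifferential.ideal A B ^ (n + 1)))
        (Groth.L07.DiffOp.act D).toAddMonoidHom hwd)
    have hf0 : ∀ z m, f0 (mkPr n z) m = Groth.L07.DiffOp.act D z m := fun z m => rfl
    have hbal : ∀ (b : B) (p : PP16.Pr n A B) (m : M), f0 (b • p) m = f0 p (b • m) := by
      intro b p m
      obtain ⟨z, rfl⟩ := mkPr_surjective p
      rw [smul_mkPr, hf0, hf0, Groth.L07.DiffOp.act_apply_smul]
    let u := TensorProduct.liftAddHom f0 hbal
    have hu1 : ∀ (b : B) (t : PP16.PM n A B M), u (algebraMap B (PP16.P n A B) b • t) = b • u t := by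
      intro b t
      induction t using TensorProduct.induction_on with
      | zero => simp
      | add x y hx hy => rw [smul_add, map_add, map_add, hx, hy, smul_add]
      | tmul p m =>
        obtain ⟨z, rfl⟩ := mkPr_surjective p
        rw [left_smul]
        show f0 _ m = b • f0 _ m
        rw [hf0, hf0, Groth.L07.DiffOp.act_tmul_one_mul]
        rfl
    have hu2 : ∀ m : M, u (PP16.dM n A B M m) = D m := fun m => by
      show f0 (mkPr n 1) m = D m
      rw [hf0, Groth.L07.DiffOp.act_one]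
    refine ⟨u, ⟨hu1, hu2⟩, fun u' hu' => AddMonoidHom.ext fun t => ?_⟩
    induction t using TensorProduct.induction_on with
    | zero => simp
    | add x y hx hy => rw [map_add, map_add, hx, hy]
    | tmul p m =>
      obtain ⟨z, rfl⟩ := mkPr_surjective p
      rw [value_eq D u' hu'.1 hu'.2, value_eq D u hu1 hu2]
  · rintro ⟨u, ⟨h1, h2⟩, -⟩ z hz
    ext m
    rw [← value_eq D u h1 h2, show mkPr n z = 0 from Ideal.Quotient.eq_zero_iff_mem.mpr hz,
      TensorProduct.zero_tmul, map_zero]
    rfl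

end Groth.L14.PP
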