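import Mathlib.Algebra.BigOperators.Ring.Finset
import Mathlib.Data.Nat.Choose.Sum
import Mathlib.Data.Nat.Choose.Cast
import Mathlib.Tactic.Ring
import Mathlib.Tactic.FieldSimp
import Mathlib.Tactic.LinearCombination
import Mathlib.Tactic.Linarith
import Mathlib.Tactic.IntervalCases

namespace Groth.L14.AltSum

open Finset

def T (n k : ℕ) : ℤ := ∑ j ∈ range (n + 1), (-1 : ℤ) ^ (n - j) * (n.choose j : ℤ) * (j : ℤ) ^ k

theorem T_succ (n k : ℕ) : T (n + 1) (k + 1) = ((n : ℤ) + 1) * ∑ l ∈ range (k + 1), (k.choose l : ℤ) * T n l := by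
  simp only [T, Finset.mul_sum]
  rw [Finset.sum_comm, Finset.sum_range_succ']
  simp only [Nat.cast_zero, zero_pow (Nat.succ_ne_zero k), mul_zero, add_zero]
  refine Finset.sum_congr rfl fun i hi => ?_
  have habs : ((n + 1).choose (i + 1) : ℤ) * ((i + 1 : ℕ) : ℤ) = ((n : ℤ) + 1) * (n.choose i : ℤ) := by
    exact_mod_cast (Nat.add_one_mul_choose_eq n i).symm
  calc (-1 : ℤ) ^ (n + 1 - (i + 1)) * ((n + 1).choose (i + 1) : ℤ) * ((i + 1 : ℕ) : ℤ) ^ (k + 1)
      = (-1 : ℤ) ^ (n - i) * (((n + 1).choose (i + 1) : ℤ) * ((i + 1 : ℕ) : ℤ)) * ((i + 1 : ℕ) : ℤ) ^ k := by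
        rw [Nat.add_sub_add_right, pow_succ]; ring
    _ = _ := by
        rw [habs, Nat.cast_succ, add_pow, Finset.mul_sum]
        refine Finset.sum_congr rfl fun l _ => ?_
        simp only [one_pow, mul_one]
        ring

theorem T_eq (n : ℕ) : ∀ k, k ≤ n + 1 →
    T n k = if k = n + 1 then (((n + 1).choose 2 * n.factorial : ℕ) : ℤ)
        else if k = n then (n.factorial : ℤ) else 0 := by
  induction n with
  | zero =>
    intro k hk
    interval_cases k <;> simp [T]
  | succ n ih =>
    intro k hk
    rcases k with _ | k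
    · simp only [T, pow_zero, mul_one]
      have h := add_pow (1 : ℤ) (-1) (n + 1)
      simp only [add_neg_cancel, one_pow, one_mul, zero_pow (Nat.succ_ne_zero n)] at h
      simp only [if_neg (show ¬(0 = n + 1 + 1) by omega), if_neg (show ¬(0 = n + 1) by omega)]
      exact h.symm
    · rw [T_succ]
      rw [Finset.sum_congr rfl (fun l hl => by rw [ih l (by simp at hl; omega)])]
      rcases lt_trichotomy k n with h | h | h
      · rw [Finset.sum_eq_zero fun l hl => ?_]
        · simp [show k ≠ n + 1 by omega, show k ≠ n by omega]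
        · simp at hl; simp [show l ≠ n + 1 by omega, show l ≠ n by omega]
      · subst h
        rw [Finset.sum_range_succ, Finset.sum_eq_zero fun l hl => ?_]
        · simp [Nat.factorial_succ]
        · simp at hl; simp [show l ≠ k + 1 by omega, show l ≠ k by omega]
      · have hk' : k = n + 1 := by omega
        subst hk'
        rw [Finset.sum_range_succ, Finset.sum_range_succ, Finset.sum_eq_zero fun l hl => ?_]
        · rw [if_neg (by omega), if_pos rfl, if_pos rfl, if_pos rfl, Nat.choose_succ_self_right,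
            Nat.choose_self, show (n + 1 + 1).choose 2 = (n + 1) + (n + 1).choose 2 by
              rw [show (2 : ℕ) = 1 + 1 from rfl, Nat.choose_succ_succ (n + 1) 1, Nat.choose_one_right]]
          rw [Nat.factorial_succ]
          push_cast; ring
        · simp at hl; simp [show l ≠ n + 1 by omega, show l ≠ n by omega]

theorem identity {A : Type*} [CommRing A] (x y : A) (n : ℕ) :
    ((n + 1).factorial : A) * x * y ^ n =
      (∑ j ∈ Finset.range (n + 1), (-1 : A) ^ (n - j) * (n.choose j : A) * (x + (j : A) * y) ^ (n + 1))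
        - ((n * (n + 1).factorial / 2 : ℕ) : A) * y ^ (n + 1) := by
  have h : ∀ j ∈ Finset.range (n + 1), (-1 : A) ^ (n - j) * (n.choose j : A) * (x + (j : A) * y) ^ (n + 1) =
      ∑ m ∈ range (n + 1 + 1), ((((-1 : ℤ) ^ (n - j) * (n.choose j : ℤ) * (j : ℤ) ^ m : ℤ) : A)) *
        (((n + 1).choose m : A) * x ^ (n + 1 - m) * y ^ m) := by
    intro j _
    rw [add_comm x, add_pow, Finset.mul_sum]
    refine Finset.sum_congr rfl fun m _ => ?_
    push_cast; rw [mul_pow]; ring
  rw [Finset.sum_congr rfl h, Finset.sum_comm]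
  have hm2 : ∀ m ∈ range (n + 1 + 1), (∑ j ∈ range (n + 1), ((((-1 : ℤ) ^ (n - j) * (n.choose j : ℤ) * (j : ℤ) ^ m : ℤ) : A)) *
        (((n + 1).choose m : A) * x ^ (n + 1 - m) * y ^ m)) =
      ((if m = n + 1 then (((n + 1).choose 2 * n.factorial : ℕ) : ℤ) else if m = n then (n.factorial : ℤ) else 0 : ℤ) : A) *
        (((n + 1).choose m : A) * x ^ (n + 1 - m) * y ^ m) := by
    intro m hm
    rw [← Finset.sum_mul, ← Int.cast_sum, ← T_eq n m (by simp at hm; omega), T]
  rw [Finset.sum_congr rfl hm2]
  rw [Finset.sum_range_succ, Finset.sum_range_succ, Finset.sum_eq_zero fun m hm => ?_]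
  · have h2 : n * (n + 1).factorial / 2 = (n + 1).choose 2 * n.factorial := by
      have h3 := Nat.add_one_mul_choose_eq n 1
      have h4 : 2 * ((n + 1).choose 2 * n.factorial) = n * (n + 1).factorial := by
        rw [Nat.factorial_succ]
        rw [Nat.choose_one_right] at h3
        calc 2 * ((n + 1).choose 2 * n.factorial) = ((n+1).choose (1 + 1) * (1 + 1)) * n.factorial := by ring
          _ = (n + 1) * n * n.factorial := by rw [← h3]
          _ = _ := by ring
      rw [← h4, Nat.mul_div_cancel_left _ (by omega)]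
    rw [h2]
    simp [Nat.choose_succ_self_right, Nat.factorial_succ]
    ring
  · simp at hm; simp [show m ≠ n + 1 by omega, show m ≠ n by omega]

end Groth.L14.AltSum
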