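import Groth.Prelude.Def_W4c2arithlefschetzGraph
import Mathlib.LinearAlgebra.Matrix.ToLinearEquiv
import Mathlib.Algebra.Order.BigOperators.Group.Finset
import Mathlib.Tactic

/-!
Trace identity for dual graphs of iterated point blow-ups.
-/

open Finset Matrix

namespace Groth.L14.BlowGraph

open ArLef ArLef.BlowupGraph

variable {n : ℕ} (G : ArLef.BlowupGraph n)

/-- Parent matrix. -/
def pmat : Matrix (Fin n) (Fin n) ℚ := Matrix.of fun p m => if p ∈ G.par m then 1 else 0

/-- Total transforms. -/
def tmat : Matrix (Fin n) (Fin n) ℚ := Matrix.of fun k m => (G.tt k m : ℚ)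

theorem tt_rec (k m : Fin n) : G.tt k m = (if k = m then 1 else 0) + ∑ p ∈ G.par m, G.tt k p := by
  have hparN : G.parN m.1 = (G.par m).map Fin.valEmbedding := by
    rw [BlowupGraph.parN, dif_pos m.isLt]
  have hlow : ∀ p ∈ G.par m, m.1 ≤ k.1 → G.tt k p = 0 := by
    intro p hp hmk
    rw [BlowupGraph.tt, BlowupGraph.ttN,
      if_pos (show p.1 < k.1 from lt_of_lt_of_le (Fin.lt_def.mp (G.par_lt m p hp)) hmk)]
  rcases lt_trichotomy m.1 k.1 with h | h | h
  · rw [if_neg (fun e => by subst e; omega), Finset.sum_eq_zero (fun p hp => hlow p hp h.le), add_zero,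
      BlowupGraph.tt, BlowupGraph.ttN, if_pos h]
  · rw [if_pos (Fin.ext h.symm), Finset.sum_eq_zero (fun p hp => hlow p hp h.le), add_zero,
      BlowupGraph.tt, BlowupGraph.ttN, if_neg (by omega), if_pos h]
  · rw [if_neg (fun e => by subst e; omega), zero_add, BlowupGraph.tt, BlowupGraph.ttN, if_neg (by omega),
      if_neg (by omega), Finset.sum_attach (G.parN m.1) (fun p => G.ttN k.1 p), hparN, Finset.sum_map]
    rfl

theorem tmat_mul : tmat G * (1 - pmat G) = 1 := by
  refine Matrix.ext fun k m => ?_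
  rw [Matrix.mul_sub, Matrix.mul_one, Matrix.sub_apply, Matrix.mul_apply, Matrix.one_apply]
  have h : ∑ p, tmat G k p * pmat G p m = ∑ p ∈ G.par m, (G.tt k p : ℚ) := by
    simp [tmat, pmat, Finset.sum_ite_mem]
  rw [h, tmat, Matrix.of_apply, tt_rec]
  push_cast
  split_ifs <;> ring

theorem mat_eq : G.mat = -((1 - pmat G) * (1 - pmat G)ᵀ) := by
  classical
  refine Matrix.ext fun p q => ?_
  have h : ((1 - pmat G) * (1 - pmat G)ᵀ : Matrix (Fin n) (Fin n) ℚ) p q =
      (if p = q then 1 else 0) - pmat G p q - pmat G q p + ∑ m, pmat G p m * pmat G q m := by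
    rw [Matrix.transpose_sub, Matrix.transpose_one, Matrix.sub_mul, Matrix.mul_sub, Matrix.mul_sub]
    simp only [Matrix.one_mul, Matrix.mul_one, Matrix.sub_apply, Matrix.mul_apply, Matrix.transpose_apply,
      Matrix.one_apply]
    ring
  rw [Matrix.neg_apply, h]
  have hdiag : ∀ x, pmat G x x = 0 := fun x => by
    simp only [pmat, Matrix.of_apply]
    rw [if_neg fun hx => lt_irrefl x (G.par_lt x x hx)]
  by_cases hpq : p = q
  · subst hpq
    rw [BlowupGraph.mat, if_pos rfl, if_pos rfl, hdiag, BlowupGraph.selfInt]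
    have : ∑ m, pmat G p m * pmat G p m = ((Finset.univ.filter fun m => p ∈ G.par m).card : ℚ) := by
      rw [Finset.sum_congr rfl (fun m _ => show pmat G p m * pmat G p m = if p ∈ G.par m then (1:ℚ) else 0 by
        simp only [pmat, Matrix.of_apply]; split_ifs <;> simp), Finset.sum_boole]
    rw [this]
    push_cast
    ring
  · rw [BlowupGraph.mat, if_neg hpq, if_neg hpq]
    have hsub : ∀ m, p ∈ G.par m → q ∈ G.par m → G.par m = {p, q} := fun m hp hq =>
      (Finset.eq_of_subset_of_card_le (by
        intro x hx; rw [Finset.mem_insert, Finset.mem_singleton] at hx; rcases hx with rfl | rfl <;> assumption)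
        (by rw [Finset.card_pair hpq]; exact G.card_le_two m)).symm
    have hanti : ¬ (p ∈ G.par q ∧ q ∈ G.par p) := fun h => lt_asymm (G.par_lt _ _ h.1) (G.par_lt _ _ h.2)
    by_cases hex : ∃ m, p ∈ G.par m ∧ q ∈ G.par m
    · obtain ⟨m, hpm, hqm⟩ := hex
      have hm := hsub m hpm hqm
      have huniq : ∀ m', p ∈ G.par m' → q ∈ G.par m' → m' = m := by
        intro m' hp' hq'
        have hm' := hsub m' hp' hq'
        by_contra hne
        rcases lt_or_gt_of_ne hpq with hlt | hlt
        · rcases lt_or_gt_of_ne hne with h1 | h1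
          · exact (G.meet_of_two m p q hpm hqm hlt).2 m' (G.par_lt _ _ hq') h1 hm'
          · exact (G.meet_of_two m' p q hp' hq' hlt).2 m (G.par_lt _ _ hqm) h1 hm
        · rcases lt_or_gt_of_ne hne with h1 | h1
          · exact (G.meet_of_two m q p hqm hpm hlt).2 m' (G.par_lt _ _ hp') h1 (hm'.trans (Finset.pair_comm p q))
          · exact (G.meet_of_two m' q p hq' hp' hlt).2 m (G.par_lt _ _ hpm) h1 (hm.trans (Finset.pair_comm p q))
      have hsum : ∑ x, pmat G p x * pmat G q x = 1 := by
        rw [Finset.sum_eq_single m]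
        · simp [pmat, hpm, hqm]
        · intro x _ hx
          by_cases h1 : p ∈ G.par x
          · by_cases h2 : q ∈ G.par x
            · exact absurd (huniq x h1 h2) hx
            · simp [pmat, h2]
          · simp [pmat, h1]
        · intro hh; exact absurd (Finset.mem_univ m) hh
      have hadj : ¬ G.Adj p q := by
        rintro (⟨-, h2⟩ | ⟨-, h2⟩)
        · exact h2 m (G.par_lt _ _ hqm) hm
        · exact h2 m (G.par_lt _ _ hpm) (hm.trans (Finset.pair_comm p q))
      have hor : p ∈ G.par q ∨ q ∈ G.par p := by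
        rcases lt_or_gt_of_ne hpq with hlt | hlt
        · exact Or.inl (G.meet_of_two m p q hpm hqm hlt).1
        · exact Or.inr (G.meet_of_two m q p hqm hpm hlt).1
      rw [hsum, if_neg hadj]
      rcases hor with h1 | h1
      · simp [pmat, h1, show q ∉ G.par p from fun h2 => hanti ⟨h1, h2⟩]
      · simp [pmat, h1, show p ∉ G.par q from fun h2 => hanti ⟨h2, h1⟩]
    · push Not at hex
      have hsum : ∑ x, pmat G p x * pmat G q x = 0 := Finset.sum_eq_zero fun x _ => by
        by_cases h1 : p ∈ G.par x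
        · simp [pmat, hex x h1]
        · simp [pmat, h1]
      have hne : ∀ m, G.par m ≠ {p, q} := fun m hm => hex m (by rw [hm]; simp) (by rw [hm]; simp)
      have hadj : G.Adj p q ↔ p ∈ G.par q ∨ q ∈ G.par p := by
        constructor
        · rintro (⟨h1, -⟩ | ⟨h1, -⟩)
          · exact Or.inl h1
          · exact Or.inr h1
        · rintro (h1 | h1)
          · exact Or.inl ⟨h1, fun m _ => hne m⟩
          · exact Or.inr ⟨h1, fun m _ hm => hne m (hm.trans (Finset.pair_comm q p))⟩
      rw [hsum]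
      by_cases h1 : p ∈ G.par q
      · rw [if_pos (hadj.mpr (Or.inl h1))]
        simp [pmat, h1, show q ∉ G.par p from fun h2 => hanti ⟨h1, h2⟩]
      · by_cases h2 : q ∈ G.par p
        · rw [if_pos (hadj.mpr (Or.inr h2))]
          simp [pmat, h1, h2]
        · rw [if_neg (fun h => (hadj.mp h).elim h1 h2)]
          simp [pmat, h1, h2]

theorem mult_eq : (Matrix.of fun i j => (G.mult i j : ℚ)) = (tmat G)ᵀ * tmat G := by
  refine Matrix.ext fun i j => ?_
  simp [BlowupGraph.mult, tmat, Matrix.mul_apply]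

theorem mat_mul_mult : G.mat * ((tmat G)ᵀ * tmat G) = -1 := by
  have h1 : (1 - pmat G) * tmat G = 1 := mul_eq_one_comm.mp (tmat_mul G)
  rw [mat_eq, Matrix.neg_mul,
    show (1 - pmat G) * (1 - pmat G)ᵀ * ((tmat G)ᵀ * tmat G) = (1 - pmat G) * (((tmat G) * (1 - pmat G))ᵀ) * tmat G by
      rw [Matrix.transpose_mul]; simp only [Matrix.mul_assoc],
    tmat_mul, Matrix.transpose_one, Matrix.mul_one, h1]

theorem mat_symm (i j : Fin n) : G.mat i j = G.mat j i := by
  have : G.matᵀ = G.mat := by
    rw [mat_eq, Matrix.transpose_neg, Matrix.transpose_mul, Matrix.transpose_transpose]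
  exact (congrFun (congrFun this j) i :)

theorem isUnit_det_sub (I : Finset (Fin n)) :
    IsUnit (G.mat.submatrix (fun x : I => x.1) (fun x : I => x.1)).det := by
  classical
  rw [isUnit_iff_ne_zero]
  intro h0
  obtain ⟨v, hv, hv0⟩ := Matrix.exists_mulVec_eq_zero_iff.mpr h0
  let u : Fin n → ℚ := fun i => if h : i ∈ I then v ⟨i, h⟩ else 0
  have hsum : ∀ (f : Fin n → ℚ), ∑ i, f i * u i = ∑ a : I, f a.1 * v a := by
    intro f
    rw [← Finset.sum_subset (Finset.subset_univ I) fun i _ hi => by simp [u, hi], ← Finset.sum_coe_sort I]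
    exact Finset.sum_congr rfl fun a _ => by simp [u]
  set w := G.mat.mulVec u with hw
  have hquad : u ⬝ᵥ w = 0 := by
    rw [dotProduct]
    simp_rw [mul_comm (u _)]
    rw [hsum]
    refine Finset.sum_eq_zero fun a _ => ?_
    have : w a.1 = 0 := by
      rw [hw, Matrix.mulVec, dotProduct, hsum]
      exact congrFun hv0 a
    rw [this, zero_mul]
  have hu : u = -(((tmat G)ᵀ * tmat G).mulVec w) := by
    rw [hw, Matrix.mulVec_mulVec,
      show (tmat G)ᵀ * tmat G * G.mat = -1 by
        have h := mat_mul_mult G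
        have h' : (-G.mat) * ((tmat G)ᵀ * tmat G) = 1 := by rw [Matrix.neg_mul, h, neg_neg]
        have := mul_eq_one_comm.mp h'
        rw [Matrix.mul_neg] at this
        rw [← this, neg_neg],
      Matrix.neg_mulVec, Matrix.one_mulVec, neg_neg]
  have hTw : (tmat G).mulVec w = 0 := by
    have h2 : ((tmat G).mulVec w) ⬝ᵥ ((tmat G).mulVec w) = 0 := by
      rw [Matrix.dotProduct_mulVec, ← Matrix.mulVec_transpose, Matrix.mulVec_mulVec]
      have : ((tmat G)ᵀ * tmat G).mulVec w = -u := by rw [hu, neg_neg]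
      rw [this, neg_dotProduct, hquad, neg_zero]
    funext i
    rw [dotProduct] at h2
    exact mul_self_eq_zero.mp ((Finset.sum_eq_zero_iff_of_nonneg fun x _ => mul_self_nonneg _).mp h2 i (mem_univ i))
  apply hv
  funext a
  have hua : u a.1 = v a := by simp [u]
  rw [← hua, hu, ← Matrix.mulVec_mulVec, hTw, Matrix.mulVec_zero]
  simp

theorem lNum_eq (I : Finset (Fin n)) (σ : Equiv.Perm (Fin n)) : G.lNum I σ = BlowupGraph.rNum I σ := by
  classical
  set W := (G.mat.submatrix (fun x : I => x.1) (fun x : I => x.1))⁻¹ with hW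
  set N := (tmat G)ᵀ * tmat G with hN
  have hMN : ∀ i j, ∑ k, G.mat i k * N k j = -(if i = j then 1 else 0) := fun i j => by
    have := congrFun (congrFun (mat_mul_mult G) i) j
    rwa [Matrix.mul_apply, Matrix.neg_apply, Matrix.one_apply] at this
  have hzero : ∀ a j, j ∈ I → G.pairing I a j = 0 := by
    intro a j hj
    rw [BlowupGraph.pairing, ← hW]
    have h1 : ∀ x : I, ∑ b : I, W x b * G.mat b.1 j = if x = ⟨j, hj⟩ then 1 else 0 := fun x => by
      have := congrFun (congrFun (Matrix.nonsing_inv_mul _ (isUnit_det_sub G I)) x) ⟨j, hj⟩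
      rwa [Matrix.mul_apply, Matrix.one_apply] at this
    simp only [mul_assoc, ← Finset.mul_sum, h1]
    simp
  have hsymm : ∀ i j, N i j = N j i := fun i j => by
    simp [hN, Matrix.mul_apply, mul_comm]
  have hmult : ∀ i j, (G.mult i j : ℚ) = N i j := fun i j => congrFun (congrFun (mult_eq G) i) j
  have hrow : ∀ i, i ∉ I → ∑ j, N i j * G.pairing I (σ i) j = -(if σ i = i then 1 else 0) := by
    intro i hi
    simp only [BlowupGraph.pairing, ← hW, mul_sub, Finset.sum_sub_distrib, Finset.mul_sum]
    have hA : ∑ j, N i j * G.mat (σ i) j = -(if σ i = i then 1 else 0) := by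
      rw [← hMN (σ i) i]
      exact Finset.sum_congr rfl fun j _ => by rw [hsymm i j, mul_comm]
    have hB : ∑ j, ∑ a : I, ∑ b : I, N i j * (G.mat (σ i) a.1 * W a b * G.mat b.1 j) = 0 := by
      rw [Finset.sum_comm]
      refine Finset.sum_eq_zero fun a _ => ?_
      rw [Finset.sum_comm]
      refine Finset.sum_eq_zero fun b _ => ?_
      have hne : b.1 ≠ i := fun h => hi (h ▸ b.2)
      calc ∑ j, N i j * (G.mat (σ i) a.1 * W a b * G.mat b.1 j)
          = G.mat (σ i) a.1 * W a b * ∑ j, G.mat b.1 j * N j i := by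
            rw [Finset.mul_sum]
            exact Finset.sum_congr rfl fun j _ => by rw [hsymm i j]; ring
        _ = 0 := by rw [hMN, if_neg hne, neg_zero, mul_zero]
    rw [hA, hB, sub_zero]
  rw [BlowupGraph.lNum, BlowupGraph.rNum]
  have houter : ∀ i ∈ Finset.univ.filter (fun i => i ∉ I),
      (∑ j ∈ Finset.univ.filter (fun j => j ∉ I), (G.mult i j : ℚ) * G.pairing I (σ i) j) =
        -(if σ i = i then 1 else 0) := by
    intro i hi
    rw [← hrow i (Finset.mem_filter.mp hi).2]
    simp only [hmult]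
    refine Finset.sum_filter_of_ne fun j _ hne hj => hne ?_
    rw [hzero _ _ hj, mul_zero]
  rw [Finset.sum_congr rfl houter, Finset.sum_neg_distrib, Finset.sum_boole, Finset.filter_filter]

end Groth.L14.BlowGraph
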