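import Groth.Prelude.Def_Conn
import Mathlib.LinearAlgebra.Trace
import Mathlib.LinearAlgebra.FreeModule.Finite.Basic

/-!
Connections computed componentwise through contractions.
-/

set_option autoImplicit false
universe v u

open TensorProduct

namespace Groth.Agent.L14.ConnAlong

section
variable {B Ω X Y : Type u} [CommRing B] [AddCommGroup Ω] [Module B Ω]
  [AddCommGroup X] [Module B X] [AddCommGroup Y] [Module B Y]

/-- contraction with `θ` -/
noncomputable def co (θ : Ω →ₗ[B] B) : X ⊗[B] Ω →ₗ[B] X :=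
  (TensorProduct.rid B X).toLinearMap ∘ₗ TensorProduct.map LinearMap.id θ

lemma co_tmul (θ : Ω →ₗ[B] B) (x : X) (ω : Ω) : co θ (x ⊗ₜ[B] ω) = θ ω • x := by simp [co]

lemma co_map (θ : Ω →ₗ[B] B) (f : X →ₗ[B] Y) (t : X ⊗[B] Ω) :
    co θ (TensorProduct.map f LinearMap.id t) = f (co θ t) := by
  induction t using TensorProduct.induction_on with
  | zero => simp
  | tmul x ω => simp [co_tmul]
  | add s t hs ht => simp [hs, ht]

lemma co_swapR (θ : Ω →ₗ[B] B) (t : X ⊗[B] Ω) (y : Y) :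
    co θ (Conn.swapR (t ⊗ₜ[B] y)) = co θ t ⊗ₜ[B] y := by
  induction t using TensorProduct.induction_on with
  | zero => simp
  | tmul x ω => rw [Conn.swapR_tmul, co_tmul, co_tmul, TensorProduct.smul_tmul']
  | add s t hs ht => simp [add_tmul, hs, ht]

lemma co_assoc (θ : Ω →ₗ[B] B) (x : X) (t : Y ⊗[B] Ω) :
    co θ ((TensorProduct.assoc B X Y Ω).symm (x ⊗ₜ[B] t)) = x ⊗ₜ[B] co θ t := by
  induction t using TensorProduct.induction_on with
  | zero => simp
  | tmul y ω => simp [co_tmul]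
  | add s t hs ht => simp [tmul_add, hs, ht]

lemma co_ext [Module.Free B Ω] [Module.Finite B Ω] {s t : X ⊗[B] Ω}
    (h : ∀ θ : Ω →ₗ[B] B, co θ s = co θ t) : s = t := by
  let b := Module.Free.chooseBasis B Ω
  have key : ∀ z : X ⊗[B] Ω, ∑ i, co (b.coord i) z ⊗ₜ[B] b i = z := by
    intro z
    induction z using TensorProduct.induction_on with
    | zero => simp
    | tmul x ω =>
      simp only [co_tmul, TensorProduct.smul_tmul, ← tmul_sum, Module.Basis.coord_apply]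
      rw [b.sum_repr]
    | add s t hs ht => simp only [map_add, add_tmul, Finset.sum_add_distrib, hs, ht]
  rw [← key s, ← key t]
  simp only [h]

end

section
variable {A : Type v} {B Ω M M' : Type u} [CommRing A] [CommRing B] [Algebra A B]
  [AddCommGroup Ω] [Module B Ω] [Module A Ω] [IsScalarTower A B Ω]
  [AddCommGroup M] [Module B M] [Module A M] [IsScalarTower A B M]
  [AddCommGroup M'] [Module B M'] [Module A M'] [IsScalarTower A B M']

lemma along_eq (nabla : M →ₗ[A] M ⊗[B] Ω) (θ : Ω →ₗ[B] B) (m : M) :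
    Conn.along nabla θ m = co θ (nabla m) := rfl

lemma conn {δ : Derivation A B Ω} {nabla : M →ₗ[A] M ⊗[B] Ω} (hc : Conn.IsConn δ nabla)
    (θ : Ω →ₗ[B] B) (b : B) (m : M) :
    co θ (nabla (b • m)) = b • co θ (nabla m) + θ (δ b) • m := by
  rw [hc, map_add, map_smul, co_tmul]

lemma conn_smul_of_eq_zero {δ : Derivation A B Ω} {nabla : M →ₗ[A] M ⊗[B] Ω}
    (hc : Conn.IsConn δ nabla) (θ : Ω →ₗ[B] B) {b : B} (hb : δ b = 0) (m : M) :
    co θ (nabla (b • m)) = b • co θ (nabla m) := by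
  rw [conn hc, hb]; simp

lemma homConn {nM : M →ₗ[A] M ⊗[B] Ω} {nM' : M' →ₗ[A] M' ⊗[B] Ω}
    {n : (M →ₗ[B] M') →ₗ[A] (M →ₗ[B] M') ⊗[B] Ω} (h : Conn.IsHomConn nM nM' n)
    (θ : Ω →ₗ[B] B) (φ : M →ₗ[B] M') (m : M) :
    co θ (n φ) m = co θ (nM' (φ m)) - φ (co θ (nM m)) := by
  have := congrArg (co θ) (h φ m)
  rwa [map_sub, co_map, co_map] at this

lemma tensorConn {nM : M →ₗ[A] M ⊗[B] Ω} {nM' : M' →ₗ[A] M' ⊗[B] Ω}
    {n : M ⊗[B] M' →ₗ[A] (M ⊗[B] M') ⊗[B] Ω} (h : Conn.IsTensorConn nM nM' n)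
    (θ : Ω →ₗ[B] B) (m : M) (m' : M') :
    co θ (n (m ⊗ₜ[B] m')) = co θ (nM m) ⊗ₜ[B] m' + m ⊗ₜ[B] co θ (nM' m') := by
  rw [h, map_add, co_swapR, co_assoc]

lemma horizontal [Module.Free B Ω] [Module.Finite B Ω] {nM : M →ₗ[A] M ⊗[B] Ω}
    {nM' : M' →ₗ[A] M' ⊗[B] Ω} {φ : M →ₗ[B] M'}
    (h : ∀ (θ : Ω →ₗ[B] B) (m : M), co θ (nM' (φ m)) = φ (co θ (nM m))) :
    Conn.IsHorizontal nM nM' φ :=
  fun m => co_ext fun θ => (h θ m).trans (co_map θ φ (nM m)).symm

lemma comp_deriv {nabla : M →ₗ[A] M ⊗[B] Ω} {nE : (M →ₗ[B] M) →ₗ[A] (M →ₗ[B] M) ⊗[B] Ω}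
    (hE : Conn.IsHomConn nabla nabla nE) (θ : Ω →ₗ[B] B) (a b : M →ₗ[B] M) :
    co θ (nE (a ∘ₗ b)) = co θ (nE a) ∘ₗ b + a ∘ₗ co θ (nE b) := by
  ext m
  simp only [LinearMap.add_apply, LinearMap.comp_apply, homConn hE, map_sub]
  abel

lemma trace_horizontal [Module.Free B M] [Module.Finite B M] {δ : Derivation A B Ω}
    {nabla : M →ₗ[A] M ⊗[B] Ω} (hc : Conn.IsConn δ nabla)
    {nE : (M →ₗ[B] M) →ₗ[A] (M →ₗ[B] M) ⊗[B] Ω} (hE : Conn.IsHomConn nabla nabla nE)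
    (θ : Ω →ₗ[B] B) (φ : M →ₗ[B] M) :
    θ (δ (LinearMap.trace B M φ)) = LinearMap.trace B M (co θ (nE φ)) := by
  classical
  let b := Module.Free.chooseBasis B M
  rw [LinearMap.trace_eq_matrix_trace B b, LinearMap.trace_eq_matrix_trace B b]
  simp only [Matrix.trace, Matrix.diag_apply, LinearMap.toMatrix_apply, homConn hE, map_sum]
  have h1 : ∀ j, co θ (nabla (φ (b j))) =
      ∑ i, (b.repr (φ (b j)) i • co θ (nabla (b i)) + θ (δ (b.repr (φ (b j)) i)) • b i) := by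
    intro j
    conv_lhs => rw [← b.sum_repr (φ (b j))]
    simp only [map_sum, conn hc]
  have h2 : ∀ j, φ (co θ (nabla (b j))) = ∑ i, b.repr (co θ (nabla (b j))) i • φ (b i) := by
    intro j
    conv_lhs => rw [← b.sum_repr (co θ (nabla (b j)))]
    simp only [map_sum, map_smul]
  simp only [map_sub, Finsupp.coe_sub, Pi.sub_apply, h1, h2, map_sum, map_add, map_smul,
    Finsupp.coe_finsetSum, Finset.sum_apply, Finsupp.coe_add, Pi.add_apply, Finsupp.coe_smul,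
    Pi.smul_apply, smul_eq_mul, Finset.sum_add_distrib, Finset.sum_sub_distrib,
    Module.Basis.repr_self, Finsupp.single_apply, mul_ite, mul_one, mul_zero,
    Finset.sum_ite_eq', Finset.mem_univ, if_true]
  rw [Finset.sum_comm (f := fun j i => b.repr (φ (b j)) i * b.repr (co θ (nabla (b i))) j)]
  simp only [mul_comm (b.repr (φ (b _)) _)]
  ring

end

end Groth.Agent.L14.ConnAlong
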