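import Groth.Agent.L18.GradedGen
import Groth.Agent.L22.AffineDim
import Groth.Agent.L12.DefTLib.Hartogs
import Groth.Agent.L04.LC.Torsion
import Groth.Agent.L04.LC.Depth
import Mathlib.RingTheory.Polynomial.IsIntegral
import Mathlib.RingTheory.GradedAlgebra.Radical
import Mathlib.RingTheory.IntegralClosure.IntegrallyClosed
import Mathlib.RingTheory.FiniteLength

/-! # The normalization modulo a graded domain and local cohomology -/

set_option autoImplicit false
set_option linter.style.haveILetI false

universe u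

open Polynomial CategoryTheory

namespace Groth.L14.GrNormQuot

variable {k G L : Type u} [Field k] [CommRing G] [IsDomain G] [Algebra k G]
  (𝒢 : ℕ → Submodule k G) [GradedAlgebra 𝒢] [Field L] [Algebra G L] [IsFractionRing G L]

/-- `g ↦ ∑ gᵢ Xⁱ`. -/
noncomputable def tw : G →+* G[X] :=
  ((DirectSum.toSemiring (fun i => ((Polynomial.monomial i).toAddMonoidHom.comp (𝒢 i).subtype.toAddMonoidHom :
      𝒢 i →+ G[X])) (by simp [Polynomial.monomial_zero_left]) fun {i j} a b => by
        simp [Polynomial.monomial_mul_monomial]) : DirectSum ℕ (fun i => 𝒢 i) →+* G[X]).comp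
    (DirectSum.decomposeRingEquiv 𝒢).toRingHom

theorem tw_coe {j : ℕ} (x : 𝒢 j) : tw 𝒢 (x : G) = Polynomial.monomial j (x : G) := by
  have h : (DirectSum.decomposeRingEquiv 𝒢).toRingHom (x : G) = DirectSum.of (fun i => 𝒢 i) j x :=
    DirectSum.decompose_coe 𝒢 x
  rw [tw, RingHom.comp_apply, h]
  exact DirectSum.toAddMonoid_of (β := fun i => ↥(𝒢 i)) (φ := fun i =>
    ((Polynomial.monomial i).toAddMonoidHom.comp (𝒢 i).subtype.toAddMonoidHom)) j x

theorem tw_coeff (g : G) (i : ℕ) : (tw 𝒢 g).coeff i = DirectSum.decompose 𝒢 g i := by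
  induction g using DirectSum.Decomposition.inductionOn 𝒢 with
  | zero => simp
  | homogeneous x =>
    rename_i j
    rw [tw_coe, Polynomial.coeff_monomial, DirectSum.decompose_coe]
    by_cases hij : j = i
    · subst hij; simp [DirectSum.of_eq_same]
    · simp [hij, DirectSum.of_eq_of_ne _ _ _ (Ne.symm hij)]
  | add a b ha hb => simp [map_add, ha, hb, DirectSum.decompose_add]

theorem tw_eval_one (g : G) : (tw 𝒢 g).eval 1 = g := by
  induction g using DirectSum.Decomposition.inductionOn 𝒢 with
  | zero => simp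
  | homogeneous x =>
    rename_i j
    simp [tw_coe]
  | add a b ha hb => simp [map_add, ha, hb]

theorem tw_injective : Function.Injective (tw 𝒢) := fun a b h => by
  rw [← tw_eval_one 𝒢 a, h, tw_eval_one]

variable (L) in
/-- `tw` with coefficients in the fraction field. -/
noncomputable def twL : G →+* L[X] := (Polynomial.mapRingHom (algebraMap G L)).comp (tw 𝒢)

theorem twL_coeff (g : G) (i : ℕ) : (twL L 𝒢 g).coeff i = algebraMap G L (DirectSum.decompose 𝒢 g i) := by
  simp [twL, tw_coeff]

theorem twL_injective : Function.Injective (twL L 𝒢) :=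
  (Polynomial.map_injective _ (IsFractionRing.injective G L)).comp (tw_injective 𝒢)

theorem twL_eval_one (g : G) : (twL L 𝒢 g).eval 1 = algebraMap G L g := by
  rw [twL, RingHom.comp_apply, Polynomial.coe_mapRingHom, Polynomial.eval_one_map, tw_eval_one]

/-- An element integral over `G` has integral components. -/
theorem exists_twist (y : integralClosure G L) :
    ∃ p : (integralClosure G L)[X], ∀ a b : G, algebraMap G L b * (y : L) = algebraMap G L a →
      twL L 𝒢 b * p.map (algebraMap (integralClosure G L) L) = twL L 𝒢 a := by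
  let F := FractionRing L[X]
  let ι : L[X] →+* F := algebraMap L[X] F
  have hι : Function.Injective ι := IsFractionRing.injective L[X] F
  let Φ : L →+* F := IsFractionRing.lift (A := G) (K := L) (g := ι.comp (twL L 𝒢)) (hι.comp (twL_injective 𝒢))
  have hΦ : ∀ g : G, Φ (algebraMap G L g) = ι (twL L 𝒢 g) := fun g => IsFractionRing.lift_algebraMap _ g
  letI : Algebra G[X] L[X] := (Polynomial.mapRingHom (algebraMap G L)).toAlgebra
  have h1 : IsIntegral G[X] (Φ y) := by
    obtain ⟨q, hq, hq0⟩ := y.2
    refine ⟨q.map (tw 𝒢), hq.map _, ?_⟩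
    rw [Polynomial.eval₂_map, show (algebraMap G[X] F).comp (tw 𝒢) = Φ.comp (algebraMap G L) from
      RingHom.ext fun g => (hΦ g).symm, ← Polynomial.hom_eval₂]
    exact (congrArg Φ hq0).trans (map_zero Φ)
  obtain ⟨P, hP⟩ := IsIntegrallyClosed.isIntegral_iff.1 (h1.tower_top (A := L[X]))
  have h2 : IsIntegral G[X] P := by
    rw [← hP] at h1
    exact (isIntegral_algebraMap_iff hι).1 h1
  have h3 : ∀ i, P.coeff i ∈ integralClosure G L := fun i => Polynomial.isIntegral_iff_isIntegral_coeff.1 h2 i
  obtain ⟨p, hp⟩ := (Polynomial.mem_lifts P).1 ((Polynomial.lifts_iff_coeff_lifts P).2 fun i =>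
    (⟨⟨_, h3 i⟩, rfl⟩ : P.coeff i ∈ Set.range (algebraMap (integralClosure G L) L)))
  refine ⟨p, fun a b hab => hι ?_⟩
  rw [hp, map_mul, show ι P = Φ y from hP, ← hΦ, ← map_mul, hab, hΦ]

/-- Scaling the variable in the coefficients. -/
noncomputable def dbl : L[X] →+* L[X][X] :=
  Polynomial.eval₂RingHom (Polynomial.C.comp Polynomial.C) (Polynomial.C Polynomial.X * Polynomial.X)

theorem dbl_coeff (P : L[X]) (i : ℕ) : (dbl P).coeff i = Polynomial.monomial i (P.coeff i) := by
  induction P using Polynomial.induction_on' with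
  | add p q hp hq => simp [map_add, hp, hq]
  | monomial j c =>
    have : dbl (Polynomial.monomial j c) = Polynomial.monomial j (Polynomial.monomial j c) := by
      rw [dbl, Polynomial.coe_eval₂RingHom, Polynomial.eval₂_monomial, RingHom.comp_apply]
      simp only [mul_pow, ← Polynomial.C_mul_X_pow_eq_monomial, map_mul, map_pow]
      ring
    rw [this, Polynomial.coeff_monomial, Polynomial.coeff_monomial]
    by_cases h : j = i
    · subst h; simp
    · simp [h]

variable (L) in
/-- The conductor. -/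
def conductor : Ideal G :=
  Module.annihilator G (↥(integralClosure G L) ⧸ LinearMap.range (Algebra.linearMap G ↥(integralClosure G L)))

theorem mem_conductor (c : G) :
    c ∈ conductor L ↔ ∀ y : integralClosure G L, ∃ g : G, algebraMap G L g = algebraMap G L c * (y : L) := by
  rw [conductor, Module.mem_annihilator]
  constructor
  · intro h y
    obtain ⟨g, hg⟩ := (Submodule.Quotient.mk_eq_zero _).1 ((Submodule.Quotient.mk_smul _ c y).trans (h _))
    exact ⟨g, (congrArg Subtype.val hg).trans (Algebra.smul_def c (y : L))⟩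
  · intro h q
    obtain ⟨y, rfl⟩ := Submodule.Quotient.mk_surjective _ q
    obtain ⟨g, hg⟩ := h y
    exact (Submodule.Quotient.mk_smul _ c y).symm.trans ((Submodule.Quotient.mk_eq_zero _).2
      ⟨g, Subtype.ext (hg.trans (Algebra.smul_def c (y : L)).symm)⟩)

theorem isHomogeneous_conductor : (conductor L).IsHomogeneous 𝒢 := by
  classical
  intro i c hc
  rw [mem_conductor] at hc ⊢
  intro y
  let N := integralClosure G L
  choose p hp using exists_twist (L := L) 𝒢
  let Pb : N → L[X] := fun z => (p z).map (algebraMap N L)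
  have hgen : ∀ z : N, ∃ a b : G, b ≠ 0 ∧ algebraMap G L b * (z : L) = algebraMap G L a := fun z => by
    obtain ⟨a, b, hb, h⟩ := IsFractionRing.div_surjective (A := G) (z : L)
    refine ⟨a, b, nonZeroDivisors.ne_zero hb, ?_⟩
    rw [← h, mul_div_cancel₀]
    exact fun h0 => nonZeroDivisors.ne_zero hb (IsFractionRing.injective G L (by rw [h0, map_zero]))
  have hPb : ∀ (z : N) (g b : G), b ≠ 0 → algebraMap G L b * (z : L) = algebraMap G L g →
      twL L 𝒢 b * Pb z = twL L 𝒢 g := fun z g b _ h => hp z g b h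
  -- `Pb` is multiplicative and additive
  have huniq : ∀ (z : N) (a b : G) (P : L[X]), b ≠ 0 → algebraMap G L b * (z : L) = algebraMap G L a →
      twL L 𝒢 b * P = twL L 𝒢 a → P = Pb z := fun z a b P hb h hP =>
    mul_left_cancel₀ (fun h0 => hb (twL_injective 𝒢 (h0.trans (map_zero _).symm)))
      (hP.trans (hp z a b h).symm)
  let Ψ : N →+* L[X] :=
    { toFun := Pb
      map_one' := (huniq 1 1 1 1 one_ne_zero (by simp) (by simp)).symm
      map_zero' := (huniq 0 0 1 0 one_ne_zero (by simp) (by simp)).symm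
      map_mul' := fun z w => by
        obtain ⟨a, b, hb, h⟩ := hgen z
        obtain ⟨a', b', hb', h'⟩ := hgen w
        refine (huniq (z * w) (a * a') (b * b') _ (mul_ne_zero hb hb') ?_ ?_).symm
        · rw [map_mul, map_mul, Subalgebra.coe_mul, ← h, ← h']; ring
        · rw [map_mul, map_mul, ← hp z a b h, ← hp w a' b' h']; simp only [Pb, N]; ring
      map_add' := fun z w => by
        obtain ⟨a, b, hb, h⟩ := hgen z
        obtain ⟨a', b', hb', h'⟩ := hgen w
        refine (huniq (z + w) (a * b' + a' * b) (b * b') _ (mul_ne_zero hb hb') ?_ ?_).symm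
        · rw [map_add, map_mul, map_mul, map_mul, Subalgebra.coe_add, ← h, ← h']; ring
        · rw [map_add, map_mul, map_mul, map_mul, ← hp z a b h, ← hp w a' b' h']; simp only [Pb, N]; ring }
  have hΨ : ∀ g : G, Ψ (algebraMap G N g) = twL L 𝒢 g := fun g =>
    (huniq _ g 1 _ one_ne_zero (by simp) (by simp)).symm
  have hcomp : ∀ b : G, ((tw 𝒢 b).map (algebraMap G N)).map Ψ = dbl (twL L 𝒢 b) := fun b => by
    ext i : 1
    rw [Polynomial.coeff_map, Polynomial.coeff_map, dbl_coeff, hΨ, twL_coeff, tw_coeff]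
    ext j
    rw [twL_coeff, Polynomial.coeff_monomial, DirectSum.decompose_coe]
    by_cases hij : i = j
    · subst hij; rw [if_pos rfl, DirectSum.of_eq_same]
    · rw [if_neg hij, DirectSum.of_eq_of_ne _ _ _ (Ne.symm hij), ZeroMemClass.coe_zero, map_zero]
  have hkey : ∀ j, Ψ ((p y).coeff j) = Polynomial.monomial j ((Pb y).coeff j) := fun j => by
    obtain ⟨a, b, hb, h⟩ := hgen y
    have h0 := hp y a b h
    have h1 : (tw 𝒢 b).map (algebraMap G N) * p y = (tw 𝒢 a).map (algebraMap G N) := by
      apply Polynomial.map_injective (algebraMap N L) Subtype.val_injective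
      rw [Polynomial.map_mul, Polynomial.map_map, Polynomial.map_map, ← IsScalarTower.algebraMap_eq]
      exact h0
    have h2 := congrArg (Polynomial.map Ψ) h1
    rw [Polynomial.map_mul, hcomp, hcomp, ← h0, map_mul] at h2
    have hb0 : dbl (twL L 𝒢 b) ≠ 0 := fun h3 => by
      refine hb (twL_injective (L := L) 𝒢 (Eq.trans (Polynomial.ext fun i => ?_) (map_zero _).symm))
      have := congrArg (fun q => (Polynomial.coeff q i).coeff i) h3
      simpa [dbl_coeff] using this
    have h3 := mul_left_cancel₀ hb0 h2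
    rw [← Polynomial.coeff_map, h3, dbl_coeff]
  have hy : (y : L) = (Pb y).eval 1 := by
    obtain ⟨a, b, hb, h⟩ := hgen y
    have h0 := congrArg (Polynomial.eval 1) (hp y a b h)
    rw [Polynomial.eval_mul, twL_eval_one, twL_eval_one, ← h] at h0
    exact (mul_left_cancel₀ (fun h1 => hb (IsFractionRing.injective G L (h1.trans (map_zero _).symm))) h0).symm
  have hmem : ∀ j, algebraMap G L (DirectSum.decompose 𝒢 c i) * (Pb y).coeff j ∈ Set.range (algebraMap G L) := by
    intro j
    obtain ⟨g, hg⟩ := hc ((p y).coeff j)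
    have h1 : twL L 𝒢 c * Ψ ((p y).coeff j) = twL L 𝒢 g := by
      rw [← hΨ, ← hΨ, ← map_mul]
      exact congrArg Ψ (Subtype.ext (by simpa using hg.symm))
    rw [hkey] at h1
    have h2 := congrArg (fun q => Polynomial.coeff q (i + j)) h1
    simp only [Polynomial.coeff_mul_monomial, twL_coeff] at h2
    exact ⟨_, h2.symm⟩
  rw [hy, Polynomial.eval_eq_sum_range, Finset.mul_sum]
  choose gj hgj using hmem
  exact ⟨∑ j ∈ Finset.range ((Pb y).natDegree + 1), gj j, by simp [hgj]⟩

variable (h0 : ∀ x ∈ 𝒢 0, x ∈ Set.range (algebraMap k G))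

include h0 in
omit [IsDomain G] in
theorem eq_irrelevant_of_le {P : Ideal G} (hP : P ≠ ⊤) (hh : P.IsHomogeneous 𝒢) :
    P ≤ (HomogeneousIdeal.irrelevant 𝒢).toIdeal := fun x hx => by
  rw [HomogeneousIdeal.mem_iff, HomogeneousIdeal.mem_irrelevant_iff, GradedRing.proj_apply]
  obtain ⟨c, hc⟩ := h0 _ (DirectSum.decompose 𝒢 x 0).2
  rw [← hc]
  by_contra hne
  refine hP (Ideal.eq_top_of_isUnit_mem P (hh 0 hx) ?_)
  rw [← hc]
  exact IsUnit.map _ (IsUnit.mk0 c fun h => hne (by rw [h, map_zero]))

include h0 in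
/-- The conductor of a normalization with finite-length cokernel contains a power of the irrelevant ideal. -/
theorem irrelevant_le_radical_conductor
    (hfin : IsFiniteLength G (↥(integralClosure G L) ⧸
      LinearMap.range (Algebra.linearMap G ↥(integralClosure G L)))) :
    (HomogeneousIdeal.irrelevant 𝒢).toIdeal ≤ (conductor L).radical := by
  obtain ⟨hN, hA⟩ := isFiniteLength_iff_isNoetherian_isArtinian.1 hfin
  haveI := hN
  haveI := hA
  haveI : IsArtinianRing (G ⧸ conductor L) := by
    obtain ⟨n, x, hx⟩ := Module.Finite.exists_fin (R := G)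
      (M := ↥(integralClosure G L) ⧸ LinearMap.range (Algebra.linearMap G ↥(integralClosure G L)))
    let ev : G →ₗ[G] (Fin n → ↥(integralClosure G L) ⧸
        LinearMap.range (Algebra.linearMap G ↥(integralClosure G L))) := LinearMap.toSpanSingleton G _ x
    have hker : LinearMap.ker ev = conductor L := by
      refine le_antisymm (fun r hr => Module.mem_annihilator.2 fun q => ?_) fun r hr => ?_
      · obtain ⟨w, rfl⟩ := (Submodule.mem_span_range_iff_exists_fun G).1 (hx ▸ Submodule.mem_top : q ∈ _)
        rw [Finset.smul_sum]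
        refine Finset.sum_eq_zero fun i _ => ?_
        rw [smul_comm, show r • x i = 0 from congrFun hr i, smul_zero]
      · exact funext fun i => Module.mem_annihilator.1 hr (x i)
    haveI : IsArtinian G (G ⧸ conductor L) := by
      rw [← hker]
      exact isArtinian_of_linearEquiv ev.quotKerEquivRange.symm
    exact isArtinian_of_tower G inferInstance
  rw [Ideal.radical_eq_sInf, le_sInf_iff]
  rintro P ⟨hIP, hP⟩
  haveI := hP
  have hmax : ∀ (Q : Ideal G), Q.IsPrime → conductor L ≤ Q → Q.IsMaximal := fun Q hQ hle => by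
    haveI : (Q.map (Ideal.Quotient.mk (conductor L))).IsPrime :=
      Ideal.map_isPrime_of_surjective Ideal.Quotient.mk_surjective (by rwa [Ideal.mk_ker])
    have hm : (Q.map (Ideal.Quotient.mk (conductor L))).IsMaximal := IsArtinianRing.isMaximal_of_isPrime _
    have := Ideal.comap_isMaximal_of_surjective _ Ideal.Quotient.mk_surjective (K := Q.map (Ideal.Quotient.mk (conductor L)))
    rwa [Ideal.comap_map_of_surjective _ Ideal.Quotient.mk_surjective, ← RingHom.ker_eq_comap_bot, Ideal.mk_ker,
      sup_eq_left.2 hle] at this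
  let Q := (P.homogeneousCore 𝒢).toIdeal
  have hQp : Q.IsPrime := Ideal.IsPrime.homogeneousCore hP
  have hIQ : conductor L ≤ Q :=
    (le_of_eq (isHomogeneous_conductor 𝒢).toIdeal_homogeneousCore_eq_self.symm).trans
      (Ideal.homogeneousCore_mono 𝒢 hIP)
  have hQm := hmax Q hQp hIQ
  have hne : (HomogeneousIdeal.irrelevant 𝒢).toIdeal ≠ ⊤ := fun h => by
    have h1 : (1 : G) ∈ (HomogeneousIdeal.irrelevant 𝒢).toIdeal := h ▸ Submodule.mem_top
    rw [HomogeneousIdeal.mem_iff, HomogeneousIdeal.mem_irrelevant_iff, GradedRing.proj_apply,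
      DirectSum.decompose_of_mem_same 𝒢 (SetLike.one_mem_graded 𝒢)] at h1
    exact one_ne_zero h1
  have heq : Q = (HomogeneousIdeal.irrelevant 𝒢).toIdeal :=
    hQm.eq_of_le hne (eq_irrelevant_of_le 𝒢 h0 hQp.ne_top (P.homogeneousCore 𝒢).isHomogeneous)
  rw [← heq]
  exact Ideal.toIdeal_homogeneousCore_le 𝒢 P

include h0 in
theorem isMaximal_irrelevant : (HomogeneousIdeal.irrelevant 𝒢).toIdeal.IsMaximal := by
  have h1 : (1 : G) ∉ (HomogeneousIdeal.irrelevant 𝒢).toIdeal := fun h1 => by
    rw [HomogeneousIdeal.mem_iff, HomogeneousIdeal.mem_irrelevant_iff, GradedRing.proj_apply,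
      DirectSum.decompose_of_mem_same 𝒢 (SetLike.one_mem_graded 𝒢)] at h1
    exact one_ne_zero h1
  refine Ideal.isMaximal_iff.2 ⟨h1, fun J x hJ hx hxJ => ?_⟩
  obtain ⟨c, hc⟩ := h0 _ (DirectSum.decompose 𝒢 x 0).2
  have hc0 : c ≠ 0 := fun h => hx (by
    rw [HomogeneousIdeal.mem_iff, HomogeneousIdeal.mem_irrelevant_iff, GradedRing.proj_apply, ← hc, h, map_zero])
  have hsub : x - algebraMap k G c ∈ (HomogeneousIdeal.irrelevant 𝒢).toIdeal := by
    rw [HomogeneousIdeal.mem_iff, HomogeneousIdeal.mem_irrelevant_iff, GradedRing.proj_apply, hc,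
      DirectSum.decompose_sub]
    simp [DirectSum.decompose_of_mem_same 𝒢 (DirectSum.decompose 𝒢 x 0).2]
  have h2 : algebraMap k G c ∈ J := by simpa using J.sub_mem hxJ (hJ hsub)
  have h3 := J.mul_mem_left (algebraMap k G c⁻¹) h2
  rwa [← map_mul, inv_mul_cancel₀ hc0, map_one] at h3

include h0 in
theorem finiteType [IsNoetherianRing G] : Algebra.FiniteType k G := by
  haveI := (Groth.L18.finiteType_iff_irrelevant_fg 𝒢).1 (IsNoetherian.noetherian _)
  have hsurj : Function.Surjective (Algebra.ofId k (𝒢 0)) := fun z => by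
    obtain ⟨c, hc⟩ := h0 (z : G) z.2
    exact ⟨c, Subtype.ext hc⟩
  haveI : Algebra.FiniteType k (𝒢 0) := Algebra.FiniteType.of_surjective (Algebra.ofId k (𝒢 0)) hsurj
  haveI : IsScalarTower k (𝒢 0) G := ⟨fun c a g => smul_assoc c (a : G) g⟩
  exact Algebra.FiniteType.trans (S := 𝒢 0) inferInstance inferInstance

include h0 in
theorem nonempty_equiv [IsNoetherianRing G] (hdim : 2 ≤ ringKrullDim G)
    (hfin : IsFiniteLength G (↥(integralClosure G L) ⧸
      LinearMap.range (Algebra.linearMap G ↥(integralClosure G L)))) :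
    Nonempty ((↥(integralClosure G L) ⧸ LinearMap.range (Algebra.linearMap G ↥(integralClosure G L))) ≃ₗ[G]
      LocCoh.H (HomogeneousIdeal.irrelevant 𝒢).toIdeal 1 G) := by
  classical
  let m := (HomogeneousIdeal.irrelevant 𝒢).toIdeal
  haveI hmax : m.IsMaximal := isMaximal_irrelevant 𝒢 h0
  let N := integralClosure G L
  let rng : Submodule G N := LinearMap.range (Algebra.linearMap G N)
  haveI : IsNoetherian G (N ⧸ rng) := (isFiniteLength_iff_isNoetherian_isArtinian.1 hfin).1
  haveI : Module.Finite G N := Module.Finite.of_submodule_quotient rng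
  haveI : IsNoetherian G N := isNoetherian_of_isNoetherianRing_of_finite G N
  haveI : IsNoetherianRing N := isNoetherian_of_tower G inferInstance
  letI : Algebra k L := ((algebraMap G L).comp (algebraMap k G)).toAlgebra
  letI : Algebra k N := ((algebraMap G N).comp (algebraMap k G)).toAlgebra
  haveI : IsScalarTower k G N := IsScalarTower.of_algebraMap_eq fun _ => rfl
  haveI := finiteType 𝒢 h0
  haveI : Algebra.FiniteType k N :=
    Algebra.FiniteType.trans (S := G) inferInstance (Module.Finite.finiteType N)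
  haveI : IsIntegrallyClosed N := integralClosure.isIntegrallyClosedOfFiniteExtension (K := L) (L := L)
  haveI : Algebra.IsIntegral G N := Algebra.IsIntegral.of_finite G N
  have hinj : Function.Injective (algebraMap G N) := fun a b h =>
    IsFractionRing.injective G L (congrArg Subtype.val h)
  have hN : ringKrullDim N = ringKrullDim G := Groth.L22.AffineDim.ringKrullDim_eq_of_isIntegral hinj
  have hm0 : m ≠ ⊥ := fun h => by
    have hfld : IsField G := Ring.isField_iff_maximal_bot.2 (h ▸ hmax)
    rw [ringKrullDim_eq_zero_of_isField hfld] at hdim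
    exact absurd hdim (by decide)
  obtain ⟨x, hx, hx0⟩ := Submodule.exists_mem_ne_zero_of_ne_bot hm0
  set xN := algebraMap G N x
  have hxN : xN ≠ 0 := fun h => hx0 (hinj (h.trans (map_zero _).symm))
  have hass : ∀ P ∈ associatedPrimes N (N ⧸ Ideal.span {xN}), ¬ m ≤ P.comap (algebraMap G N) := by
    intro P hP hle
    haveI := hP.isPrime
    haveI : IsIntegrallyClosed (Localization.AtPrime P) :=
      isIntegrallyClosed_of_isLocalization _ P.primeCompl P.primeCompl_le_nonZeroDivisors
    have h1 := Groth.L12.DefTLib.height_le_one_of_mem_associatedPrimes (P := P) (b := xN)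
      (fun a ha => (mul_eq_zero.1 ha).resolve_left hxN) hP
    have h2 : P.comap (algebraMap G N) = m :=
      (hmax.eq_of_le (Ideal.IsPrime.comap (algebraMap G N) (K := P)).ne_top hle).symm
    haveI : (P.comap (algebraMap G N)).IsMaximal := h2 ▸ hmax
    haveI : P.IsMaximal := Ideal.isMaximal_of_isIntegral_of_isMaximal_comap (R := G) P inferInstance
    have h3 := Groth.L22.AffineDim.height_of_isMaximal (k := k) N P
    rw [hN] at h3
    rw [← h3] at hdim
    exact absurd (hdim.trans (WithBot.coe_le_coe.2 h1)) (by decide)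
  obtain ⟨y, hy, hyP⟩ : ∃ y ∈ m, ∀ P ∈ associatedPrimes N (N ⧸ Ideal.span {xN}), algebraMap G N y ∉ P := by
    by_contra! h
    have hf := associatedPrimes.finite N (N ⧸ Ideal.span {xN})
    have hsub : (m : Set G) ⊆ ⋃ P ∈ (hf.toFinset : Set (Ideal N)), (P.comap (algebraMap G N) : Set G) :=
      fun z hz => by
        obtain ⟨P, hP, hzP⟩ := h z hz
        exact Set.mem_iUnion₂.2 ⟨P, by simpa using hP, hzP⟩
    obtain ⟨P, hP, hle⟩ := (Ideal.subset_union_prime (f := fun P : Ideal N => P.comap (algebraMap G N)) ⊥ ⊥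
      (fun P hP _ _ => by
        haveI : P.IsPrime := ((by simpa using hP : P ∈ associatedPrimes N (N ⧸ Ideal.span {xN}))).isPrime
        exact Ideal.IsPrime.comap _)).1 hsub
    exact hass P (by simpa using hP) hle
  have hreg : RingTheory.Sequence.IsWeaklyRegular N [x, y] := by
    refine (RingTheory.Sequence.isWeaklyRegular_cons_iff _ _ _).2 ⟨fun a b h => ?_, ?_⟩
    · have h' : xN * a = xN * b := by
        rw [← Algebra.smul_def, ← Algebra.smul_def]; exact h
      exact mul_left_cancel₀ hxN h'
    refine (RingTheory.Sequence.isWeaklyRegular_singleton_iff _ _).2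
      (IsSMulRegular.of_right_eq_zero_of_smul fun q hq => ?_)
    obtain ⟨a, rfl⟩ := Submodule.Quotient.mk_surjective _ q
    rw [← Submodule.Quotient.mk_smul, Submodule.Quotient.mk_eq_zero, Submodule.mem_smul_pointwise_iff_exists] at hq
    obtain ⟨b, -, hb⟩ := hq
    rw [Submodule.Quotient.mk_eq_zero, Submodule.mem_smul_pointwise_iff_exists]
    have h1 : algebraMap G N y • (Ideal.Quotient.mk (Ideal.span {xN}) a) = 0 := by
      show Ideal.Quotient.mk _ (algebraMap G N y * a) = 0
      rw [Ideal.Quotient.eq_zero_iff_mem, Ideal.mem_span_singleton']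
      exact ⟨b, by rw [mul_comm, ← Algebra.smul_def, ← Algebra.smul_def]; exact hb⟩
    by_contra hne
    have h2 : algebraMap G N y ∈ ⋃ P ∈ associatedPrimes N (N ⧸ Ideal.span {xN}), (P : Set N) := by
      rw [biUnion_associatedPrimes_eq_zero_divisors]
      refine ⟨Ideal.Quotient.mk _ a, fun h3 => hne ?_, h1⟩
      obtain ⟨b', hb'⟩ := Ideal.mem_span_singleton'.1 (Ideal.Quotient.eq_zero_iff_mem.1 h3)
      exact ⟨b', trivial, by rw [Algebra.smul_def, mul_comm]; exact hb'⟩
    obtain ⟨P, hP, hyP'⟩ := Set.mem_iUnion₂.1 h2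
    exact hyP P hP hyP'
  have hdepth : (2 : ℕ∞) ≤ LocCoh.idealDepth m N := by
    unfold LocCoh.idealDepth
    split_ifs with h
    · exact le_top
    · exact le_iSup₂_of_le [x, y] ⟨hreg, by simpa using ⟨hx, hy⟩⟩ (by simp)
  have hH := (Groth.L04.LC.le_idealDepth_iff_H m N 2).1 hdepth
  have hS := Groth.L04.LC.ses_shortExact (Algebra.linearMap G N) rng.mkQ hinj (Submodule.mkQ_surjective _)
    (LinearMap.exact_map_mkQ_range _)
  let δ := LinearEquiv.ofBijective _ (Groth.L04.LC.Hδ_bijective m hS 0 (hH 0 (by norm_num)) (hH 1 (by norm_num)))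
  refine ⟨(Groth.L04.LC.H0TorsionEquiv m _ fun q => ?_).symm.trans δ⟩
  obtain ⟨n, hn⟩ := Ideal.exists_pow_le_of_le_radical_of_fg (irrelevant_le_radical_conductor (L := L) 𝒢 h0 hfin)
    (IsNoetherian.noetherian m)
  exact ⟨n, fun a ha => Module.mem_annihilator.1 (hn ha) q⟩

end Groth.L14.GrNormQuot
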