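import Groth.Agent.L12.GrLCPoly
import Groth.Agent.L07.QuasiRegular

/-!
# Cohen–Macaulay standard graded rings over Artinian rings with the smallest possible a-invariant
-/

set_option autoImplicit false

universe u

open DirectSum Pointwise

namespace Groth.L14.GrPolyArt

open Groth.L12.GrLCLib

/-- finitely many proper submodules do not cover, given infinitely many scalars with unit differences -/
theorem exists_forall_notMem {A : Type*} [CommRing A] {N : Type*} [AddCommGroup N] [Module A N] {T : Set A}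
    (hT : T.Infinite) (hu : ∀ a ∈ T, ∀ b ∈ T, a ≠ b → IsUnit (a - b)) (S : Finset (Submodule A N))
    (h : ∀ W ∈ S, W ≠ ⊤) : ∃ x : N, ∀ W ∈ S, x ∉ W := by
  classical
  induction S using Finset.induction with
  | empty => exact ⟨0, fun W hW => absurd hW (Finset.notMem_empty W)⟩
  | @insert W S hWS ih =>
    obtain ⟨x, hx⟩ := ih fun V hV => h V (Finset.mem_insert_of_mem hV)
    obtain ⟨y, -, hy⟩ := SetLike.exists_of_lt (lt_top_iff_ne_top.2 (h W (Finset.mem_insert_self W S)))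
    have key : ∀ V ∈ insert W S, {t | t ∈ T ∧ x + t • y ∈ V}.Subsingleton := by
      intro V hV t ⟨ht, htV⟩ t' ⟨ht', ht'V⟩
      by_contra hne
      obtain ⟨v, hv⟩ := hu t ht t' ht' hne
      have hyV : y ∈ V := by
        have := V.smul_mem ((v⁻¹ : Aˣ) : A) (V.sub_mem htV ht'V)
        rwa [add_sub_add_left_eq_sub, ← sub_smul, ← hv, smul_smul, Units.inv_mul, one_smul] at this
      rcases Finset.mem_insert.1 hV with rfl | hV'
      · exact hy hyV
      · exact hx V hV' (by simpa using V.sub_mem htV (V.smul_mem t hyV))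
    have hfin : (⋃ V ∈ insert W S, {t | t ∈ T ∧ x + t • y ∈ V}).Finite :=
      (insert W S).finite_toSet.biUnion fun V hV => (key V hV).finite
    obtain ⟨t, ht, ht'⟩ := hT.exists_notMem_finset hfin.toFinset
    exact ⟨x + t • y, fun V hV hmem => ht' (hfin.mem_toFinset.2 (Set.mem_biUnion hV ⟨ht, hmem⟩))⟩

variable {R : Type u} [CommRing R] {𝒜 : ℤ → AddSubgroup R} [GradedRing 𝒜] [IsNoetherianRing R]
  {m : HomogeneousIdeal 𝒜}

/-- representatives of an infinite residue field in degree zero -/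
theorem exists_infinite_unit_diff (hpos : ∀ n : ℤ, n < 0 → 𝒜 n = ⊥) (hm : GrLC.IsStarLocal 𝒜 m)
    (hinf : Infinite (R ⧸ m.toIdeal)) :
    ∃ T : Set (GrLC.deg0 𝒜), T.Infinite ∧ ∀ a ∈ T, ∀ b ∈ T, a ≠ b → IsUnit (a - b) := by
  let π : GrLC.deg0 𝒜 → R ⧸ m.toIdeal := fun c => Ideal.Quotient.mk m.toIdeal (c : R)
  have hπ : Function.Surjective π := fun q => by
    obtain ⟨x, rfl⟩ := Ideal.Quotient.mk_surjective q
    exact ⟨⟨cp 𝒜 0 x, cp_mem 𝒜 0 x⟩,
      (Ideal.Quotient.eq.2 (posIdeal_le hpos hm (sub_cp_zero_mem_posIdeal hpos x))).symm⟩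
  refine ⟨Set.range (Function.surjInv hπ),
    Set.infinite_range_of_injective (Function.injective_surjInv hπ), ?_⟩
  rintro a ⟨p, rfl⟩ b ⟨q, rfl⟩ hne
  set c := Function.surjInv hπ p - Function.surjInv hπ q with hc
  by_contra hnu
  have hcm : (c : R) ∈ m.toIdeal := mem_starLocal_of_not_unit hm c.2 fun w hw h1 => by
    rw [neg_zero] at hw
    exact hnu (IsUnit.of_mul_eq_one ⟨w, hw⟩ (Subtype.ext (show (c : R) * w = 1 by first | exact h1 | (rw [mul_comm]; exact h1))))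
  apply hne
  have hpq : π (Function.surjInv hπ p) = π (Function.surjInv hπ q) := Ideal.Quotient.eq.2 hcm
  rw [Function.surjInv_eq hπ, Function.surjInv_eq hπ] at hpq
  rw [hpq]

variable {M : Type u} [AddCommGroup M] [Module R M] {ℳ : ℤ → AddSubgroup M} [DirectSum.Decomposition ℳ]
  [SetLike.GradedSMul 𝒜 ℳ]

/-- positive depth gives a regular element of degree one -/
theorem exists_regular_one (hpos : ∀ n : ℤ, n < 0 → 𝒜 n = ⊥)
    (hstd : (posIdeal 𝒜).toIdeal = Ideal.span ((𝒜 1 : AddSubgroup R) : Set R))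
    [IsArtinianRing (GrLC.deg0 𝒜)] (hm : GrLC.IsStarLocal 𝒜 m) (hinf : Infinite (R ⧸ m.toIdeal))
    [Module.Finite R M] (hvan : ∀ g, Van m ℳ 0 g) : ∃ x ∈ 𝒜 1, IsSMulRegular M x := by
  classical
  have hgam : ∀ z ∈ GrLC.gam m.toIdeal M, z = 0 := fun z hz =>
    eq_zero_of_cp ℳ fun g => (van_zero_iff m).1 (hvan g) _ (gam_isHomogeneous 𝒜 ℳ m g hz) (cp_mem ℳ g z)
  obtain ⟨T, hT, hu⟩ := exists_infinite_unit_diff hpos hm hinf
  obtain ⟨N, hN⟩ := starLocal_pow_le_posIdeal hpos hm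
  let W : Ideal R → Submodule (GrLC.deg0 𝒜) (GrLC.comp 𝒜 𝒜 1) := fun p =>
    (p.restrictScalars (GrLC.deg0 𝒜)).comap (GrLC.comp 𝒜 𝒜 1).subtype
  have hW : ∀ p ∈ associatedPrimes R M, W p ≠ ⊤ := by
    intro p hp htop
    obtain ⟨hpp, z, hz⟩ := isAssociatedPrime_iff.1 hp
    have h1 : (posIdeal 𝒜).toIdeal ≤ p := hstd.le.trans (Ideal.span_le.2 fun x hx => by
      have : (⟨x, hx⟩ : GrLC.comp 𝒜 𝒜 1) ∈ W p := htop ▸ trivial
      exact this)
    have h2 : m.toIdeal ≤ p := fun c hc => hpp.mem_of_pow_mem N (h1 (hN (Ideal.pow_mem_pow hc N)))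
    have hz0 : z = 0 := hgam z ⟨1, fun c hc => by
      rw [pow_one] at hc
      have h3 : c ∈ (⊥ : Submodule R M).colon {z} := hz ▸ h2 hc
      simpa [Submodule.mem_colon_singleton] using h3⟩
    refine hpp.ne_top ((Ideal.eq_top_iff_one _).2 ?_)
    rw [hz, Submodule.mem_colon_singleton, hz0, smul_zero]
    exact zero_mem _
  obtain ⟨x, hx⟩ := exists_forall_notMem hT hu ((associatedPrimes.finite R M).toFinset.image W) fun V hV => by
    obtain ⟨p, hp, rfl⟩ := Finset.mem_image.1 hV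
    exact hW p ((Set.Finite.mem_toFinset _).1 hp)
  refine ⟨x.1, x.2, fun a b hab => ?_⟩
  by_contra hne
  obtain ⟨p, hp, hle⟩ := exists_le_isAssociatedPrime_of_isNoetherianRing R (a - b) (sub_ne_zero.2 hne)
  refine hx (W p) (Finset.mem_image_of_mem W ((Set.Finite.mem_toFinset _).2 hp)) (hle ?_)
  rw [Submodule.mem_colon_singleton, Submodule.mem_bot, smul_sub, sub_eq_zero]
  exact hab

/-- a regular sequence of linear forms as long as the depth -/
theorem exists_regSeq (hpos : ∀ n : ℤ, n < 0 → 𝒜 n = ⊥)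
    (hstd : (posIdeal 𝒜).toIdeal = Ideal.span ((𝒜 1 : AddSubgroup R) : Set R))
    [IsArtinianRing (GrLC.deg0 𝒜)] (hm : GrLC.IsStarLocal 𝒜 m) (hinf : Infinite (R ⧸ m.toIdeal)) :
    ∀ (n : ℕ) (M : Type u) [AddCommGroup M] [Module R M] (ℳ : ℤ → AddSubgroup M) [DirectSum.Decomposition ℳ]
      [SetLike.GradedSMul 𝒜 ℳ] [Module.Finite R M], (∀ i < n, ∀ g, Van m ℳ i g) →
      ∃ f : Fin n → R, (∀ j, f j ∈ 𝒜 1) ∧ RingTheory.Sequence.IsWeaklyRegular M (List.ofFn f) := by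
  intro n
  induction n with
  | zero => intro M _ _ ℳ _ _ _ _; exact ⟨Fin.elim0, fun j => j.elim0, by simp⟩
  | succ n ih =>
    intro M _ _ ℳ _ _ _ hvan
    obtain ⟨x, hx, hreg⟩ := exists_regular_one hpos hstd hm hinf (hvan 0 (Nat.succ_pos n))
    let φ : (shG 𝒜 ℳ (-1)).carrier →ₗ[R] M := (x • LinearMap.id : M →ₗ[R] M)
    have hφgr : GrLC.IsGrHom (shG 𝒜 ℳ (-1)).gr ℳ φ := fun g y hy => by
      change x • (y : M) ∈ ℳ g
      have h := smul_mem' 𝒜 ℳ hx (show (y : M) ∈ ℳ (g + -1) from hy)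
      rwa [show 1 + (g + -1) = g from by ring] at h
    have hP : (x • (⊤ : Submodule R M)).IsHomogeneous ℳ := by
      intro g y hy
      obtain ⟨z, -, rfl⟩ := (Submodule.mem_smul_pointwise_iff_exists _ _ _).1 hy
      change cp ℳ g (x • z) ∈ _
      rw [cp_smul_hom' 𝒜 ℳ hx]
      exact Submodule.smul_mem_pointwise_smul _ _ _ trivial
    let Q := quoG 𝒜 ℳ (x • (⊤ : Submodule R M)) hP
    let q : M →ₗ[R] Q.carrier := (x • (⊤ : Submodule R M)).mkQ
    have hq : GrLC.IsGrHom ℳ Q.gr q := fun g y hy => ⟨y, hy, rfl⟩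
    have hkerq : LinearMap.ker q = LinearMap.range (x • LinearMap.id : M →ₗ[R] M) := by
      refine (Submodule.ker_mkQ _).trans ?_
      ext y
      rw [Submodule.mem_smul_pointwise_iff_exists]
      exact ⟨fun ⟨z, _, hz⟩ => ⟨z, hz⟩, fun ⟨z, hz⟩ => ⟨z, trivial, hz⟩⟩
    have hvanQ : ∀ i < n, ∀ g, Van m Q.gr i g := fun i hi g =>
      van_right (ℳ₁ := (shG 𝒜 ℳ (-1)).gr) (ℳ₂ := ℳ) (ℳ₃ := Q.gr) m (f := φ) (g := q) hreg
        (Submodule.mkQ_surjective _) hkerq.symm hφgr hq (hvan i (by omega) g)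
        ((van_shift m (-1)).2 (hvan (i + 1) (by omega) _))
    haveI : Module.Finite R Q.carrier := Module.Finite.of_surjective q (Submodule.mkQ_surjective _)
    obtain ⟨f, hf, hfr⟩ := @ih Q.carrier Q.instAddCommGroupCarrier Q.instModuleCarrier Q.gr Q.dec Q.gsmul _ hvanQ
    refine ⟨Fin.cons x f, fun j => Fin.cases hx hf j, ?_⟩
    rw [List.ofFn_cons, RingTheory.Sequence.isWeaklyRegular_cons_iff]
    exact ⟨hreg, hfr⟩

omit [IsNoetherianRing R] in
theorem aeval_mem_of_isHomogeneous {d : ℕ} {y : Fin d → R} (hy : ∀ b, y b ∈ 𝒜 1) {n : ℕ}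
    {p : MvPolynomial (Fin d) (GrLC.deg0 𝒜)} (hp : p.IsHomogeneous n) : MvPolynomial.aeval y p ∈ 𝒜 (n : ℤ) := by
  classical
  rw [p.as_sum, map_sum]
  refine sum_mem fun e he => ?_
  rw [MvPolynomial.aeval_monomial, Finsupp.prod]
  have hw : Finsupp.weight (1 : Fin d → ℕ) e = n := hp (MvPolynomial.mem_support_iff.1 he)
  have hprod := SetLike.prod_mem_graded 𝒜 (fun b => ((e b : ℤ))) (fun b => y b ^ e b) (F := e.support) fun b _ => by
    have := SetLike.pow_mem_graded (e b) (hy b)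
    rwa [nsmul_one] at this
  have hsum : ∑ b ∈ e.support, ((e b : ℤ)) = n := by
    rw [← hw, Finsupp.weight_apply, Finsupp.sum, Nat.cast_sum]
    exact Finset.sum_congr rfl fun b _ => by simp
  rw [hsum] at hprod
  have := SetLike.mul_mem_graded (show algebraMap (GrLC.deg0 𝒜) R (p.coeff e) ∈ 𝒜 0 from (p.coeff e).2) hprod
  rwa [zero_add] at this

variable [LocCoh.IsCohenMacaulayRing R]

/-- a maximal regular sequence cuts out the *maximal ideal up to radical -/
theorem exists_pow_le_span (hpos : ∀ n : ℤ, n < 0 → 𝒜 n = ⊥) (hm : GrLC.IsStarLocal 𝒜 m) {d : ℕ}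
    (hd : ringKrullDim R = d) {y : Fin d → R} (hy : ∀ b, y b ∈ 𝒜 1)
    (hreg : RingTheory.Sequence.IsWeaklyRegular R (List.ofFn y)) :
    ∃ N : ℕ, m.toIdeal ^ N ≤ Ideal.span (Set.range y) := by
  refine Ideal.exists_pow_le_of_le_radical_of_fg ?_ (IsNoetherian.noetherian _)
  rw [Ideal.radical_eq_sInf]
  refine le_sInf ?_
  rintro p ⟨hp, hpp⟩
  have hyhom : (Ideal.span (Set.range y)).IsHomogeneous 𝒜 :=
    Ideal.homogeneous_span 𝒜 _ fun x ⟨b, hb⟩ => ⟨1, hb ▸ hy b⟩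
  let P : Ideal R := (p.homogeneousCore 𝒜).toIdeal
  haveI hPp : P.IsPrime := hpp.homogeneousCore
  have hyP : Ideal.span (Set.range y) ≤ P :=
    hyhom.toIdeal_homogeneousCore_eq_self.symm.le.trans (Ideal.homogeneousCore_mono 𝒜 hp)
  have hPm : P ≤ m.toIdeal := le_starLocal hm (p.homogeneousCore 𝒜).isHomogeneous hPp.ne_top
  haveI : m.toIdeal.IsMaximal := starLocal_isMaximal hpos hm
  have hh : m.toIdeal.height = d := by
    have := ringKrullDim_eq_height_starLocal hpos hm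
    rw [hd] at this
    exact_mod_cast this.symm
  have hdP : (d : ℕ∞) ≤ P.height := by
    have h1 := Groth.L04.length_le_idealDepth (M := R) (I := P) hreg fun r hr => by
      obtain ⟨b, rfl⟩ := List.mem_ofFn.1 hr
      exact hyP (Ideal.subset_span ⟨b, rfl⟩)
    rw [List.length_ofFn, Groth.L04.isCohenMacaulayRing_iff_height.1 ‹_› P hPp.ne_top] at h1
    exact h1
  have hmP : P = m.toIdeal := by
    by_contra hne
    haveI : Ideal.FiniteHeight P := ⟨Or.inr (ne_top_of_le_ne_top (by rw [hh]; simp) (Ideal.height_mono hPm))⟩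
    have := Ideal.height_strict_mono_of_isPrime (lt_of_le_of_ne hPm hne)
    rw [hh] at this
    exact absurd (lt_of_le_of_lt hdP this) (lt_irrefl _)
  exact hmP.symm.le.trans (Ideal.toIdeal_homogeneousCore_le 𝒜 p)

/-- a-invariant `-d`: the ring is a polynomial ring over its degree zero part -/
theorem exists_polynomial_equiv (hpos : ∀ n : ℤ, n < 0 → 𝒜 n = ⊥)
    (hstd : (posIdeal 𝒜).toIdeal = Ideal.span ((𝒜 1 : AddSubgroup R) : Set R))
    [IsArtinianRing (GrLC.deg0 𝒜)] (hm : GrLC.IsStarLocal 𝒜 m)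
    (hinf : Infinite (R ⧸ m.toIdeal)) (d : ℕ) (hd : ringKrullDim R = d) (I : GrLC.StarInjRes 𝒜 𝒜)
    (ha : GrLC.endDeg (I.Hgr m d) = (((-(d : ℤ) : ℤ) : WithTop ℤ) : WithBot (WithTop ℤ))) :
    ∃ e : MvPolynomial (Fin d) (GrLC.deg0 𝒜) ≃ₐ[GrLC.deg0 𝒜] R, ∀ t : Fin d, e (MvPolynomial.X t) ∈ 𝒜 1 := by
  classical
  have hvan : ∀ i < d, ∀ g, Van m 𝒜 i g := fun i hi g => van_below_dim hpos hm hd hi g
  obtain ⟨y, hy, hreg⟩ := exists_regSeq hpos hstd hm hinf d R 𝒜 hvan
  obtain ⟨N, hN⟩ := exists_pow_le_span hpos hm hd hy hreg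
  have hyhom : (Ideal.span (Set.range y)).IsHomogeneous 𝒜 :=
    Ideal.homogeneous_span 𝒜 _ fun x ⟨b, hb⟩ => ⟨1, hb ▸ hy b⟩
  let Q := quoG 𝒜 𝒜 (Ideal.span (Set.range y)) hyhom
  let π : R →ₗ[R] Q.carrier := Submodule.mkQ (Ideal.span (Set.range y))
  obtain ⟨F⟩ := nonempty_starInjRes 𝒜 Q.gr
  have hym : ∀ b, y b ∈ m.toIdeal := fun b => mem_starLocal_of_pos hpos hm zero_lt_one (hy b)
  have hend := endDeg_regSeq_eq m d R 𝒜 y (fun _ => 1) hy hym (fun _ => zero_le_one) hreg d le_rfl hvan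
    Q.carrier Q.gr π (fun g x hx => ⟨x, hx, rfl⟩) (Submodule.mkQ_surjective _)
    ((Submodule.ker_mkQ _).trans (by rw [smul_eq_mul, Ideal.mul_top])) I F
  rw [ha, Nat.sub_self] at hend
  have hend0 : GrLC.endDeg (F.Hgr m 0) = (((0 : ℤ) : WithTop ℤ) : WithBot (WithTop ℤ)) := by
    rw [hend, ← WithBot.coe_add, ← WithTop.coe_add]
    simp
  have hin : ∀ g : ℤ, 0 < g → ∀ x ∈ 𝒜 g, x ∈ Ideal.span (Set.range y) := by
    intro g hg x hx
    have h0 := (van_zero_iff m).1 ((van_iff m F).2 ((endDeg_le_coe_iff _ _).1 hend0.le g hg)) (π x)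
      ⟨N, fun c hc => by
        rw [← map_smul]
        exact (Submodule.Quotient.mk_eq_zero _).2 (Ideal.mul_mem_right _ _ (hN hc))⟩ ⟨x, hx, rfl⟩
    exact (Submodule.Quotient.mk_eq_zero _).1 h0
  let φ : MvPolynomial (Fin d) (GrLC.deg0 𝒜) →ₐ[GrLC.deg0 𝒜] R := MvPolynomial.aeval y
  have hgr : ∀ n : ℕ, ∀ x ∈ 𝒜 (n : ℤ), ∃ p, φ p = x := by
    intro n
    induction n with
    | zero => intro x hx; exact ⟨MvPolynomial.C ⟨x, hx⟩, MvPolynomial.aeval_C y _⟩
    | succ n ih =>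
      intro x hx
      obtain ⟨c, hc⟩ := (Submodule.mem_span_range_iff_exists_fun R).1 (hin _ (by omega) x hx)
      choose q hq using fun b => ih (cp 𝒜 (n : ℤ) (c b)) (cp_mem 𝒜 _ _)
      refine ⟨∑ b, q b * MvPolynomial.X b, ?_⟩
      rw [map_sum, ← cp_same 𝒜 hx, ← hc, map_sum]
      refine Finset.sum_congr rfl fun b _ => ?_
      rw [map_mul, hq b, cp_smul_mem 𝒜 𝒜 (c b) (hy b), Nat.cast_succ, add_sub_cancel_right]
      change _ * MvPolynomial.aeval y (MvPolynomial.X b) = _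
      rw [MvPolynomial.aeval_X]
      rfl
  have hsurj : Function.Surjective φ := fun x => by
    obtain ⟨s, hs, -⟩ := exists_sum_cp 𝒜 x
    have hcomp : ∀ g, ∃ p, φ p = cp 𝒜 g x := fun g => by
      rcases lt_or_ge g 0 with hg | hg
      · have := cp_mem 𝒜 g x
        rw [hpos g hg, AddSubgroup.mem_bot] at this
        exact ⟨0, by rw [map_zero, this]⟩
      · obtain ⟨n, rfl⟩ := Int.eq_ofNat_of_zero_le hg
        exact hgr n _ (cp_mem 𝒜 _ x)
    choose p hp using hcomp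
    exact ⟨∑ g ∈ s, p g, by rw [map_sum]; simp only [hp, hs]⟩
  have hinj : Function.Injective φ := by
    rw [injective_iff_map_eq_zero]
    intro p hp
    rw [← MvPolynomial.sum_homogeneousComponent p]
    refine Finset.sum_eq_zero fun n hn => ?_
    set pn := MvPolynomial.homogeneousComponent n p with hpn
    have hn0 : φ pn = 0 := by
      have h1 := congrArg (cp 𝒜 (n : ℤ)) hp
      rw [map_zero, ← MvPolynomial.sum_homogeneousComponent p, map_sum, map_sum,
        Finset.sum_eq_single_of_mem n hn fun i _ hi => cp_ne 𝒜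
          (aeval_mem_of_isHomogeneous hy (MvPolynomial.homogeneousComponent_isHomogeneous i p))
          (by exact_mod_cast hi)] at h1
      rwa [cp_same 𝒜 (aeval_mem_of_isHomogeneous hy (MvPolynomial.homogeneousComponent_isHomogeneous n p))] at h1
    have hev : MvPolynomial.eval y (MvPolynomial.map (algebraMap (GrLC.deg0 𝒜) R) pn) = 0 := by
      rw [MvPolynomial.eval_map]
      exact hn0
    have hco := Groth.L07.QReg.isQuasiRegular_of_isWeaklyRegular hreg n _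
      ((MvPolynomial.homogeneousComponent_isHomogeneous n p).map (algebraMap (GrLC.deg0 𝒜) R))
      (by rw [hev]; exact zero_mem _)
    ext e
    rw [MvPolynomial.coeff_zero]
    have h2 := hco e
    rw [MvPolynomial.coeff_map] at h2
    obtain ⟨c, hc⟩ := (Submodule.mem_span_range_iff_exists_fun R).1 h2
    have h3 : cp 𝒜 0 (algebraMap (GrLC.deg0 𝒜) R (pn.coeff e)) = 0 := by
      rw [← hc, map_sum]
      refine Finset.sum_eq_zero fun b _ => ?_
      rw [cp_smul_mem 𝒜 𝒜 (c b) (hy b)]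
      have := cp_mem 𝒜 ((0 : ℤ) - 1) (c b)
      rw [hpos _ (by norm_num), AddSubgroup.mem_bot] at this
      rw [this, zero_smul]
    rw [cp_same 𝒜 (show algebraMap (GrLC.deg0 𝒜) R (pn.coeff e) ∈ 𝒜 0 from (pn.coeff e).2)] at h3
    exact h3
  exact ⟨AlgEquiv.ofBijective φ ⟨hinj, hsurj⟩, fun t => by
    change MvPolynomial.aeval y (MvPolynomial.X t) ∈ 𝒜 1
    rw [MvPolynomial.aeval_X]; exact hy t⟩

end Groth.L14.GrPolyArt
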