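import Groth.Prelude.Def_GLin6
import Groth.Agent.L08.GITSep
import Mathlib.Data.Nat.Choose.Multinomial
import Mathlib.Algebra.Polynomial.Roots
import Mathlib.Algebra.MvPolynomial.Eval
import Mathlib.FieldTheory.IsAlgClosed.Basic
import Mathlib.LinearAlgebra.Determinant
import Mathlib.LinearAlgebra.FreeModule.Finite.Basic
import Mathlib.RingTheory.FiniteType
import Mathlib.Tactic.LinearCombination

/-!
# Point configurations with too many points in a subspace are not stable
-/

set_option autoImplicit false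
set_option linter.style.haveILetI false
set_option backward.isDefEq.respectTransparency false

universe u v

open TensorProduct MvPolynomial

noncomputable section

namespace Groth.L14.PointSet

variable {k : Type u} [Field k] {N d : ℕ} {B : Type v} [CommRing B] [Algebra k B]

/-- Substitution `F ↦ F(Mx)`. -/
def sub (M : Matrix (Fin N) (Fin N) B) : MvPolynomial (Fin N) B →ₐ[B] MvPolynomial (Fin N) B :=
  aeval fun i => ∑ j, C (M i j) * X j

theorem sub_sub (M M' : Matrix (Fin N) (Fin N) B) (F : MvPolynomial (Fin N) B) :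
    sub M' (sub M F) = sub (M * M') F := by
  have : (sub M').comp (sub M) = sub (M * M') := by
    refine MvPolynomial.algHom_ext fun i => ?_
    simp only [sub, AlgHom.comp_apply, aeval_X, map_sum, map_mul, aeval_C, algebraMap_eq,
      Matrix.mul_apply, Finset.sum_mul, Finset.mul_sum, mul_assoc]
    exact Finset.sum_comm
  exact DFunLike.congr_fun this F

theorem sub_one (F : MvPolynomial (Fin N) B) : sub (1 : Matrix (Fin N) (Fin N) B) F = F := by
  classical
  have : sub (1 : Matrix (Fin N) (Fin N) B) = AlgHom.id B _ := by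
    refine MvPolynomial.algHom_ext fun i => ?_
    simp [sub, Matrix.one_apply]
  exact DFunLike.congr_fun this F

theorem sub_lin (M : Matrix (Fin N) (Fin N) B) (p : Fin N → B) :
    sub M (∑ i, C (p i) * X i) = ∑ j, C ((M.transpose.mulVec p) j) * X j := by
  simp only [sub, map_sum, map_mul, aeval_C, algebraMap_eq, aeval_X, Finset.mul_sum,
    Matrix.mulVec, dotProduct, Matrix.transpose_apply, Finset.sum_mul]
  rw [Finset.sum_comm]
  refine Finset.sum_congr rfl fun i _ => Finset.sum_congr rfl fun j _ => ?_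
  ring

theorem map_sub_comm {B' : Type*} [CommRing B'] (f : B →+* B') (M : Matrix (Fin N) (Fin N) B)
    (F : MvPolynomial (Fin N) B) : MvPolynomial.map f (sub M F) = sub (M.map f) (MvPolynomial.map f F) := by
  induction F using MvPolynomial.induction_on with
  | C r => simp [sub]
  | add p q hp hq => simp only [map_add, hp, hq]
  | mul_X p i hp =>
    simp only [map_mul, hp, map_X]
    congr 1
    simp [sub]

/-- The multinomial theorem over the exponent vectors of degree `d`. -/
theorem sum_pow_eq {R : Type*} [CommSemiring R] (y : Fin N → R) :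
    (∑ i, y i) ^ d = ∑ m : CoordGrp.FormIdx N d, (m.1.multinomial : R) * ∏ i, y i ^ m.1 i := by
  classical
  rw [Finset.sum_pow_eq_sum_piAntidiag]
  refine (Finset.sum_bij (fun (m : CoordGrp.FormIdx N d) _ => (m.1 : Fin N → ℕ)) (fun m _ => ?_)
    (fun m _ m' _ h => Subtype.ext (DFunLike.coe_injective h)) (fun f hf => ?_) fun m _ => ?_).symm
  · rw [Finset.mem_piAntidiag]
    refine ⟨?_, fun i _ => Finset.mem_univ i⟩
    exact (Finsupp.degree_eq_sum m.1).symm.trans m.2
  · rw [Finset.mem_piAntidiag] at hf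
    refine ⟨⟨Finsupp.equivFunOnFinite.symm f, ?_⟩, Finset.mem_univ _, funext fun i => rfl⟩
    rw [Finsupp.degree_eq_sum]
    exact hf.1
  · rw [← Finsupp.multinomial_of_support_subset (Finset.subset_univ m.1.support)]

theorem prod_X_pow (m : Fin N →₀ ℕ) :
    ∏ i, (X i : MvPolynomial (Fin N) B) ^ m i = monomial m 1 := by
  rw [monomial_eq, map_one, one_mul, Finsupp.prod_fintype _ _ fun i => pow_zero _]

theorem aeval_formCoeff (M : Matrix (Fin N) (Fin N) B) (l m : CoordGrp.FormIdx N d) :
    CoordGrp.Mat.aeval N k M (CoordGrp.formCoeff k N d l m) =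
      (sub M.transpose (monomial m.1 1)).coeff l.1 := by
  classical
  let E : MvPolynomial (Fin N) k ⊗[k] CoordGrp.Mat N k →ₐ[k] MvPolynomial (Fin N) B :=
    Algebra.TensorProduct.lift (aeval fun i => (X i : MvPolynomial (Fin N) B))
      ((IsScalarTower.toAlgHom k B (MvPolynomial (Fin N) B)).comp (CoordGrp.Mat.aeval N k M))
      fun _ _ => Commute.all _ _
  have hw : ∀ w, (E w).coeff l.1 =
      CoordGrp.Mat.aeval N k M (CoordGrp.coeffT (k := k) l.1 w) := by
    intro w
    induction w using TensorProduct.induction_on with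
    | zero => simp
    | add x y hx hy => simp only [map_add, coeff_add, hx, hy]
    | tmul p a =>
      have hp : aeval (fun i => (X i : MvPolynomial (Fin N) B)) p
          = MvPolynomial.map (algebraMap k B) p := by
        rw [← MvPolynomial.aeval_map_algebraMap B, aeval_X_left_apply]
      rw [CoordGrp.coeffT_tmul, map_smul, Algebra.smul_def]
      simp only [E, Algebra.TensorProduct.lift_tmul, hp, AlgHom.comp_apply, IsScalarTower.coe_toAlgHom',
        algebraMap_eq]
      rw [mul_comm, coeff_C_mul, coeff_map, mul_comm]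
  have hE : ∀ q : MvPolynomial (Fin N) k, E (CoordGrp.stdCoactAlg N k q) =
      sub M.transpose (MvPolynomial.map (algebraMap k B) q) := by
    intro q
    rw [sub, MvPolynomial.aeval_map_algebraMap, ← AlgHom.comp_apply]
    congr 1
    refine MvPolynomial.algHom_ext fun i => ?_
    simp only [AlgHom.comp_apply, CoordGrp.stdCoactAlg_X, map_sum, E, Algebra.TensorProduct.lift_tmul,
      aeval_X, CoordGrp.Mat.aeval_X, IsScalarTower.coe_toAlgHom', algebraMap_eq, Matrix.transpose_apply]
    exact Finset.sum_congr rfl fun j _ => mul_comm _ _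
  rw [CoordGrp.formCoeff_def, ← hw, hE, map_monomial, map_one]

theorem duality (M : Matrix (Fin N) (Fin N) B) (l : CoordGrp.FormIdx N d) :
    ∑ m : CoordGrp.FormIdx N d, monomial m.1
        ((m.1.multinomial : B) * (sub M.transpose (monomial m.1 1)).coeff l.1) =
      (l.1.multinomial : MvPolynomial (Fin N) B) * sub M (monomial l.1 1) := by
  classical
  let u : MvPolynomial (Fin N) B →+* MvPolynomial (Fin N) (MvPolynomial (Fin N) B) := MvPolynomial.map C
  let x : Fin N → MvPolynomial (Fin N) (MvPolynomial (Fin N) B) := fun i => C (X i)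
  have huC : ∀ r, u (C r) = C (C r) := fun r => MvPolynomial.map_C _ _
  have huX : ∀ i, u (X i) = X i := fun i => MvPolynomial.map_X _ _
  have h1 : (∑ i, x i * u (∑ j, C (M.transpose i j) * X j)) =
      ∑ j, X j * C (∑ i, C (M j i) * X i) := by
    simp only [map_sum, map_mul, huC, huX, x, Finset.mul_sum, Matrix.transpose_apply]
    rw [Finset.sum_comm]
    refine Finset.sum_congr rfl fun i _ => Finset.sum_congr rfl fun j _ => ?_
    ring
  have h2 : (∑ i, x i * u (∑ j, C (M.transpose i j) * X j)) ^ d =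
      (∑ j, X j * C (∑ i, C (M j i) * X i)) ^ d := by rw [h1]
  rw [sum_pow_eq, sum_pow_eq] at h2
  have h3 := congrArg (MvPolynomial.coeff l.1) h2
  rw [coeff_sum, coeff_sum] at h3
  have hL : ∀ m : CoordGrp.FormIdx N d,
      ((m.1.multinomial : MvPolynomial (Fin N) (MvPolynomial (Fin N) B)) * ∏ i, (x i * u (∑ j, C (M.transpose i j) * X j)) ^ m.1 i).coeff l.1 =
        monomial m.1 ((m.1.multinomial : B) * (sub M.transpose (monomial m.1 1)).coeff l.1) := by
    intro m
    have e1 : ∏ i, (∑ j, C (M.transpose i j) * X j : MvPolynomial (Fin N) B) ^ m.1 i =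
        sub M.transpose (monomial m.1 1) := by
      rw [← prod_X_pow, map_prod]
      simp only [sub, map_pow, aeval_X]
    simp only [mul_pow, Finset.prod_mul_distrib, x, u, ← map_pow, ← map_prod, e1, prod_X_pow]
    rw [← mul_assoc, ← map_natCast (C : MvPolynomial (Fin N) B →+* MvPolynomial (Fin N) (MvPolynomial (Fin N) B)), ← map_mul, coeff_C_mul,
      coeff_map, ← map_natCast (C : B →+* MvPolynomial (Fin N) B), C_mul_monomial, mul_one,
      mul_comm, C_mul_monomial, mul_comm]
  have hR : ∀ j : CoordGrp.FormIdx N d,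
      ((j.1.multinomial : MvPolynomial (Fin N) (MvPolynomial (Fin N) B)) * ∏ i, (X i * C (∑ t, C (M i t) * X t : MvPolynomial (Fin N) B)) ^ j.1 i).coeff l.1 =
        if j = l then (l.1.multinomial : MvPolynomial (Fin N) B) * sub M (monomial l.1 1) else 0 := by
    intro j
    have e1 : ∏ i, (∑ t, C (M i t) * X t : MvPolynomial (Fin N) B) ^ j.1 i = sub M (monomial j.1 1) := by
      rw [← prod_X_pow, map_prod]
      simp only [sub, map_pow, aeval_X]
    simp only [mul_pow, Finset.prod_mul_distrib, ← map_pow, ← map_prod, e1, prod_X_pow]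
    rw [← map_natCast (C : MvPolynomial (Fin N) B →+* MvPolynomial (Fin N) (MvPolynomial (Fin N) B)), coeff_C_mul, mul_comm (monomial j.1 1),
      coeff_C_mul, coeff_monomial]
    split_ifs with h h' h'
    · subst h'; rw [mul_one]
    · exact absurd (Subtype.ext h) h'
    · exact absurd (congrArg Subtype.val h') h
    · simp
  simp only [hL, hR, Finset.sum_ite_eq', Finset.mem_univ, if_true] at h3
  exact h3

/-- The form with coefficients `b`. -/
def formB (b : CoordGrp.FormIdx N d → B) : MvPolynomial (Fin N) B :=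
  ∑ m, monomial m.1 ((m.1.multinomial : B) * b m)

theorem coeff_formB (b : CoordGrp.FormIdx N d → B) (m : CoordGrp.FormIdx N d) :
    (formB b).coeff m.1 = (m.1.multinomial : B) * b m := by
  classical
  rw [formB, coeff_sum, Finset.sum_eq_single m]
  · simp
  · intro l _ hl
    rw [coeff_monomial, if_neg (fun h => hl (Subtype.ext h))]
  · intro h; exact absurd (Finset.mem_univ m) h

theorem map_formPoly (a : CoordGrp.FormIdx N d → k) :
    MvPolynomial.map (algebraMap k B) (CoordGrp.formPoly a) = formB fun m => algebraMap k B (a m) := by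
  simp [CoordGrp.formPoly, formB, map_sum, map_monomial]

/-- The coefficients of a form moved by `M`. -/
def act (M : Matrix (Fin N) (Fin N) B) (a : CoordGrp.FormIdx N d → k) (m : CoordGrp.FormIdx N d) : B :=
  ∑ l, algebraMap k B (a l) * CoordGrp.Mat.aeval N k M (CoordGrp.formCoeff k N d l m)

theorem formB_act (M : Matrix (Fin N) (Fin N) B) (a : CoordGrp.FormIdx N d → k) :
    formB (act M a) = sub M (MvPolynomial.map (algebraMap k B) (CoordGrp.formPoly a)) := by
  classical
  have h1 : formB (act M a) = ∑ l, C (algebraMap k B (a l)) *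
      ∑ m : CoordGrp.FormIdx N d, monomial m.1
        ((m.1.multinomial : B) * (sub M.transpose (monomial m.1 1)).coeff l.1) := by
    simp only [formB, act, aeval_formCoeff, Finset.mul_sum, map_sum, C_mul_monomial]
    rw [Finset.sum_comm]
    refine Finset.sum_congr rfl fun i _ => Finset.sum_congr rfl fun j _ => ?_
    congr 1
    ring
  rw [h1, map_formPoly, formB, map_sum]
  refine Finset.sum_congr rfl fun l _ => ?_
  rw [duality]
  have e : (monomial l.1 ((l.1.multinomial : B) * algebraMap k B (a l)) : MvPolynomial (Fin N) B) =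
      C ((l.1.multinomial : B) * algebraMap k B (a l)) * monomial l.1 1 := by
    rw [C_mul_monomial, mul_one]
  rw [e, map_mul, show ∀ c, sub M (C c) = C c from fun c => by simp [sub], map_mul, map_natCast]
  ring

theorem multinomial_ne_zero (hd : (d.factorial : k) ≠ 0) (m : CoordGrp.FormIdx N d) :
    ((m.1.multinomial : ℕ) : k) ≠ 0 := by
  intro h
  refine hd ?_
  have hs := Nat.multinomial_spec (s := (Finset.univ : Finset (Fin N))) (f := (m.1 : Fin N → ℕ))
  rw [Finsupp.multinomial_of_support_subset (Finset.subset_univ m.1.support)] at hs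
  have hdeg : ∑ i, m.1 i = d := by rw [← Finsupp.degree_eq_sum, m.2]
  rw [hdeg] at hs
  rw [← hs, Nat.cast_mul, h, mul_zero]

theorem formB_injective (hd : (d.factorial : k) ≠ 0) {b b' : CoordGrp.FormIdx N d → k}
    (h : formB b = formB b') : b = b' := by
  funext m
  have h1 := congrArg (MvPolynomial.coeff m.1) h
  rw [coeff_formB, coeff_formB] at h1
  exact mul_left_cancel₀ (multinomial_ne_zero hd m) h1

theorem gLb_rel (M : Matrix (Fin N) (Fin N) B) (h : M.det = 1) :
    CoordGrp.GLb.aeval N k M 1 (CoordGrp.GLb.rel N k) = 0 := by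
  unfold CoordGrp.GLb.rel
  rw [map_sub, map_mul, map_one, CoordGrp.GLb.det, AlgHom.map_det, CoordGrp.GLb.aeval_mapMatrix_genMat,
    CoordGrp.GLb.aeval_D, h, one_mul, sub_self]

/-- The point of the general linear group with matrix `M` of determinant one. -/
def glPt (M : Matrix (Fin N) (Fin N) B) (h : M.det = 1) : CoordGrp.GLn N k →ₐ[k] B :=
  Ideal.Quotient.liftₐ (CoordGrp.GLb.relIdeal N k) (CoordGrp.GLb.aeval N k M 1) fun x hx => by
    obtain ⟨b, rfl⟩ := Ideal.mem_span_singleton'.1 hx
    rw [map_mul, gLb_rel M h, mul_zero]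

/-- The point of the special linear group with matrix `M`. -/
def slPt (M : Matrix (Fin N) (Fin N) B) (h : M.det = 1) : CoordGrp.SLn N k →ₐ[k] B :=
  Ideal.Quotient.liftₐ (CoordGrp.GLn.slIdeal N k) (glPt M h) fun x hx => by
    obtain ⟨b, rfl⟩ := Ideal.mem_span_singleton'.1 hx
    have e : glPt (k := k) M h (CoordGrp.GLn.det : CoordGrp.GLn N k) = M.det := by
      change CoordGrp.GLb.aeval N k M 1 (CoordGrp.GLb.det N k) = _
      rw [CoordGrp.GLb.det, AlgHom.map_det, CoordGrp.GLb.aeval_mapMatrix_genMat]
    rw [map_mul, CoordGrp.GLn.slRel, map_sub, map_one, e, h, sub_self, mul_zero]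

theorem slPt_X (M : Matrix (Fin N) (Fin N) B) (h : M.det = 1) (i j : Fin N) :
    slPt (k := k) M h (CoordGrp.SLn.X i j) = M i j := by
  change CoordGrp.GLb.aeval N k M 1 (CoordGrp.GLb.X i j) = _
  rw [CoordGrp.GLb.aeval_X]

/-- The matrix of a point. -/
def ptMat (φ : CoordGrp.SLn N k →ₐ[k] B) : Matrix (Fin N) (Fin N) B :=
  fun i j => φ (CoordGrp.SLn.X i j)

theorem det_ptMat (φ : CoordGrp.SLn N k →ₐ[k] B) : (ptMat φ).det = 1 := by
  have h : (ptMat φ) = ((φ.comp (CoordGrp.SLn.mk N k)).mapMatrix) (CoordGrp.GLn.genMat N k) := rfl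
  rw [h, ← AlgHom.map_det, ← CoordGrp.GLn.det_eq, AlgHom.comp_apply, CoordGrp.SLn.det_eq_one, map_one]

theorem comp_toGLn (φ : CoordGrp.SLn N k →ₐ[k] B) (c : CoordGrp.Mat N k) :
    φ (CoordGrp.SLn.mk N k (CoordGrp.Mat.toGLn N k c)) = CoordGrp.Mat.aeval N k (ptMat φ) c := by
  have : (φ.comp ((CoordGrp.SLn.mk N k).comp (CoordGrp.Mat.toGLn N k : CoordGrp.Mat N k →ₐ[k] CoordGrp.GLn N k))) =
      CoordGrp.Mat.aeval N k (ptMat φ) := by
    refine CoordGrp.Mat.algHom_ext fun i j => ?_
    rw [CoordGrp.Mat.aeval_X]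
    change φ (CoordGrp.SLn.mk N k (CoordGrp.Mat.toGLn N k (CoordGrp.Mat.X i j))) = _
    rw [CoordGrp.Mat.toGLn_X]
    rfl
  exact DFunLike.congr_fun this c


section Main

variable {n m : ℕ}

theorem apply_orbitHom_X (φ : CoordGrp.SLn (n + 1) k →ₐ[k] B) (a : CoordGrp.FormIdx (n + 1) m → k)
    (e : CoordGrp.FormIdx (n + 1) m) :
    letI := (GLin.comodAlong ((CoordGrp.SLn.mkHom (n + 1) k).comp (CoordGrp.Mat.toGLn (n + 1) k))
      (CoordGrp.formsCoact k (n + 1) m))
    haveI := GLin.isCoactAlg_comodAlong ((CoordGrp.SLn.mkHom (n + 1) k).comp (CoordGrp.Mat.toGLn (n + 1) k))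
      (CoordGrp.formsCoact k (n + 1) m) (CoordGrp.formsCoact_isCoactAlg k (n + 1) m)
    φ (GLin.orbitHom k (CoordGrp.SLn (n + 1) k) (GLin.vecPt k (CoordGrp.FormIdx (n + 1) m) a) (X e)) =
      act (ptMat φ) a e := by
  letI := (GLin.comodAlong ((CoordGrp.SLn.mkHom (n + 1) k).comp (CoordGrp.Mat.toGLn (n + 1) k))
      (CoordGrp.formsCoact k (n + 1) m))
  haveI := GLin.isCoactAlg_comodAlong ((CoordGrp.SLn.mkHom (n + 1) k).comp (CoordGrp.Mat.toGLn (n + 1) k))
      (CoordGrp.formsCoact k (n + 1) m) (CoordGrp.formsCoact_isCoactAlg k (n + 1) m)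
  have h : GLin.coactAlgHom k (CoordGrp.SLn (n + 1) k) (CoordGrp.FormRing k (n + 1) m) (X e) =
      ∑ l : CoordGrp.FormIdx (n + 1) m, (X l : CoordGrp.FormRing k (n + 1) m) ⊗ₜ[k]
        CoordGrp.SLn.mk (n + 1) k (CoordGrp.Mat.toGLn (n + 1) k (CoordGrp.formCoeff k (n + 1) m l e)) := by
    rw [GLin.coactAlgHom_apply]
    change TensorProduct.map LinearMap.id _ (CoordGrp.formsCoactAlg k (n + 1) m (X e)) = _
    rw [CoordGrp.formsCoactAlg_X, map_sum]
    rfl
  rw [GLin.orbitHom, AlgHom.comp_apply, AlgHom.comp_apply, h, map_sum, map_sum, map_sum, act]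
  refine Finset.sum_congr rfl fun l _ => ?_
  rw [Algebra.TensorProduct.map_tmul, GLin.vecPt, aeval_X, AlgHom.id_apply]
  rw [← comp_toGLn]
  refine (congrArg φ (TensorProduct.lid_tmul _ _)).trans ?_
  rw [map_smul, Algebra.smul_def]

variable [IsAlgClosed k]

/-- A point in the closure of a closed orbit lies on the orbit. -/
theorem exists_actPt_eq {A R : Type u} [CommRing A] [HopfAlgebra k A] [Algebra.FiniteType k A]
    [CommRing R] [Algebra k R] [HopfRep.Comod k A R] [GLin.IsCoactAlg k A R]
    {x w : R →ₐ[k] k} (hx : GLin.IsClosedOrbit k A x) (hw : GLin.InOrbitClosure k A x w) :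
    ∃ g : A →ₐ[k] k, GLin.actPt k g x = w := by
  let f := (GLin.orbitHom k A x).toRingHom
  have hmem : (⟨RingHom.ker w, RingHom.ker_isPrime _⟩ : PrimeSpectrum R) ∈
      Set.range (PrimeSpectrum.comap f) := by
    rw [← hx.closure_eq, PrimeSpectrum.closure_range_comap]
    exact hw
  obtain ⟨P, hP⟩ := hmem
  obtain ⟨g, hg⟩ := Groth.L08.GITSep.exists_point (k := k) A P.asIdeal P.isPrime.ne_top
  refine ⟨g, AlgHom.ext fun r => ?_⟩
  have h1 : r - algebraMap k R (w r) ∈ RingHom.ker w := by simp [RingHom.mem_ker]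
  rw [show RingHom.ker w = Ideal.comap f P.asIdeal from congrArg PrimeSpectrum.asIdeal hP.symm] at h1
  have h2 := hg _ h1
  rw [map_sub, map_sub, sub_eq_zero] at h2
  rw [GLin.actPt, AlgHom.comp_apply]
  refine h2.trans ?_
  show g (GLin.orbitHom k A x (algebraMap k R (w r))) = w r
  rw [AlgHom.commutes, AlgHom.commutes]
  rfl

/-- A finite stabiliser has finitely many rational points. -/
theorem finite_fixing {A R : Type u} [CommRing A] [HopfAlgebra k A] [CommRing R] [Algebra k R]
    [HopfRep.Comod k A R] [GLin.IsCoactAlg k A R] {x : R →ₐ[k] k} (hst : GLin.HasFiniteStab k A x) :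
    {g : A →ₐ[k] k | GLin.actPt k g x = x}.Finite := by
  haveI : Module.Finite k (A ⧸ GLin.stabIdeal k A x) := hst
  refine (Set.finite_range fun ψ : (A ⧸ GLin.stabIdeal k A x) →ₐ[k] k =>
    ψ.comp (Ideal.Quotient.mkₐ k _)).subset fun g hg => ?_
  refine ⟨Ideal.Quotient.liftₐ _ g fun s hs => ?_, AlgHom.ext fun s => rfl⟩
  have : GLin.stabIdeal k A x ≤ RingHom.ker g := by
    rw [GLin.stabIdeal, Ideal.map_le_iff_le_comap]
    intro r hr
    rw [Ideal.mem_comap, RingHom.mem_ker]
    exact (DFunLike.congr_fun hg r).trans hr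
  exact this hs

/-- A configuration with too many points in a subspace is not stable. -/
theorem not_isStableVec (hm : (m.factorial : k) ≠ 0) (p : Fin m → Fin (n + 1) → k)
    (a : CoordGrp.FormIdx (n + 1) m → k)
    (ha : CoordGrp.formPoly a = ∏ i, ∑ j, C (p i j) * X j)
    (W : Submodule k (Fin (n + 1) → k)) (hW : W ≠ ⊥) (hW' : W ≠ ⊤)
    (hq : m * Module.finrank k W ≤ Nat.card {i : Fin m // p i ∈ W} * (n + 1)) :
    ¬ @GLin.IsStableVec k _ (CoordGrp.SLn (n + 1) k) _ _ (CoordGrp.FormIdx (n + 1) m) (GLin.comodAlong ((CoordGrp.SLn.mkHom (n + 1) k).comp (CoordGrp.Mat.toGLn (n + 1) k))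
      (CoordGrp.formsCoact k (n + 1) m))
      (GLin.isCoactAlg_comodAlong ((CoordGrp.SLn.mkHom (n + 1) k).comp (CoordGrp.Mat.toGLn (n + 1) k))
        (CoordGrp.formsCoact k (n + 1) m) (CoordGrp.formsCoact_isCoactAlg k (n + 1) m)) a := by
  classical
  letI := (GLin.comodAlong ((CoordGrp.SLn.mkHom (n + 1) k).comp (CoordGrp.Mat.toGLn (n + 1) k))
      (CoordGrp.formsCoact k (n + 1) m))
  haveI := GLin.isCoactAlg_comodAlong ((CoordGrp.SLn.mkHom (n + 1) k).comp (CoordGrp.Mat.toGLn (n + 1) k))
      (CoordGrp.formsCoact k (n + 1) m) (CoordGrp.formsCoact_isCoactAlg k (n + 1) m)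
  haveI : Algebra.FiniteType k (CoordGrp.GLn (n + 1) k) :=
    haveI : Algebra.FiniteType k (CoordGrp.GLb (n + 1) k) :=
      inferInstanceAs (Algebra.FiniteType k (MvPolynomial (CoordGrp.GLPoly.Idx (n + 1)) k))
    Algebra.FiniteType.of_surjective (CoordGrp.GLn.mk (n + 1) k) Ideal.Quotient.mk_surjective
  haveI : Algebra.FiniteType k (CoordGrp.SLn (n + 1) k) :=
    Algebra.FiniteType.of_surjective (CoordGrp.SLn.mk (n + 1) k) Ideal.Quotient.mk_surjective
  rintro ⟨hclosed, hfin⟩
  -- the one-parameter subgroup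
  obtain ⟨W', hc⟩ := W.exists_isCompl
  let w := Module.finrank k W
  let c := Module.finrank k W'
  let b : Module.Basis (Fin w ⊕ Fin c) k (Fin (n + 1) → k) :=
    ((Module.finBasis k W).prod (Module.finBasis k W')).map (Submodule.prodEquivOfIsCompl W W' hc)
  have hwc : w + c = n + 1 := by
    have := Module.finrank_eq_card_basis b
    rw [Module.finrank_pi, Fintype.card_fin, Fintype.card_sum, Fintype.card_fin, Fintype.card_fin] at this
    exact this.symm
  have hw0 : 0 < w := Nat.pos_of_ne_zero fun h => hW (Submodule.finrank_eq_zero.1 h)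
  have hc0 : 0 < c := by
    refine Nat.pos_of_ne_zero fun h => hW' ?_
    have := hc.sup_eq_top
    rwa [Submodule.finrank_eq_zero.1 h, sup_bot_eq] at this
  have hpW : ∀ v ∈ W, ∀ i, b.repr v (Sum.inr i) = 0 := by
    intro v hv i
    simp [b, Submodule.prodEquivOfIsCompl_symm_apply_left W W' hc ⟨v, hv⟩]
    change (Module.finBasis k W').repr 0 i = 0
    simp
  let r : Fin w ⊕ Fin c → ℤ := Sum.elim (fun _ => (c : ℤ)) (fun _ => -(w : ℤ))
  let Λ : k → ((Fin (n + 1) → k) →ₗ[k] (Fin (n + 1) → k)) := fun t => b.constr k fun i => t ^ r i • b i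
  let M : k → Matrix (Fin (n + 1)) (Fin (n + 1)) k := fun t => (LinearMap.toMatrix' (Λ t)).transpose
  have hMv : ∀ t v, (M t).transpose.mulVec v = Λ t v := fun t v => by
    simp only [M, Matrix.transpose_transpose, LinearMap.toMatrix'_mulVec]
  have hdet : ∀ t, t ≠ 0 → (M t).det = 1 := by
    intro t ht
    simp only [M, Matrix.det_transpose, LinearMap.det_toMatrix']
    rw [← LinearMap.det_toMatrix b]
    have : LinearMap.toMatrix b b (Λ t) = Matrix.diagonal fun i => t ^ r i := by
      ext i j
      rw [LinearMap.toMatrix_apply, Module.Basis.constr_basis, map_smul, b.repr_self, Matrix.diagonal_apply]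
      rcases eq_or_ne i j with h | h
      · subst h; simp
      · simp [h, Finsupp.single_eq_of_ne h]
    rw [this, Matrix.det_diagonal, Fintype.prod_sum_type]
    simp only [r, Sum.elim_inl, Sum.elim_inr, Finset.prod_const, Finset.card_univ, Fintype.card_fin,
      ← zpow_natCast, ← zpow_mul, ← zpow_add₀ ht]
    rw [show (c : ℤ) * (w : ℤ) + -(w : ℤ) * (c : ℤ) = 0 from by ring, zpow_zero]
  have hMmul : ∀ s t, s ≠ 0 → t ≠ 0 → M t * M s = M (t * s) := by
    intro s t _ _
    simp only [M, ← Matrix.transpose_mul, ← LinearMap.toMatrix'_comp]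
    congr 2
    refine b.ext fun i => ?_
    simp [Λ, Module.Basis.constr_basis, mul_zpow, smul_smul, mul_comm]
  -- the degenerate family
  let F := CoordGrp.formPoly a
  let q := Nat.card {i : Fin m // p i ∈ W}
  obtain ⟨e, he⟩ : ∃ e : ℕ, m * w + e = q * (n + 1) := Nat.exists_eq_add_of_le hq |>.imp fun _ h => h.symm
  let E : Fin m → MvPolynomial (Fin (n + 1)) (Polynomial k) := fun i =>
    if p i ∈ W then ∑ j, C (Polynomial.C (p i j)) * X j
    else ∑ j, C (∑ s, Polynomial.C (b.repr (p i) s * b s j) * Polynomial.X ^ (Sum.elim (fun _ => n + 1) (fun _ => 0) s)) * X j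
  let Fb : MvPolynomial (Fin (n + 1)) (Polynomial k) := C (Polynomial.X ^ e) * ∏ i, E i
  have hFb : ∀ t, t ≠ 0 → MvPolynomial.map (Polynomial.evalRingHom t) Fb = sub (M t) F := by
    intro t ht
    have hE : ∀ i, sub (M t) (∑ j, C (p i j) * X j) =
        C (t ^ (if p i ∈ W then (c : ℤ) else -(w : ℤ))) * MvPolynomial.map (Polynomial.evalRingHom t) (E i) := by
      intro i
      rw [sub_lin]
      have hΛ : Λ t (p i) = ∑ s, (b.repr (p i) s * t ^ r s) • b s := by
        simp [Λ, Module.Basis.constr_apply_fintype, smul_smul]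
      by_cases hi : p i ∈ W
      · have h1 : Λ t (p i) = t ^ (c : ℤ) • p i := by
          conv_rhs => rw [← b.sum_repr (p i), Finset.smul_sum]
          rw [hΛ]
          refine Finset.sum_congr rfl fun s _ => ?_
          rcases s with s | s
          · simp [r, smul_smul, mul_comm]
          · simp [hpW _ hi s]
        simp only [E, if_pos hi, map_sum, map_mul, map_X, MvPolynomial.map_C, Finset.mul_sum, hMv, h1,
          Pi.smul_apply, smul_eq_mul, Polynomial.coe_evalRingHom, Polynomial.eval_C, mul_assoc]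
      · simp only [E, if_neg hi, map_sum, map_mul, map_X, MvPolynomial.map_C, Finset.mul_sum, hMv, hΛ,
          Polynomial.coe_evalRingHom, Finset.sum_apply, Pi.smul_apply, smul_eq_mul, Polynomial.eval_finsetSum,
          Polynomial.eval_mul, Polynomial.eval_C, Polynomial.eval_pow, Polynomial.eval_X, Finset.sum_mul]
        refine Finset.sum_congr rfl fun j _ => Finset.sum_congr rfl fun s _ => ?_
        rcases s with s | s
        · have : t ^ (c : ℤ) = t ^ (-(w : ℤ)) * t ^ (n + 1) := by
            rw [← zpow_natCast t (n + 1), ← zpow_add₀ ht]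
            congr 1
            push_cast
            omega
          simp only [r, Sum.elim_inl, this, map_mul, map_pow]
          ring
        · simp only [r, Sum.elim_inr, map_mul, pow_zero, mul_one, map_one]
          ring
    have hexp : ∏ i, (t ^ (if p i ∈ W then (c : ℤ) else -(w : ℤ))) = t ^ e := by
      simp only [apply_ite (fun z : ℤ => t ^ z)]
      rw [Finset.prod_ite, Finset.prod_const, Finset.prod_const, ← zpow_natCast, ← zpow_natCast, ← zpow_natCast,
        ← zpow_mul, ← zpow_mul, ← zpow_add₀ ht]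
      congr 1
      have h1 : (Finset.univ.filter fun i => p i ∈ W).card = q := by
        simp only [q, Nat.card_eq_fintype_card, Fintype.card_subtype]
      have h2 := Finset.card_filter_add_card_filter_not (s := (Finset.univ : Finset (Fin m))) (fun i => p i ∈ W)
      rw [Finset.card_univ, Fintype.card_fin, h1] at h2
      rw [h1]
      have h3 : ((m : ℤ)) = q + ((Finset.univ.filter fun i => ¬ p i ∈ W).card : ℤ) := by exact_mod_cast h2.symm
      have h4 : (m : ℤ) * w + e = q * ((w : ℤ) + c) := by exact_mod_cast (hwc.symm ▸ he)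
      linear_combination (w : ℤ) * h3 - h4
    simp only [F, ha, map_prod, hE, Finset.prod_mul_distrib, ← map_prod (C : k →+* MvPolynomial (Fin (n + 1)) k),
      hexp, Fb, map_mul, MvPolynomial.map_C, map_pow, Polynomial.coe_evalRingHom, Polynomial.eval_X]
  let bp : CoordGrp.FormIdx (n + 1) m → Polynomial k := fun e =>
    Polynomial.C ((e.1.multinomial : k))⁻¹ * Fb.coeff e.1
  let y0 : CoordGrp.FormIdx (n + 1) m → k := fun e => (bp e).eval 0
  have hbp : ∀ t, t ≠ 0 → (fun e => (bp e).eval t) = act (M t) a := by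
    intro t ht
    funext e
    have h1 : (formB (act (M t) a)).coeff e.1 = (sub (M t) F).coeff e.1 := by
      rw [formB_act, Algebra.algebraMap_self, MvPolynomial.map_id]
    rw [coeff_formB, ← hFb t ht, coeff_map] at h1
    simp only [bp, Polynomial.eval_mul, Polynomial.eval_C]
    rw [← Polynomial.coe_evalRingHom, ← h1, ← mul_assoc, inv_mul_cancel₀ (multinomial_ne_zero hm e), one_mul]
  -- the limit lies in the orbit closure
  have hinf : Set.Infinite {t : k | t ≠ 0} := (Set.finite_singleton (0 : k)).infinite_compl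
  have hclo : GLin.InOrbitClosure k (CoordGrp.SLn (n + 1) k) (GLin.vecPt k _ a) (GLin.vecPt k _ y0) := by
    intro f hf
    have hz : (MvPolynomial.aeval bp f : Polynomial k) = 0 := by
      refine Polynomial.eq_zero_of_infinite_isRoot _ (hinf.mono fun t ht => ?_)
      let g := slPt (k := k) (M t) (hdet t ht)
      have h1 : g.comp (GLin.orbitHom k (CoordGrp.SLn (n + 1) k) (GLin.vecPt k _ a)) =
          (Polynomial.aeval t).comp (MvPolynomial.aeval bp) := by
        refine MvPolynomial.algHom_ext fun e => ?_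
        rw [AlgHom.comp_apply, AlgHom.comp_apply, apply_orbitHom_X, aeval_X, Polynomial.coe_aeval_eq_eval]
        rw [show ptMat g = M t from Matrix.ext fun i j => slPt_X _ _ i j]
        exact (congrFun (hbp t ht) e).symm
      have h2 := DFunLike.congr_fun h1 f
      rw [AlgHom.comp_apply, RingHom.mem_ker.1 hf, map_zero] at h2
      show Polynomial.eval t _ = 0
      rw [← Polynomial.coe_aeval_eq_eval]
      exact h2.symm
    rw [RingHom.mem_ker]
    have h3 : GLin.vecPt k _ y0 = (Polynomial.aeval (0 : k)).comp (MvPolynomial.aeval bp) :=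
      MvPolynomial.algHom_ext fun e => by simp [y0, Polynomial.coe_aeval_eq_eval]
    rw [h3, AlgHom.comp_apply, hz, map_zero]
  obtain ⟨g, hg⟩ := exists_actPt_eq hclosed hclo
  let G := ptMat g
  have hG : sub G F = formB y0 := by
    have h1 : act G a = y0 := by
      funext e
      rw [← apply_orbitHom_X, ← AlgHom.comp_apply]
      change GLin.actPt k g _ (X e) = _
      rw [hg, GLin.vecPt, aeval_X]
    rw [← h1, formB_act, Algebra.algebraMap_self, MvPolynomial.map_id]
  -- the limit is fixed by the subgroup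
  have hMy : ∀ s, s ≠ 0 → sub (M s) (formB y0) = formB y0 := by
    intro s hs
    have h0 : formB y0 = MvPolynomial.map (Polynomial.evalRingHom 0) (formB bp) := by
      simp [formB, map_sum, map_monomial, y0, Polynomial.coe_evalRingHom]
    have hev : ∀ t, t ≠ 0 → MvPolynomial.map (Polynomial.evalRingHom t) (formB bp) = sub (M t) F := by
      intro t ht
      have : MvPolynomial.map (Polynomial.evalRingHom t) (formB bp) = formB (act (M t) a) := by
        rw [← hbp t ht]
        simp [formB, map_sum, map_monomial, Polynomial.coe_evalRingHom]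
      rw [this, formB_act, Algebra.algebraMap_self, MvPolynomial.map_id]
    have key : sub ((M s).map Polynomial.C) (formB bp) =
        MvPolynomial.map (Polynomial.compRingHom (Polynomial.C s * Polynomial.X)) (formB bp) := by
      refine MvPolynomial.ext _ _ fun d => Polynomial.eq_of_infinite_eval_eq _ _ (hinf.mono fun t ht => ?_)
      have hM : ((M s).map Polynomial.C).map (Polynomial.evalRingHom t) = M s := by
        ext i j; simp
      have h1 := congrArg (MvPolynomial.coeff d) (map_sub_comm (Polynomial.evalRingHom t)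
        ((M s).map Polynomial.C) (formB bp))
      rw [coeff_map, hM, hev t ht, sub_sub, hMmul s t hs ht, ← hev (t * s) (mul_ne_zero ht hs), coeff_map] at h1
      show Polynomial.eval t _ = Polynomial.eval t _
      rw [coeff_map]
      simp only [Polynomial.coe_evalRingHom] at h1
      rw [h1, Polynomial.coe_compRingHom_apply, Polynomial.eval_comp]
      rw [Polynomial.eval_mul, Polynomial.eval_C, Polynomial.eval_X, mul_comm]
    have h2 := congrArg (MvPolynomial.map (Polynomial.evalRingHom 0)) key
    rw [map_sub_comm, MvPolynomial.map_map, ← h0] at h2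
    have hM0 : ((M s).map Polynomial.C).map (Polynomial.evalRingHom 0) = M s := by ext i j; simp
    have hc0' : (Polynomial.evalRingHom 0).comp (Polynomial.compRingHom (Polynomial.C s * Polynomial.X)) =
        Polynomial.evalRingHom 0 := by
      refine Polynomial.ringHom_ext (fun z => ?_) ?_
      · simp
      · simp
    rw [hM0, hc0', ← h0] at h2
    exact h2
  -- infinitely many points fix the vector
  have hGd : G.det = 1 := det_ptMat g
  have hGi : G * G.adjugate = 1 := by rw [Matrix.mul_adjugate, hGd, one_smul]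
  have hGj : G.adjugate * G = 1 := by rw [Matrix.adjugate_mul, hGd, one_smul]
  have hfix : ∀ s, s ≠ 0 → sub (G * M s * G.adjugate) F = F := by
    intro s hs
    rw [← sub_sub, ← sub_sub, hG, hMy s hs, ← hG, sub_sub, hGi, sub_one]
  have hdet' : ∀ s, s ≠ 0 → (G * M s * G.adjugate).det = 1 := by
    intro s hs
    rw [Matrix.det_mul, Matrix.det_mul, hdet s hs, Matrix.det_adjugate, hGd, one_pow, one_mul, one_mul]
  have hroot : ∀ u : {u : k // u ≠ 0}, ∃ s : k, s ≠ 0 ∧ s ^ c = u.1 := by
    intro u
    obtain ⟨s, hs⟩ := IsAlgClosed.exists_pow_nat_eq u.1 hc0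
    exact ⟨s, fun h => u.2 (by rw [← hs, h, zero_pow hc0.ne']), hs⟩
  choose s hs0 hsc using hroot
  haveI : Infinite {u : k // u ≠ 0} := hinf.to_subtype
  refine (finite_fixing hfin).not_infinite (Set.Infinite.mono ?_
    (Set.infinite_range_of_injective (f := fun u => slPt (k := k) (G * M (s u) * G.adjugate) (hdet' _ (hs0 u))) ?_))
  · rintro _ ⟨u, rfl⟩
    refine MvPolynomial.algHom_ext fun e => ?_
    rw [GLin.actPt, AlgHom.comp_apply, apply_orbitHom_X, GLin.vecPt, aeval_X,
      show ptMat (slPt (k := k) (G * M (s u) * G.adjugate) (hdet' _ (hs0 u))) = G * M (s u) * G.adjugate from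
        Matrix.ext fun i j => slPt_X _ _ i j]
    refine congrFun (formB_injective hm ?_) e
    rw [formB_act, map_formPoly]
    have h1 : (formB fun l => algebraMap k k (a l)) = F := by
      rw [← map_formPoly, Algebra.algebraMap_self, MvPolynomial.map_id]
    rw [h1, hfix _ (hs0 u)]
    rfl
  · intro u u' huu
    have h1 : G * M (s u) * G.adjugate = G * M (s u') * G.adjugate := by
      refine Matrix.ext fun i j => ?_
      have := DFunLike.congr_fun huu (CoordGrp.SLn.X i j)
      rwa [slPt_X, slPt_X] at this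
    have h2 : M (s u) = M (s u') := by
      have := congrArg (fun Z => G.adjugate * Z * G) h1
      simpa [mul_assoc, hGj, ← mul_assoc G.adjugate G] using this
    have h3 := congrArg (fun Z => Z.transpose.mulVec (b (Sum.inl ⟨0, hw0⟩))) h2
    simp only [hMv, Λ, Module.Basis.constr_basis, r, Sum.elim_inl, zpow_natCast, hsc] at h3
    exact Subtype.ext (smul_left_injective k (b.ne_zero _) h3)

end Main

end Groth.L14.PointSet
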