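import Mathlib.Analysis.Calculus.ParametricIntervalIntegral
import Mathlib.Analysis.Calculus.ContDiff.Deriv
import Mathlib.MeasureTheory.Integral.IntervalIntegral.FundThmCalculus
import Mathlib.Analysis.Calculus.IteratedDeriv.Defs

namespace Groth.L14.Hadamard

open MeasureTheory Filter Topology
open scoped ContDiff

noncomputable def g (f : ℝ → ℝ) (m : ℕ) (x : ℝ) : ℝ := ∫ t in (0:ℝ)..1, t ^ m * iteratedDeriv (m + 1) f (t * x)

theorem hasDerivAt_g (f : ℝ → ℝ) (hf : ContDiff ℝ ∞ f) (m : ℕ) (x : ℝ) :
    HasDerivAt (g f m) (g f (m + 1) x) x := by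
  have hc : ∀ k : ℕ, Continuous (iteratedDeriv k f) := fun k =>
    hf.continuous_iteratedDeriv k (by exact_mod_cast le_top)
  obtain ⟨K, hK⟩ : ∃ K, ∀ p ∈ Set.Icc (0:ℝ) 1 ×ˢ Set.Icc (x - 1) (x + 1),
      ‖p.1 ^ (m + 1) * iteratedDeriv (m + 1 + 1) f (p.1 * p.2)‖ ≤ K := by
    refine (isCompact_Icc.prod isCompact_Icc).exists_bound_of_continuousOn ?_
    exact ((continuous_fst.pow _).mul ((hc _).comp (continuous_fst.mul continuous_snd))).continuousOn
  refine (intervalIntegral.hasDerivAt_integral_of_dominated_loc_of_deriv_le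
    (F := fun y t => t ^ m * iteratedDeriv (m + 1) f (t * y))
    (F' := fun y t => t ^ (m + 1) * iteratedDeriv (m + 1 + 1) f (t * y))
    (bound := fun _ => K) (s := Set.Icc (x - 1) (x + 1))
    (Icc_mem_nhds (by linarith) (by linarith)) ?_ ?_ ?_ ?_ intervalIntegrable_const ?_).2
  · exact Eventually.of_forall fun y =>
      (((continuous_id.pow _).mul ((hc _).comp (continuous_id.mul continuous_const)))).aestronglyMeasurable
  · exact (((continuous_id.pow _).mul ((hc _).comp (continuous_id.mul continuous_const)))).intervalIntegrable _ _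
  · exact (((continuous_id.pow _).mul ((hc _).comp (continuous_id.mul continuous_const)))).aestronglyMeasurable
  · refine Eventually.of_forall fun t ht y hy => hK (t, y) ⟨?_, hy⟩
    rw [Set.uIoc_of_le zero_le_one] at ht
    exact Set.Ioc_subset_Icc_self ht
  · refine Eventually.of_forall fun t _ y _ => ?_
    have hd : HasDerivAt (iteratedDeriv (m + 1) f) (iteratedDeriv (m + 1 + 1) f (t * y)) (t * y) := by
      rw [iteratedDeriv_succ (n := m + 1)]
      exact ((hf.differentiable_iteratedDeriv (m + 1) (by exact_mod_cast ENat.natCast_lt_top _)) _).hasDerivAt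
    have := (hd.comp y ((hasDerivAt_id y).const_mul t)).const_mul (t ^ m)
    simp only [Function.comp_def] at this
    refine this.congr_deriv ?_
    ring

theorem main (f : ℝ → ℝ) (hf : ContDiff ℝ ∞ f) (h0 : f 0 = 0) :
    ∃ g : ℝ → ℝ, ContDiff ℝ ∞ g ∧ ∀ x : ℝ, f x = x * g x := by
  refine ⟨g f 0, ?_, fun x => ?_⟩
  · rw [contDiff_infty]
    intro n
    suffices ∀ m, ContDiff ℝ n (g f m) from this 0
    induction n with
    | zero =>
      intro m
      rw [Nat.cast_zero, contDiff_zero]
      exact continuous_iff_continuousAt.mpr fun x => (hasDerivAt_g f hf m x).continuousAt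
    | succ n ih =>
      intro m
      rw [Nat.cast_succ, contDiff_succ_iff_deriv]
      refine ⟨fun x => (hasDerivAt_g f hf m x).differentiableAt, fun h => absurd h (WithTop.natCast_ne_top n), ?_⟩
      rw [show deriv (g f m) = g f (m + 1) from funext fun x => (hasDerivAt_g f hf m x).deriv]
      exact ih (m + 1)
  · have h := intervalIntegral.integral_eq_sub_of_hasDerivAt (a := (0:ℝ)) (b := 1) (f := fun t => f (t * x))
      (f' := fun t => x * iteratedDeriv 1 f (t * x)) ?_ ?_
    · simp only [one_mul, zero_mul, h0, sub_zero, intervalIntegral.integral_const_mul] at h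
      simpa [g] using h.symm
    · intro t _
      have hd : HasDerivAt f (iteratedDeriv 1 f (t * x)) (t * x) := by
        rw [iteratedDeriv_one]
        exact ((hf.differentiable (by simp)) _).hasDerivAt
      have := hd.comp t ((hasDerivAt_id t).mul_const x)
      simpa [Function.comp_def, mul_comm] using this
    · exact (continuous_const.mul ((hf.continuous_iteratedDeriv 1 (by exact_mod_cast le_top)).comp
        (continuous_id.mul continuous_const))).intervalIntegrable _ _

end Groth.L14.Hadamard
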