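import Groth.Agent.L06.FormSmoothCrit
import Groth.Agent.L06.FormSmooth
import Groth.Agent.L12.PSRing
import Groth.Agent.L01.PowSerReg
import Groth.Prelude.Def_EGA41
import Mathlib.RingTheory.Smooth.AdicCompletion

/-! # Residue fields of formally smooth local algebras over a field and the module of imperfection -/

set_option autoImplicit false
set_option maxSynthPendingDepth 3
set_option linter.style.haveILetI false

universe u

namespace Groth.L14.ImperfLift

open IsLocalRing Groth.L06.FormSmooth
open scoped TensorProduct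

variable {k K A : Type u} [Field k] [Field K] [Algebra k K] [CommRing A] [IsLocalRing A] [Algebra k A]

theorem algebraMap_residue (t : k) :
    algebraMap k (ResidueField A) t = residue A (algebraMap k A t) := rfl

theorem mapBaseChange_diffMap (z : ResidueField A ⊗[k] Ω[k⁄ℤ]) :
    KaehlerDifferential.mapBaseChange ℤ A (ResidueField A) (diffMap k A z) =
      KaehlerDifferential.mapBaseChange ℤ k (ResidueField A) z := by
  induction z using TensorProduct.induction_on with
  | zero => simp
  | add a b ha hb => simp only [map_add, ha, hb]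
  | tmul c w =>
    have hw : w ∈ Submodule.span k (Set.range (KaehlerDifferential.D ℤ k)) :=
      KaehlerDifferential.span_range_derivation ℤ k ▸ Submodule.mem_top
    induction hw using Submodule.span_induction generalizing c with
    | mem y hy =>
      obtain ⟨a, rfl⟩ := hy
      rw [diffMap_tmul, KaehlerDifferential.mapBaseChange_tmul, KaehlerDifferential.mapBaseChange_tmul,
        KaehlerDifferential.map_D, KaehlerDifferential.map_D]
      rfl
    | zero => simp
    | add a b _ _ ha hb => simp only [TensorProduct.tmul_add, map_add, ha, hb]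
    | smul a y _ hy => rw [← TensorProduct.smul_tmul, hy]

/-- The comparison of the residue field with the given field, on differentials of `k`. -/
noncomputable def cmp (e : ResidueField A ≃ₐ[k] K) : ResidueField A ⊗[k] Ω[k⁄ℤ] ≃ₗ[k] K ⊗[k] Ω[k⁄ℤ] :=
  TensorProduct.congr e.toLinearEquiv (LinearEquiv.refl k _)

theorem cmp_smul (e : ResidueField A ≃ₐ[k] K) (c : ResidueField A) (z : ResidueField A ⊗[k] Ω[k⁄ℤ]) :
    cmp e (c • z) = e c • cmp e z := by
  induction z using TensorProduct.induction_on with
  | zero => simp
  | add a b ha hb => simp only [smul_add, map_add, ha, hb]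
  | tmul d w =>
    show cmp e ((c • d) ⊗ₜ w) = e c • (e d ⊗ₜ[k] w)
    rw [TensorProduct.smul_tmul']
    show e (c • d) ⊗ₜ[k] w = _
    rw [smul_eq_mul, map_mul]
    rfl

theorem mapBaseChange_rTensor_eq_zero {L M : Type u} [Field L] [Field M] [Algebra k L] [Algebra k M]
    (f : L →ₐ[k] M) (z : L ⊗[k] Ω[k⁄ℤ]) (hz : KaehlerDifferential.mapBaseChange ℤ k L z = 0) :
    KaehlerDifferential.mapBaseChange ℤ k M (f.toLinearMap.rTensor (Ω[k⁄ℤ]) z) = 0 := by
  letI : Algebra L M := f.toRingHom.toAlgebra
  haveI : IsScalarTower k L M := IsScalarTower.of_algebraMap_eq fun t => (f.commutes t).symm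
  haveI : IsScalarTower ℤ L M := IsScalarTower.of_algebraMap_eq' (Subsingleton.elim _ _)
  have h1 : ∀ z, KaehlerDifferential.mapBaseChange ℤ k M (f.toLinearMap.rTensor (Ω[k⁄ℤ]) z) =
      KaehlerDifferential.map ℤ ℤ L M (KaehlerDifferential.mapBaseChange ℤ k L z) := by
    intro z
    induction z using TensorProduct.induction_on with
    | zero => simp
    | add a b ha hb => simp only [map_add, ha, hb]
    | tmul d w =>
      have hw : w ∈ Submodule.span k (Set.range (KaehlerDifferential.D ℤ k)) :=
        KaehlerDifferential.span_range_derivation ℤ k ▸ Submodule.mem_top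
      induction hw using Submodule.span_induction generalizing d with
      | mem y hy =>
        obtain ⟨a, rfl⟩ := hy
        rw [LinearMap.rTensor_tmul, KaehlerDifferential.mapBaseChange_tmul, KaehlerDifferential.mapBaseChange_tmul,
          KaehlerDifferential.map_D, KaehlerDifferential.map_D, map_smul, KaehlerDifferential.map_D,
          ← IsScalarTower.algebraMap_apply, ← algebraMap_smul M d]
        rfl
      | zero => simp
      | add a b _ _ ha hb => simp only [TensorProduct.tmul_add, map_add, ha, hb]
      | smul a y _ hy => rw [← TensorProduct.smul_tmul, hy]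
  rw [h1, hz, map_zero]

theorem cmp_mem_iff (e : ResidueField A ≃ₐ[k] K) (z : ResidueField A ⊗[k] Ω[k⁄ℤ]) :
    cmp e z ∈ EGA41.imperfection ℤ k K ↔ KaehlerDifferential.mapBaseChange ℤ k (ResidueField A) z = 0 := by
  have hc : cmp e z = e.toAlgHom.toLinearMap.rTensor (Ω[k⁄ℤ]) z := rfl
  show KaehlerDifferential.mapBaseChange ℤ k K (cmp e z) = 0 ↔ _
  rw [hc]
  refine ⟨fun h => ?_, mapBaseChange_rTensor_eq_zero e.toAlgHom z⟩
  have h' := mapBaseChange_rTensor_eq_zero e.symm.toAlgHom _ h
  rwa [← LinearMap.rTensor_comp_apply, show e.symm.toAlgHom.toLinearMap ∘ₗ e.toAlgHom.toLinearMap = LinearMap.id from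
    LinearMap.ext e.symm_apply_apply, LinearMap.rTensor_id_apply] at h'

/-- The residue field of an adically formally smooth noetherian local algebra has finite imperfection. -/
theorem finite_imperfection [IsNoetherianRing A] (h : CAlgX.IsAdicFormallySmooth k A (maximalIdeal A))
    (e : ResidueField A ≃ₐ[k] K) : Module.Finite K (EGA41.imperfection ℤ k K) := by
  have hinj := injective_diffMap_of_adicSmooth h
  let N' : Submodule (ResidueField A) (ResidueField A ⊗[A] Ω[A⁄ℤ]) :=
    LinearMap.ker (KaehlerDifferential.mapBaseChange ℤ A (ResidueField A))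
  have hN' : (N'.restrictScalars A).FG := by
    rw [← KaehlerDifferential.range_kerCotangentToTensor ℤ A (ResidueField A) residue_surjective]
    haveI : Module.Finite A (RingHom.ker (algebraMap A (ResidueField A))) :=
      Module.Finite.iff_fg.2 (IsNoetherian.noetherian _)
    haveI : Module.Finite A (RingHom.ker (algebraMap A (ResidueField A))).Cotangent :=
      Module.Finite.of_surjective _ (Ideal.toCotangent_surjective _)
    rw [LinearMap.range_eq_map]
    exact Submodule.FG.map _ Module.Finite.fg_top
  haveI : Module.Finite A (N'.restrictScalars A) := Module.Finite.iff_fg.2 hN'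
  haveI : Module.Finite A N' := ‹Module.Finite A (N'.restrictScalars A)›
  haveI : Module.Finite (ResidueField A) N' := Module.Finite.of_restrictScalars_finite A _ _
  let N : Submodule (ResidueField A) (ResidueField A ⊗[k] Ω[k⁄ℤ]) :=
    LinearMap.ker (KaehlerDifferential.mapBaseChange ℤ k (ResidueField A))
  let d : N →ₗ[ResidueField A] N' := ((diffMap k A).comp N.subtype).codRestrict N' fun z => by
    show KaehlerDifferential.mapBaseChange ℤ A (ResidueField A) (diffMap k A z) = 0
    rw [mapBaseChange_diffMap]
    exact z.2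
  haveI : Module.Finite (ResidueField A) N := Module.Finite.of_injective d fun x y hxy =>
    Subtype.ext (hinj (congrArg Subtype.val hxy))
  classical
  obtain ⟨t, ht⟩ := (Module.Finite.iff_fg.1 ‹Module.Finite (ResidueField A) N›)
  refine Module.Finite.iff_fg.2 ⟨t.image (cmp e), le_antisymm (Submodule.span_le.2 ?_) fun y hy => ?_⟩
  · rintro y hy
    obtain ⟨z, hz, rfl⟩ := Finset.mem_image.1 hy
    exact (cmp_mem_iff e z).2 (show z ∈ N from ht ▸ Submodule.subset_span hz)
  · obtain ⟨z, rfl⟩ := (cmp e).surjective y
    have hz : z ∈ Submodule.span (ResidueField A) (t : Set (ResidueField A ⊗[k] Ω[k⁄ℤ])) := by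
      rw [ht]; exact (cmp_mem_iff e z).1 hy
    induction hz using Submodule.span_induction with
    | mem x hx => exact Submodule.subset_span (Finset.mem_image_of_mem _ hx)
    | zero => simp
    | add a b _ _ ha hb =>
      rw [map_add]
      refine add_mem (ha ?_) (hb ?_)
      · exact (cmp_mem_iff e a).2 (show a ∈ N from ht ▸ ‹a ∈ _›)
      · exact (cmp_mem_iff e b).2 (show b ∈ N from ht ▸ ‹b ∈ _›)
    | smul c x hx' hx =>
      rw [cmp_smul]
      exact Submodule.smul_mem _ _ (hx ((cmp_mem_iff e x).2 (show x ∈ N from ht ▸ hx')))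

/-- Derivations detecting the imperfection make the map on differentials injective. -/
theorem injective_diffMap {n : ℕ} (e : ResidueField A ≃ₐ[k] K) (E : Fin n → Derivation ℤ A (ResidueField A))
    (L : K ⊗[k] Ω[k⁄ℤ] →ₗ[K] (Fin n → K)) (hL : ∀ z ∈ EGA41.imperfection ℤ k K, L z = 0 → z = 0)
    (hE : ∀ j t, e (E j (algebraMap k A t)) = L ((1 : K) ⊗ₜ KaehlerDifferential.D ℤ k t) j) :
    Function.Injective (diffMap k A) := by
  refine (injective_iff_map_eq_zero _).2 fun z hz => ?_
  let g : Fin n → (ResidueField A ⊗[A] Ω[A⁄ℤ] →ₗ[ResidueField A] ResidueField A) := fun j =>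
    LinearMap.liftBaseChange (ResidueField A) (E j).liftKaehlerDifferential
  have key : ∀ (z : ResidueField A ⊗[k] Ω[k⁄ℤ]) (j : Fin n), e (g j (diffMap k A z)) = L (cmp e z) j := by
    intro z j
    induction z using TensorProduct.induction_on with
    | zero => simp
    | add a b ha hb => simp only [map_add, Pi.add_apply, ha, hb]
    | tmul c w =>
      have hw : w ∈ Submodule.span k (Set.range (KaehlerDifferential.D ℤ k)) :=
        KaehlerDifferential.span_range_derivation ℤ k ▸ Submodule.mem_top
      induction hw using Submodule.span_induction generalizing c with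
      | mem y hy =>
        obtain ⟨a, rfl⟩ := hy
        rw [diffMap_tmul]
        show e (LinearMap.liftBaseChange (ResidueField A) _ _) = L (e c ⊗ₜ[k] _) j
        rw [LinearMap.liftBaseChange_tmul, Derivation.liftKaehlerDifferential_comp_D, smul_eq_mul, map_mul, hE,
          ← smul_eq_mul, ← Pi.smul_apply, ← map_smul, TensorProduct.smul_tmul', smul_eq_mul, mul_one]
        rfl
      | zero => simp
      | add a b _ _ ha hb => simp only [TensorProduct.tmul_add, map_add, Pi.add_apply, ha, hb]
      | smul a y _ hy => rw [← TensorProduct.smul_tmul, hy]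
  have hmem : cmp e z ∈ EGA41.imperfection ℤ k K := by
    rw [cmp_mem_iff, ← mapBaseChange_diffMap, hz, map_zero]
  have h0 : cmp e z = 0 := hL _ hmem (funext fun j => by rw [← key, hz]; simp)
  exact (cmp e).injective (h0.trans (map_zero _).symm)

set_option linter.overlappingInstances false in
/-- Differential criterion for a regular local algebra. -/
theorem adicSmooth_of_injective [IsRegularLocalRing A] (hinj : Function.Injective (diffMap k A)) :
    CAlgX.IsAdicFormallySmooth k A (maximalIdeal A) := by
  haveI := formallySmooth_bot_field k (ResidueField A)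
  exact adicSmooth_of_injective_diffMap adicSmooth_of_regular hinj

/-- A derivation over the integers from an additive map satisfying the Leibniz rule. -/
def derOfAdd {R M : Type u} [CommRing R] [AddCommGroup M] [Module R M] (D : R →+ M)
    (h : ∀ a b, D (a * b) = a • D b + b • D a) : Derivation ℤ R M :=
  Derivation.mk' D.toIntLinearMap h

/-- Squares of the ideal of a complete ring. -/
theorem isAdicComplete_sq {R : Type u} [CommRing R] {I : Ideal R} [hI : IsAdicComplete I R] :
    IsAdicComplete (I ^ 2) R := by
  refine { haus' := fun x hx => hI.haus x fun m => ?_, prec' := fun f hf => ?_ }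
  · have := hx m
    rw [SModEq.sub_mem, smul_eq_mul, Ideal.mul_top, ← pow_mul] at this
    rw [SModEq.sub_mem, smul_eq_mul, Ideal.mul_top]
    exact Ideal.pow_le_pow_right (by omega) this
  · obtain ⟨L, hL⟩ := hI.prec' f (fun {m m'} hmm => by
      have := hf hmm
      rw [SModEq.sub_mem, smul_eq_mul, Ideal.mul_top, ← pow_mul] at this
      rw [SModEq.sub_mem, smul_eq_mul, Ideal.mul_top]
      exact Ideal.pow_le_pow_right (by omega) this)
    refine ⟨L, fun m => ?_⟩
    have h1 := hf (show m ≤ 2 * m by omega)
    have h2 := hL (2 * m)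
    rw [SModEq.sub_mem, smul_eq_mul, Ideal.mul_top, ← pow_mul] at h1 ⊢
    rw [SModEq.sub_mem, smul_eq_mul, Ideal.mul_top] at h2
    simpa using add_mem h1 h2

open MvPowerSeries in
theorem coeff_single_mul {n : ℕ} (j : Fin n) (a b : MvPowerSeries (Fin n) K) :
    coeff (Finsupp.single j 1) (a * b) =
      constantCoeff a * coeff (Finsupp.single j 1) b + constantCoeff b * coeff (Finsupp.single j 1) a := by
  classical
  rw [coeff_mul, Finsupp.antidiagonal_single, Finset.sum_map]
  rw [show Finset.antidiagonal 1 = {((0 : ℕ), (1 : ℕ)), (1, 0)} from rfl, Finset.sum_pair (by simp)]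
  simp only [Function.Embedding.coe_prodMap, Prod.map_apply, Function.Embedding.coeFn_mk, Finsupp.single_zero,
    coeff_zero_eq_constantCoeff]
  ring

theorem exists_lift (n : ℕ) (L : K ⊗[k] Ω[k⁄ℤ] →ₗ[K] (Fin n → K)) :
    ∃ φ : k →+* MvPowerSeries (Fin n) K, ∀ t, MvPowerSeries.constantCoeff (φ t) = algebraMap k K t ∧
      ∀ j, MvPowerSeries.coeff (Finsupp.single j 1) (φ t) = L ((1 : K) ⊗ₜ KaehlerDifferential.D ℤ k t) j := by
  classical
  let B := MvPowerSeries (Fin n) K
  haveI : IsAdicComplete (maximalIdeal K) K := by rw [IsLocalRing.maximalIdeal_eq_bot]; infer_instance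
  haveI : IsAdicComplete (maximalIdeal B) B := Groth.L12.isAdicComplete_mvPowerSeries
  haveI := isAdicComplete_sq (I := maximalIdeal B)
  haveI := formallySmooth_bot_field k k
  let dlt : Fin n → k → K := fun j t => L ((1 : K) ⊗ₜ KaehlerDifferential.D ℤ k t) j
  have hadd : ∀ j s t, dlt j (s + t) = dlt j s + dlt j t := fun j s t => by
    simp only [dlt, map_add, TensorProduct.tmul_add, Pi.add_apply]
  have hmul : ∀ j s t, dlt j (s * t) = algebraMap k K s * dlt j t + algebraMap k K t * dlt j s := fun j s t => by
    simp only [dlt, Derivation.leibniz, TensorProduct.tmul_add, TensorProduct.tmul_smul, map_add, Pi.add_apply]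
    rw [← algebraMap_smul K s, ← algebraMap_smul K t, map_smul, map_smul, Pi.smul_apply, Pi.smul_apply,
      smul_eq_mul, smul_eq_mul]
  have hone : ∀ j, dlt j 1 = 0 := fun j => by simp [dlt]
  have hbot : ∀ j (c : (⊥ : Subfield k)), dlt j c = 0 := fun j c => by
    have h := Groth.L06.FormSmooth.der_bot_eq_zero (k := k) (KaehlerDifferential.D ℤ k) c
    rw [Algebra.algebraMap_self, RingHom.id_apply] at h
    simp [dlt, h]
  let lin : k → B := fun t => MvPowerSeries.C (algebraMap k K t) + ∑ j, MvPowerSeries.C (dlt j t) * MvPowerSeries.X j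
  have hsq : ∀ (u v : Fin n → K), Ideal.Quotient.mk (maximalIdeal B ^ 2)
      ((∑ j, MvPowerSeries.C (u j) * MvPowerSeries.X j) * ∑ j, MvPowerSeries.C (v j) * MvPowerSeries.X j) = 0 :=
    fun u v => by
    rw [Ideal.Quotient.eq_zero_iff_mem, pow_two, Groth.L01.PowSerReg.maximalIdeal_eq K n]
    refine Ideal.mul_mem_mul ?_ ?_ <;>
      exact Submodule.sum_mem _ fun j _ => Ideal.mul_mem_left _ _ (Ideal.subset_span ⟨j, rfl⟩)
  let f : k →+* B ⧸ maximalIdeal B ^ 2 :=
    { toFun := fun t => Ideal.Quotient.mk _ (lin t)
      map_one' := by simp [lin, hone]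
      map_zero' := by
        simp only [lin, map_zero, zero_add]
        refine (congrArg _ (Finset.sum_eq_zero fun j _ => ?_)).trans (map_zero _)
        simp [dlt]
      map_add' := fun s t => by
        rw [← map_add]
        refine congrArg _ ?_
        simp only [lin, map_add, hadd, add_mul, Finset.sum_add_distrib]
        ring
      map_mul' := fun s t => by
        have h := hsq (fun j => dlt j s) (fun j => dlt j t)
        rw [← map_mul]
        have e1 : lin s * lin t = lin (s * t) +
            (∑ j, MvPowerSeries.C (dlt j s) * MvPowerSeries.X j) * ∑ j, MvPowerSeries.C (dlt j t) * MvPowerSeries.X j := by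
          simp only [lin, map_mul, map_add, hmul, add_mul, Finset.sum_add_distrib, mul_assoc, ← Finset.mul_sum]
          ring
        rw [e1, map_add _ (lin (s * t)), h, add_zero] }
  let f₀ : k →ₐ[(⊥ : Subfield k)] B ⧸ maximalIdeal B ^ 2 :=
    { f with
      commutes' := fun c => by
        show Ideal.Quotient.mk _ (lin c) = algebraMap (⊥ : Subfield k) (B ⧸ maximalIdeal B ^ 2) c
        rw [IsScalarTower.algebraMap_apply (⊥ : Subfield k) B (B ⧸ maximalIdeal B ^ 2)]
        refine congrArg (Ideal.Quotient.mk _) ?_
        show MvPowerSeries.C (algebraMap k K c) + _ = _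
        rw [Finset.sum_eq_zero fun j _ => by rw [hbot, map_zero, zero_mul], add_zero,
          MvPowerSeries.algebraMap_apply]
        rfl }
  obtain ⟨g, hg⟩ := Algebra.FormallySmooth.exists_mkₐ_comp_eq_of_isAdicComplete f₀
  refine ⟨g.toRingHom, fun t => ?_⟩
  have h : g t - lin t ∈ maximalIdeal B ^ 2 := Ideal.Quotient.eq.1 (DFunLike.congr_fun hg t)
  rw [Groth.L01.PowSerReg.maximalIdeal_eq K n] at h
  have ho := Groth.L01.PowSerReg.order_of_mem_pow 2 _ h
  have h0 : MvPowerSeries.coeff (0 : Fin n →₀ ℕ) (g t - lin t) = 0 :=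
    MvPowerSeries.coeff_of_lt_order (lt_of_lt_of_le (by simp) ho)
  have h1 : ∀ j, MvPowerSeries.coeff (Finsupp.single j 1) (g t - lin t) = 0 := fun j =>
    MvPowerSeries.coeff_of_lt_order (lt_of_lt_of_le (by simp [Finsupp.degree_single]) ho)
  refine ⟨?_, fun j => ?_⟩
  · rw [map_sub, sub_eq_zero, MvPowerSeries.coeff_zero_eq_constantCoeff] at h0
    show MvPowerSeries.constantCoeff (g t) = _
    rw [h0]
    simp [lin]
  · have := h1 j
    rw [map_sub, sub_eq_zero] at this
    show MvPowerSeries.coeff _ (g t) = _
    rw [this]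
    simp [lin, MvPowerSeries.coeff_C, MvPowerSeries.coeff_C_mul, MvPowerSeries.coeff_X, Finsupp.single_left_inj, dlt]

/-- A complete formally smooth algebra with given residue field, in every large enough dimension. -/
theorem exists_complete_adicSmooth [Module.Finite K (EGA41.imperfection ℤ k K)] (n : ℕ)
    (hn : Module.finrank K (EGA41.imperfection ℤ k K) ≤ n) :
    ∃ (R : Type u) (_ : CommRing R) (_ : IsLocalRing R) (_ : IsNoetherianRing R) (_ : Algebra k R),
      IsAdicComplete (maximalIdeal R) R ∧ CAlgX.IsAdicFormallySmooth k R (maximalIdeal R) ∧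
      Nonempty (ResidueField R ≃ₐ[k] K) ∧ ringKrullDim R = n := by
  classical
  let B := MvPowerSeries (Fin n) K
  let U := EGA41.imperfection ℤ k K
  let bU := Module.finBasis K U
  let ι : U →ₗ[K] (Fin n → K) :=
    (Finsupp.linearEquivFunOnFinite K K (Fin n)).toLinearMap ∘ₗ
      (Finsupp.lmapDomain K K fun i : Fin (Module.finrank K U) => i.castLE hn) ∘ₗ bU.repr.toLinearMap
  have hι : Function.Injective ι := by
    refine (Finsupp.linearEquivFunOnFinite K K (Fin n)).injective.comp
      ((Finsupp.mapDomain_injective (Fin.castLE_injective hn)).comp bU.repr.injective)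
  obtain ⟨L, hLι⟩ := LinearMap.exists_extend ι
  have hL : ∀ z ∈ U, L z = 0 → z = 0 := fun z hz h0 => by
    have h1 : ι ⟨z, hz⟩ = ι 0 := by rw [← hLι, map_zero]; exact h0
    exact congrArg Subtype.val (hι h1)
  obtain ⟨φ, hφ⟩ := exists_lift n L
  letI : Algebra k B := φ.toAlgebra
  have hcc : Function.Surjective (MvPowerSeries.constantCoeff : B →+* K) := fun c =>
    ⟨MvPowerSeries.C c, MvPowerSeries.constantCoeff_C c⟩
  let κ : B →ₐ[k] K := { (MvPowerSeries.constantCoeff : B →+* K) with commutes' := fun t => (hφ t).1 }
  have hker : RingHom.ker κ = maximalIdeal B := IsLocalRing.eq_maximalIdeal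
    (RingHom.ker_isMaximal_of_surjective _ hcc)
  let e : ResidueField B ≃ₐ[k] K :=
    ((Ideal.quotientKerAlgEquivOfSurjective (f := κ) hcc).symm.trans (Ideal.quotientEquivAlgOfEq k hker)).symm
  have he : ∀ a, e (residue B a) = MvPowerSeries.constantCoeff a := fun a => by
    rw [← e.apply_symm_apply (MvPowerSeries.constantCoeff a)]
    refine congrArg e ?_
    show _ = Ideal.quotientEquivAlgOfEq k hker ((Ideal.quotientKerAlgEquivOfSurjective (f := κ) hcc).symm (κ a))
    rw [show (Ideal.quotientKerAlgEquivOfSurjective (f := κ) hcc).symm (κ a) = Ideal.Quotient.mk _ a from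
      (Ideal.quotientKerAlgEquivOfSurjective (f := κ) hcc).injective (by rw [AlgEquiv.apply_symm_apply]; rfl)]
    rfl
  let E := fun j : Fin n => derOfAdd (R := B) (M := ResidueField B)
    (AddMonoidHom.mk' (fun a => e.symm (MvPowerSeries.coeff (Finsupp.single j 1) a))
      (fun a b => by rw [map_add, map_add])) (fun a b => e.injective (by
        simp only [AddMonoidHom.mk'_apply]
        rw [e.apply_symm_apply, coeff_single_mul, map_add, Algebra.smul_def, Algebra.smul_def, map_mul, map_mul,
          e.apply_symm_apply, e.apply_symm_apply, ResidueField.algebraMap_eq, he, he]))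
  haveI : IsRegularLocalRing B := Groth.L01.PowSerReg.isRegularLocalRing K n
  haveI : IsAdicComplete (maximalIdeal K) K := by rw [IsLocalRing.maximalIdeal_eq_bot]; infer_instance
  haveI : IsAdicComplete (maximalIdeal B) B := Groth.L12.isAdicComplete_mvPowerSeries
  refine ⟨B, inferInstance, inferInstance, inferInstance, inferInstance, inferInstance, ?_, ⟨e⟩,
    Groth.L01.PowSerReg.ringKrullDim_eq K n⟩
  refine adicSmooth_of_injective (injective_diffMap e E L hL fun j t => ?_)
  show e (e.symm _) = _
  rw [e.apply_symm_apply]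
  exact (hφ t).2 j

end Groth.L14.ImperfLift
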