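import Groth.Prelude.Def_GLin
import Groth.Agent.L08.LinRed
import Mathlib.RingTheory.Localization.NumDen
import Mathlib.FieldTheory.IntermediateField.Adjoin.Defs
import Mathlib.RingTheory.FiniteType
import Mathlib.RingTheory.Polynomial.Basic
import Mathlib.RingTheory.TensorProduct.Free
import Mathlib.LinearAlgebra.Dual.Lemmas
import Mathlib.Tactic.LinearCombination
import Mathlib.Tactic.FieldSimp

/-!
# Invariant fractions of a factorial domain with scalar units
-/

set_option autoImplicit false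
set_option linter.style.haveILetI false
set_option backward.isDefEq.respectTransparency false

universe u

open TensorProduct

noncomputable section

namespace Groth.L14.InvFrac

/-- Finitely many fractions generate the field of all fractions of a given set. -/
theorem exists_finset_adjoin {k B K : Type u} [Field k] [CommRing B] [IsDomain B] [Algebra k B]
    [Algebra.FiniteType k B] [Field K] [Algebra k K] [Algebra B K] [IsScalarTower k B K] [IsFractionRing B K]
    (P : Set (B × B)) (hP : ∀ p ∈ P, p.2 ≠ 0) :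
    ∃ s : Finset (B × B), (s : Set (B × B)) ⊆ P ∧ ∀ p ∈ P, algebraMap B K p.1 / algebraMap B K p.2 ∈
      IntermediateField.adjoin k ((fun p : B × B => algebraMap B K p.1 / algebraMap B K p.2) '' (s : Set (B × B))) := by
  classical
  haveI : IsNoetherianRing (K ⊗[k] B) := Algebra.FiniteType.isNoetherianRing K (K ⊗[k] B)
  let val : B × B → K := fun p => algebraMap B K p.1 / algebraMap B K p.2
  let g : B × B → K ⊗[k] B := fun p => val p ⊗ₜ[k] p.2 - 1 ⊗ₜ[k] p.1
  obtain ⟨s, hs, hspan⟩ : ∃ s : Finset (B × B), (s : Set (B × B)) ⊆ P ∧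
      Ideal.span (g '' P) ≤ Ideal.span (g '' (s : Set (B × B))) := by
    obtain ⟨t, ht, ht'⟩ := (Submodule.fg_span_iff_fg_span_finset_subset (R := K ⊗[k] B) (g '' P)).1
      (IsNoetherian.noetherian (Submodule.span (K ⊗[k] B) (g '' P)))
    choose f hf hf' using ht
    refine ⟨t.attach.image fun x => f x.2, fun p hp => ?_, ?_⟩
    · simp only [Finset.coe_image, Set.mem_image] at hp
      obtain ⟨x, -, rfl⟩ := hp
      exact hf x.2
    · refine ht'.le.trans (Submodule.span_mono fun x hx => ?_)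
      exact ⟨f hx, Finset.mem_coe.2 (Finset.mem_image.2 ⟨⟨x, hx⟩, Finset.mem_attach _ _, rfl⟩), hf' hx⟩
  refine ⟨s, hs, fun p hp => ?_⟩
  let L := IntermediateField.adjoin k (val '' (s : Set (B × B)))
  change val p ∈ L
  let θ : K ⊗[k] B →ₐ[k] K ⊗[L] K := Algebra.TensorProduct.lift
    (Algebra.TensorProduct.includeLeft (R := L) (S := k) (A := K) (B := K))
    (((Algebra.TensorProduct.includeRight : K →ₐ[L] K ⊗[L] K).restrictScalars k).comp (IsScalarTower.toAlgHom k B K))
    fun _ _ => Commute.all _ _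
  have hv : ∀ q : B × B, q ∈ P → val q * algebraMap B K q.2 = algebraMap B K q.1 := fun q hq =>
    div_mul_cancel₀ _ ((map_ne_zero_iff _ (IsFractionRing.injective B K)).2 (hP q hq))
  have hg : ∀ q ∈ P, θ (g q) = (val q ⊗ₜ[L] (1 : K) - (1 : K) ⊗ₜ[L] val q) * ((1 : K) ⊗ₜ[L] algebraMap B K q.2) := by
    intro q hq
    simp [θ, g, sub_mul, Algebra.TensorProduct.tmul_mul_tmul, hv q hq]
  have hker : θ (g p) = 0 := by
    have h : Ideal.span (g '' (s : Set (B × B))) ≤ RingHom.ker θ := by
      refine Ideal.span_le.2 ?_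
      rintro _ ⟨q, hq, rfl⟩
      rw [SetLike.mem_coe, RingHom.mem_ker, hg q (hs hq)]
      have hqL : val q ∈ L := IntermediateField.subset_adjoin _ _ ⟨q, hq, rfl⟩
      have e : val q = (⟨val q, hqL⟩ : L) • (1 : K) := by simp [Algebra.smul_def]
      rw [e, smul_tmul, sub_self, zero_mul]
    exact h (hspan (Ideal.subset_span ⟨p, hp, rfl⟩))
  rw [hg p hp] at hker
  have hu : IsUnit ((1 : K) ⊗ₜ[L] algebraMap B K p.2) :=
    (Ne.isUnit ((map_ne_zero_iff _ (IsFractionRing.injective B K)).2 (hP p hp))).map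
      (Algebra.TensorProduct.includeRight : K →ₐ[L] K ⊗[L] K)
  have h0 := sub_eq_zero.1 (hu.mul_left_eq_zero.1 hker)
  by_contra hpL
  have hind : LinearIndependent L ![(1 : K), val p] := by
    rw [LinearIndependent.pair_iff' one_ne_zero]
    intro c hc
    exact hpL (hc ▸ by simp [Algebra.smul_def])
  obtain ⟨f, hf⟩ := LinearMap.exists_extend
    ((Finsupp.linearCombination L (![1, 0] : Fin 2 → L)) ∘ₗ hind.repr)
  have hf1 : f 1 = 1 := by
    have := LinearMap.congr_fun hf ⟨(1 : K), Submodule.subset_span ⟨0, rfl⟩⟩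
    simp only [LinearMap.comp_apply, Submodule.coe_subtype] at this
    rw [this, hind.repr_eq_single 0 _ rfl]
    simp
  have hf2 : f (val p) = 0 := by
    have := LinearMap.congr_fun hf ⟨val p, Submodule.subset_span ⟨1, rfl⟩⟩
    simp only [LinearMap.comp_apply, Submodule.coe_subtype] at this
    rw [this, hind.repr_eq_single 1 _ rfl]
    simp
  have h1 := congrArg (fun z => TensorProduct.lid L K (f.rTensor K z)) h0
  simp [hf1, hf2] at h1
  exact hpL (h1 ▸ zero_mem L)

variable {k : Type u} [Field k] {A : Type u} [CommRing A] [HopfAlgebra k A] {B : Type u} [CommRing B] [Algebra k B]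
  [HopfRep.Comod k A B] [GLin.IsCoactAlg k A B]

/-- The action of a point as an algebra map. -/
def actHom (φ : A →ₐ[k] k) : B →ₐ[k] B :=
  (Algebra.TensorProduct.rid k k B).toAlgHom.comp
    ((Algebra.TensorProduct.map (AlgHom.id k B) φ).comp (GLin.coactAlgHom k A B))

theorem actHom_apply (φ : A →ₐ[k] k) (b : B) : actHom φ b = HopfRep.Comod.act k A B φ b := by
  simp only [actHom, AlgHom.comp_apply, GLin.coactAlgHom_apply, HopfRep.Comod.act, LinearMap.comp_apply]
  generalize HopfRep.Comod.coact (k := k) (A := A) b = z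
  induction z using TensorProduct.induction_on with
  | zero => simp
  | tmul x y => simp
  | add x y hx hy => simp only [map_add, hx, hy]

theorem act_inv (φ : A →ₐ[k] k) (b : B) :
    actHom φ (actHom (φ.comp (HopfAlgebra.antipodeAlgHom k A)) b) = b := by
  let ψ := φ.comp (HopfAlgebra.antipodeAlgHom k A)
  let Ψ : B ⊗[k] (A ⊗[k] A) →ₗ[k] B := (TensorProduct.rid k B).toLinearMap ∘ₗ
    LinearMap.lTensor B ((TensorProduct.lid k k).toLinearMap ∘ₗ TensorProduct.map φ.toLinearMap ψ.toLinearMap)
  have h1 := congrArg Ψ (LinearMap.congr_fun (HopfRep.Comod.coassoc (k := k) (A := A) (V := B)) b)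
  have hε : ∀ a : A, TensorProduct.lid k k (TensorProduct.map φ.toLinearMap ψ.toLinearMap
      (Coalgebra.comul (R := k) a)) = Coalgebra.counit (R := k) a := by
    intro a
    have := congrArg φ (LinearMap.congr_fun (HopfAlgebra.mul_antipode_lTensor_comul (R := k) (A := A)) a)
    simp only [LinearMap.comp_apply, Algebra.linearMap_apply, AlgHom.commutes, Algebra.algebraMap_self,
      RingHom.id_apply] at this
    refine Eq.trans ?_ this
    generalize Coalgebra.comul (R := k) a = z
    induction z using TensorProduct.induction_on with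
    | zero => simp
    | tmul x y => simp [ψ]
    | add x y hx hy => simp only [map_add, hx, hy]
  have h2 : Ψ ((Coalgebra.comul (R := k) (A := A)).lTensor B (HopfRep.Comod.coact (k := k) (A := A) b)) = b := by
    have hc := LinearMap.congr_fun (HopfRep.Comod.counit_comp (k := k) (A := A) (V := B)) b
    have e : ∀ z : B ⊗[k] A, Ψ ((Coalgebra.comul (R := k) (A := A)).lTensor B z) =
        TensorProduct.rid k B ((Coalgebra.counit (R := k) (A := A)).lTensor B z) := by
      intro z
      induction z using TensorProduct.induction_on with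
      | zero => simp
      | tmul x y => simp [Ψ, hε]
      | add x y hx hy => simp only [map_add, hx, hy]
    rw [e]
    simp only [LinearMap.comp_apply, LinearMap.flip_apply, TensorProduct.mk_apply] at hc
    rw [hc]
    simp
  have h3 : ∀ z : B ⊗[k] A, Ψ (TensorProduct.assoc k B A A
      ((HopfRep.Comod.coact (k := k) (A := A) (V := B)).rTensor A z)) =
        actHom φ (TensorProduct.rid k B (ψ.toLinearMap.lTensor B z)) := by
    intro z
    induction z using TensorProduct.induction_on with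
    | zero => simp
    | add x y hx hy => simp only [map_add, hx, hy]
    | tmul x y =>
      simp only [LinearMap.rTensor_tmul, LinearMap.lTensor_tmul, AlgHom.toLinearMap_apply, TensorProduct.rid_tmul,
        map_smul, actHom_apply, HopfRep.Comod.act, LinearMap.comp_apply, LinearEquiv.coe_coe]
      generalize HopfRep.Comod.coact (k := k) (A := A) x = w
      induction w using TensorProduct.induction_on with
      | zero => simp
      | tmul p q => simp [Ψ, smul_smul, mul_comm]
      | add p q hp hq => simp only [add_tmul, map_add, smul_add, hp, hq]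
  simp only [LinearMap.comp_apply, LinearEquiv.coe_coe] at h1
  rw [h2, h3] at h1
  refine Eq.trans ?_ h1
  congr 1

/-- Invariant fractions become fractions of invariants on the complement of a semi-invariant. -/
theorem exists_open [IsDomain B] [UniqueFactorizationMonoid B] [Algebra.FiniteType k B]
    (hunits : ∀ v : Bˣ, ∃ c : k, algebraMap k B c = v) :
    ∃ h : B, h ≠ 0 ∧ (∀ φ : A →ₐ[k] k, ∃ (N : ℕ) (v : B), HopfRep.Comod.act k A B φ h * v = h ^ N) ∧
      ∀ a b : B, b ≠ 0 → (∀ φ : A →ₐ[k] k, HopfRep.Comod.act k A B φ a * b = a * HopfRep.Comod.act k A B φ b) →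
        ∃ (c d : B) (r t : ℕ), d ≠ 0 ∧
          (∀ φ : A →ₐ[k] k, HopfRep.Comod.act k A B φ c * h ^ r = c * (HopfRep.Comod.act k A B φ h) ^ r) ∧
          (∀ φ : A →ₐ[k] k, HopfRep.Comod.act k A B φ d * h ^ t = d * (HopfRep.Comod.act k A B φ h) ^ t) ∧
          a * d * h ^ r = b * c * h ^ t := by
  classical
  simp only [← actHom_apply]
  let K := FractionRing B
  have hinjK : Function.Injective (algebraMap B K) := IsFractionRing.injective B K
  let P : Set (B × B) := {p | p.2 ≠ 0 ∧ IsRelPrime p.1 p.2 ∧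
    ∀ φ : A →ₐ[k] k, actHom φ p.1 * p.2 = p.1 * actHom φ p.2}
  -- reduced invariant fractions have semi-invariant terms
  have hsemi : ∀ p ∈ P, ∀ φ : A →ₐ[k] k, ∃ c : k, actHom φ p.1 = c • p.1 ∧ actHom φ p.2 = c • p.2 := by
    rintro ⟨a, b⟩ ⟨hb, hco, hinv⟩ φ
    have hdvd : ∀ ψ : A →ₐ[k] k, b ∣ actHom ψ b := fun ψ =>
      hco.symm.dvd_of_dvd_mul_left ⟨actHom ψ a, by rw [mul_comm b]; exact (hinv ψ).symm⟩
    have hdvd' : actHom φ b ∣ b := by
      have := map_dvd (actHom φ) (hdvd (φ.comp (HopfAlgebra.antipodeAlgHom k A)))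
      rwa [act_inv] at this
    obtain ⟨v, hv⟩ := associated_of_dvd_dvd (hdvd φ) hdvd'
    obtain ⟨c, hc⟩ := hunits v
    have hcb : actHom φ b = c • b := by rw [← hv, Algebra.smul_def, hc, mul_comm]
    refine ⟨c, mul_right_cancel₀ hb ?_, hcb⟩
    have h1 := hinv φ
    simp only [hcb] at h1
    rw [h1, mul_smul_comm, smul_mul_assoc]
  obtain ⟨s, hs, hgen⟩ := exists_finset_adjoin (k := k) (K := K) P fun p hp => hp.1
  let h : B := ∏ p ∈ s, p.2
  have hh : h ≠ 0 := Finset.prod_ne_zero_iff.2 fun p hp => (hs hp).1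
  have hhK : algebraMap B K h ≠ 0 := (map_ne_zero_iff _ hinjK).2 hh
  choose! c hc1 hc2 using hsemi
  have hφh : ∀ φ, actHom φ h = (∏ p ∈ s, c p φ) • h := fun φ => by
    simp only [h, map_prod]
    rw [Finset.prod_congr rfl fun p hp => hc2 p (hs hp) φ, Finset.prod_smul]
  refine ⟨h, hh, fun φ => ⟨1, algebraMap k B (∏ p ∈ s, c p φ)⁻¹, ?_⟩, fun a b hb hab => ?_⟩
  · have hC : (∏ p ∈ s, c p φ) ≠ 0 := by
      intro h0
      have h1 : actHom (φ.comp (HopfAlgebra.antipodeAlgHom k A)) h = 0 ∨ True := Or.inr trivial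
      have h2 := congrArg (actHom φ) (hφh (φ.comp (HopfAlgebra.antipodeAlgHom k A)))
      rw [act_inv, map_smul, hφh φ, h0, zero_smul, smul_zero] at h2
      exact hh h2
    rw [hφh, pow_one, mul_comm, ← Algebra.smul_def, smul_smul, inv_mul_cancel₀ hC, one_smul]
  -- invariant fractions with a power of `h` below
  let S : Subalgebra k K :=
    { carrier := {x | ∃ (c : B) (r : ℕ), x = algebraMap B K c / algebraMap B K h ^ r ∧
        ∀ φ : A →ₐ[k] k, actHom φ c * h ^ r = c * actHom φ h ^ r}
      one_mem' := ⟨1, 0, by simp, by simp⟩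
      zero_mem' := ⟨0, 0, by simp, by simp⟩
      mul_mem' := by
        rintro _ _ ⟨c₁, r₁, rfl, h1⟩ ⟨c₂, r₂, rfl, h2⟩
        refine ⟨c₁ * c₂, r₁ + r₂, by rw [map_mul, pow_add]; ring, fun φ => ?_⟩
        rw [map_mul, pow_add, pow_add]
        linear_combination (c₂ * actHom φ h ^ r₂) * h1 φ + (actHom φ c₁ * h ^ r₁) * h2 φ
      add_mem' := by
        rintro _ _ ⟨c₁, r₁, rfl, h1⟩ ⟨c₂, r₂, rfl, h2⟩
        refine ⟨c₁ * h ^ r₂ + c₂ * h ^ r₁, r₁ + r₂, ?_, fun φ => ?_⟩
        · rw [map_add, map_mul, map_mul, map_pow, map_pow, pow_add, div_add_div _ _ (pow_ne_zero _ hhK) (pow_ne_zero _ hhK)]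
          ring
        · rw [map_add, map_mul, map_mul, map_pow, map_pow, pow_add, pow_add]
          linear_combination (h ^ r₂ * actHom φ h ^ r₂) * h1 φ + (h ^ r₁ * actHom φ h ^ r₁) * h2 φ
      algebraMap_mem' := fun z => ⟨algebraMap k B z, 0, by
        rw [← IsScalarTower.algebraMap_apply]; simp, by simp⟩ }
  have hS : Algebra.adjoin k ((fun p : B × B => algebraMap B K p.1 / algebraMap B K p.2) '' (s : Set (B × B))) ≤ S := by
    refine Algebra.adjoin_le ?_
    rintro _ ⟨p, hp, rfl⟩
    refine ⟨p.1 * ∏ q ∈ s.erase p, q.2, 1, ?_, fun φ => ?_⟩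
    · have hp2 : algebraMap B K p.2 ≠ 0 := (map_ne_zero_iff _ hinjK).2 (hs hp).1
      have e : h = p.2 * ∏ q ∈ s.erase p, q.2 := (Finset.mul_prod_erase s _ hp).symm
      rw [pow_one, map_mul, e, map_mul, mul_div_mul_right _ _ ?_]
      rw [e, map_mul] at hhK
      exact right_ne_zero_of_mul hhK
    · rw [pow_one, pow_one, map_mul, map_prod, hφh, hc1 p (hs hp) φ,
        Finset.prod_congr rfl fun q hq => hc2 q (hs (Finset.mem_of_mem_erase hq)) φ, Finset.prod_smul,
        ← Finset.mul_prod_erase s (fun q => c q φ) hp]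
      simp only [Algebra.smul_def, map_mul]
      ring
  -- the given fraction
  obtain ⟨a', b', hxy⟩ : ∃ a' b', (a', b') ∈ P ∧ a * b' = a' * b := by
    obtain ⟨a', b', z, hz, hz'⟩ := UniqueFactorizationMonoid.exists_reduced_factors' a b hb
    obtain ⟨rfl, rfl⟩ : a = z * a' ∧ b = z * b' := ⟨hz'.1.symm, hz'.2.symm⟩
    refine ⟨a', b', ⟨right_ne_zero_of_mul hb, hz, fun φ => ?_⟩, by ring⟩
    have hz0 : z ≠ 0 := left_ne_zero_of_mul hb
    have hz1 : actHom φ z ≠ 0 := fun h0 => by
      have h2 := act_inv (φ.comp (HopfAlgebra.antipodeAlgHom k A)) z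
      have e : (φ.comp (HopfAlgebra.antipodeAlgHom k A)).comp (HopfAlgebra.antipodeAlgHom k A) = φ :=
        AlgHom.ext fun x => congrArg φ (Groth.L08.antipode_antipode_apply x)
      rw [e, h0, map_zero] at h2
      exact hz0 h2.symm
    refine mul_left_cancel₀ (mul_ne_zero hz0 hz1) ?_
    have h1 := hab φ
    rw [map_mul, map_mul] at h1
    linear_combination h1
  obtain ⟨hxy1, hxy2⟩ := hxy
  have hx := hgen _ hxy1
  obtain ⟨u, hu, v, hvS, hv, huv⟩ : ∃ u ∈ S, ∃ v ∈ S, v ≠ 0 ∧
      algebraMap B K a' / algebraMap B K b' = u / v := by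
    obtain ⟨u, hu, v, hv, e⟩ := IntermediateField.mem_adjoin_iff_div.1 hx
    by_cases h0 : v = 0
    · exact ⟨0, S.zero_mem, 1, S.one_mem, one_ne_zero, by rw [e, h0, div_zero, div_one]⟩
    · exact ⟨u, hS hu, v, hS hv, h0, e⟩
  obtain ⟨c', r, rfl, hc'⟩ := hu
  obtain ⟨d', t, rfl, hd'⟩ := hvS
  exact ⟨c', d', r, t, fun h0 => hv (by rw [h0, map_zero, zero_div]), hc', hd', by
    have hb' : algebraMap B K b' ≠ 0 := (map_ne_zero_iff _ hinjK).2 hxy1.1
    have hd0 : algebraMap B K d' ≠ 0 := fun h0 => hv (by rw [h0, zero_div])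
    refine hinjK (mul_right_cancel₀ hb' ?_)
    simp only [map_mul, map_pow]
    have e2 := congrArg (algebraMap B K) hxy2
    simp only [map_mul] at e2
    rw [div_eq_div_iff hb' hv, mul_div_assoc', div_mul_eq_mul_div, div_eq_div_iff (pow_ne_zero _ hhK) (pow_ne_zero _ hhK)] at huv
    linear_combination (algebraMap B K d' * algebraMap B K h ^ r) * e2 + algebraMap B K b * huv⟩

end Groth.L14.InvFrac
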