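import Groth.Agent.L14.NLAmp.Main
import Groth.Agent.L07.GeomRk.Open
import Groth.Agent.L07.SyntCM
import Groth.Agent.L07.SyntLCI
import Groth.Agent.L02.AssFlat
import Groth.Agent.S0341
import Mathlib.RingTheory.Smooth.Locus
import Mathlib.RingTheory.LocalRing.ResidueField.Fiber
import Mathlib.LinearAlgebra.Dual.Lemmas

/-! # Flat local complete intersection algebras with generically smooth fibres -/

set_option autoImplicit false
set_option linter.style.haveILetI false

universe u

open TensorProduct

namespace Groth.L14.LciH1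

variable {A P : Type u} [CommRing A] [CommRing P] [Algebra A P]

theorem associated_minimal_of_CM {R : Type u} [CommRing R] [hR : LocCoh.IsCohenMacaulayRing R] :
    ∀ p ∈ associatedPrimes R R, p ∈ minimalPrimes R := by
  refine (Groth.L07.GeomRk.noEmbedded_iff_hasSk_one R).2 ((Groth.L06.FlatFibre.hasSk_self_iff 1).2 fun p _ => ?_)
  haveI := hR.isCohenMacaulayLocalRing_localization p
  have h := (inferInstance : LocCoh.IsCohenMacaulayLocalRing (Localization.AtPrime p)).supportDim_eq_depth
  rw [Module.supportDim_self_eq_ringKrullDim] at h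
  exact le_trans (min_le_right _ _) h.le

/-- Associated primes of `P ⊗[A] N`, for `P` flat with Cohen–Macaulay fibres, are minimal in their fibres. -/
theorem eq_of_le_of_associated_tensor [IsNoetherianRing A] [IsNoetherianRing P] [Module.Flat A P]
    (hCM : ∀ p : PrimeSpectrum A, LocCoh.IsCohenMacaulayRing (p.asIdeal.Fiber P))
    {N : Type u} [AddCommGroup N] [Module A N]
    {q : Ideal P} (hq : q ∈ associatedPrimes P (P ⊗[A] N)) {Q : Ideal P} [Q.IsPrime] (hQ : Q ≤ q)
    (hQA : Q.comap (algebraMap A P) = q.comap (algebraMap A P)) : Q = q := by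
  classical
  haveI hqp : q.IsPrime := hq.isPrime
  rw [Groth.L02.AssFlat.associatedPrimes_tensor P N] at hq
  obtain ⟨p, hp, hq⟩ := Set.mem_iUnion₂.1 hq
  haveI : p.IsPrime := hp.isPrime
  obtain ⟨hqP, m, hm⟩ := hq
  obtain ⟨x, rfl⟩ := Submodule.Quotient.mk_surjective _ m
  have hmem : ∀ a ∈ q, ∃ n : ℕ, a ^ n * x ∈ p.map (algebraMap A P) := by
    intro a ha
    rw [hm, Ideal.radical, Submodule.mem_mk] at ha
    obtain ⟨n, hn⟩ := ha
    refine ⟨n, ?_⟩
    rw [Submodule.mem_colon_singleton, Submodule.mem_bot, ← Submodule.Quotient.mk_smul, Submodule.Quotient.mk_eq_zero,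
      smul_eq_mul, smul_eq_mul, Ideal.mul_top] at hn
    exact hn
  have hx : x ∉ p.map (algebraMap A P) := fun hx => hqP.ne_top <| by
    rw [hm, Ideal.radical_eq_top, Ideal.eq_top_iff_one, Submodule.mem_colon_singleton, one_smul, Submodule.mem_bot,
      Submodule.Quotient.mk_eq_zero, smul_eq_mul, Ideal.mul_top]
    exact hx
  let Fib := p.Fiber P
  let ι : P →ₐ[A] Fib := Algebra.TensorProduct.includeRight
  have hι : ∀ z : P, ι z = 0 → z ∈ p.map (algebraMap A P) := by
    intro z hz
    have hinj : Function.Injective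
        (LinearMap.rTensor P (IsScalarTower.toAlgHom A (A ⧸ p) p.ResidueField).toLinearMap) :=
      Module.Flat.rTensor_preserves_injective_linearMap _ p.injective_algebraMap_quotient_residueField
    have h1 : (Ideal.Quotient.mk p 1) ⊗ₜ[A] z = 0 := hinj (by
      rw [LinearMap.rTensor_tmul, map_zero, map_one]
      show (algebraMap (A ⧸ p) p.ResidueField 1) ⊗ₜ[A] z = 0
      rw [map_one]
      exact hz)
    have h2 := congrArg (TensorProduct.quotTensorEquivQuotSMul P p) h1
    rw [map_zero, TensorProduct.quotTensorEquivQuotSMul_mk_tmul, one_smul, Submodule.Quotient.mk_eq_zero] at h2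
    rwa [Ideal.smul_top_eq_map, Submodule.restrictScalars_mem] at h2
  have hx0 : ι x ≠ 0 := fun h => hx (hι x h)
  have hιp : ∀ a ∈ p, ι (algebraMap A P a) = 0 := fun a ha => by
    rw [AlgHom.commutes, IsScalarTower.algebraMap_apply A p.ResidueField Fib,
      Ideal.algebraMap_residueField_eq_zero.2 ha, map_zero]
  have hqp' : q.comap (algebraMap A P) = p := by
    refine le_antisymm (fun a ha => ?_) fun a ha => ?_
    · by_contra hap
      obtain ⟨n, hn⟩ := hmem _ ha
      have h0 : ι (algebraMap A P a ^ n * x) = 0 := by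
        have : ∀ w ∈ p.map (algebraMap A P), ι w = 0 := fun w hw => by
          induction hw using Submodule.span_induction with
          | mem y hy => obtain ⟨b, hb, rfl⟩ := hy; exact hιp b hb
          | zero => exact map_zero _
          | add y z _ _ hy hz => rw [map_add, hy, hz, add_zero]
          | smul c y _ hy => rw [smul_eq_mul, map_mul, hy, mul_zero]
        exact this _ hn
      rw [map_mul, map_pow, AlgHom.commutes, IsScalarTower.algebraMap_apply A p.ResidueField Fib] at h0
      refine hx0 (((IsUnit.map _ (IsUnit.mk0 _ fun h => hap (Ideal.algebraMap_residueField_eq_zero.1 h))).pow n).mul_right_eq_zero.1 h0)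
    · show algebraMap A P a ∈ q
      rw [hm]
      refine Ideal.le_radical ?_
      rw [Submodule.mem_colon_singleton, Submodule.mem_bot, ← Submodule.Quotient.mk_smul,
        Submodule.Quotient.mk_eq_zero, smul_eq_mul, smul_eq_mul, Ideal.mul_top]
      exact Ideal.mul_mem_right _ _ (Ideal.mem_map_of_mem _ ha)
  let φ := PrimeSpectrum.primesOverOrderIsoFiber A P p
  let q₁ : p.primesOver P := ⟨q, hqP, ⟨hqp'.symm⟩⟩
  let Q₁ : p.primesOver P := ⟨Q, inferInstance, ⟨(hQA.trans hqp').symm⟩⟩
  have hle : φ Q₁ ≤ φ q₁ := φ.monotone hQ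
  let J : Ideal Fib := (Submodule.colon (⊥ : Ideal Fib) {ι x}).radical
  have hqJ : (φ q₁).asIdeal ≤ J := by
    intro z hz
    obtain ⟨r, hr, s, hrs⟩ := Ideal.Fiber.exists_smul_eq_one_tmul p z
    have hs : s ∈ q := by
      have h1 : ι s ∈ (φ q₁).asIdeal := by
        show (1 : p.ResidueField) ⊗ₜ[A] s ∈ _
        rw [← hrs, Algebra.smul_def]
        exact Ideal.mul_mem_left _ _ hz
      have h2 : (φ.symm (φ q₁)).1 = q := by rw [OrderIso.symm_apply_apply]
      rw [← h2]
      exact h1
    obtain ⟨n, hn⟩ := hmem s hs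
    refine ⟨n, ?_⟩
    rw [Submodule.mem_colon_singleton, Submodule.mem_bot, smul_eq_mul]
    have h0 : ι (s ^ n * x) = 0 := by
      have : ∀ w ∈ p.map (algebraMap A P), ι w = 0 := fun w hw => by
        induction hw using Submodule.span_induction with
        | mem y hy => obtain ⟨b, hb, rfl⟩ := hy; exact hιp b hb
        | zero => exact map_zero _
        | add y z _ _ hy hz => rw [map_add, hy, hz, add_zero]
        | smul c y _ hy => rw [smul_eq_mul, map_mul, hy, mul_zero]
      exact this _ hn
    rw [map_mul, map_pow, show ι s = algebraMap A Fib r * z from hrs.symm.trans (Algebra.smul_def r z), mul_pow,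
      mul_assoc] at h0
    refine ((IsUnit.pow n ?_).mul_right_eq_zero.1 h0)
    rw [IsScalarTower.algebraMap_apply A p.ResidueField Fib]
    exact IsUnit.map _ (IsUnit.mk0 _ fun h => hr (Ideal.algebraMap_residueField_eq_zero.1 h))
  haveI : LocCoh.IsCohenMacaulayRing Fib := hCM ⟨p, inferInstance⟩
  obtain ⟨r, hr, hrle⟩ := exists_le_isAssociatedPrime_of_isNoetherianRing Fib (ι x) hx0
  have hrmin : r ∈ minimalPrimes Fib := associated_minimal_of_CM r hr
  haveI : r.IsPrime := hr.isPrime
  have hqr : (φ q₁).asIdeal ≤ r := hqJ.trans ((Ideal.IsPrime.radical_le_iff inferInstance).2 hrle)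
  have hrQ : r ≤ (φ Q₁).asIdeal := hrmin.2 ⟨(φ Q₁).isPrime, bot_le⟩ (le_trans hle hqr)
  have heq : φ Q₁ = φ q₁ := le_antisymm hle (hqr.trans hrQ)
  exact congrArg Subtype.val (φ.injective heq)

/-- Associated primes of a flat algebra with Cohen–Macaulay fibres are minimal in their fibres. -/
theorem eq_of_le_of_associated [IsNoetherianRing A] [IsNoetherianRing P] [Module.Flat A P]
    (hCM : ∀ p : PrimeSpectrum A, LocCoh.IsCohenMacaulayRing (p.asIdeal.Fiber P))
    {q : Ideal P} (hq : q ∈ associatedPrimes P P) {Q : Ideal P} [Q.IsPrime] (hQ : Q ≤ q)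
    (hQA : Q.comap (algebraMap A P) = q.comap (algebraMap A P)) : Q = q := by
  rw [← LinearEquiv.AssociatedPrimes.eq (TensorProduct.AlgebraTensorModule.rid A P P)] at hq
  exact eq_of_le_of_associated_tensor hCM hq hQ hQA

/-- Vanishing of the first cotangent homology. -/
theorem subsingleton_h1Cotangent [IsNoetherianRing A] [Module.Flat A P] (hlci : LCI.IsLCI A P)
    (hgs : ∀ 𝔓 : PrimeSpectrum P,
      (∀ 𝔔 : PrimeSpectrum P, 𝔔 ≤ 𝔓 →
          𝔔.asIdeal.comap (algebraMap A P) = 𝔓.asIdeal.comap (algebraMap A P) → 𝔔 = 𝔓) →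
        𝔓 ∈ Algebra.smoothLocus A P) :
    Subsingleton (Algebra.H1Cotangent A P) := by
  classical
  have hsyn : Synt.IsSyntomic A P := Groth.L07.SyntLCI.isSyntomic_of_flat_isLCI (R := A) (S := P) hlci
  obtain ⟨hft, n, π, hπ, hk⟩ := hlci
  haveI := hft
  haveI : IsNoetherianRing P := Algebra.FiniteType.isNoetherianRing A P
  haveI := hsyn.2.1
  let G := Groth.L14.NLAmp.gens π hπ
  haveI : Module.Projective P G.toExtension.Cotangent := Groth.L14.NLAmp.projective_gens π hπ hk
  haveI : Subsingleton G.toExtension.H1Cotangent := by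
    refine ⟨fun x y => sub_eq_zero.1 ?_⟩
    generalize x - y = c
    by_contra hne
    have hne' : (c.1 : G.toExtension.Cotangent) ≠ 0 := fun h => hne (Subtype.ext h)
    obtain ⟨φ, hφ⟩ := Module.Projective.exists_dual_ne_zero P hne'
    obtain ⟨q, hq, hle⟩ := exists_le_isAssociatedPrime_of_isNoetherianRing P (φ c.1) hφ
    haveI : q.IsPrime := hq.isPrime
    have hsm : (⟨q, inferInstance⟩ : PrimeSpectrum P) ∈ Algebra.smoothLocus A P :=
      hgs _ fun Q hQ hQA => PrimeSpectrum.ext
        (eq_of_le_of_associated (fun p => Groth.L07.Synt.isCMRing_of_isLCIOver (hsyn.2.2 p)) hq hQ hQA)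
    have hnsupp : (⟨q, inferInstance⟩ : PrimeSpectrum P) ∉ Module.support P (Algebra.H1Cotangent A P) := by
      rw [Algebra.smoothLocus_eq_compl_support_inter] at hsm
      exact hsm.1
    obtain ⟨b, hb, hbc⟩ := Module.notMem_support_iff'.1 hnsupp (G.equivH1Cotangent c)
    rw [← map_smul, LinearEquiv.map_eq_zero_iff] at hbc
    refine hb (hle ?_)
    rw [Submodule.mem_colon_singleton, Submodule.mem_bot, ← map_smul]
    exact (congr_arg φ (congr_arg Subtype.val hbc : (b • c).1 = (0 : G.toExtension.H1Cotangent).1)).trans (map_zero φ)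
  exact G.equivH1Cotangent.symm.toEquiv.subsingleton

end Groth.L14.LciH1
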