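import Groth.Agent.L14.LciH1
import Groth.Agent.L04.LC.ExtLoc
import Mathlib.RingTheory.Spectrum.Prime.FreeLocus
import Mathlib.RingTheory.TensorProduct.Quotient

/-! # `T¹` of a flat local complete intersection and closed base change -/

set_option autoImplicit false
set_option linter.style.haveILetI false
set_option backward.isDefEq.respectTransparency false

universe u

open TensorProduct CategoryTheory

namespace Groth.L14.LciT1BC

section Generic

variable {R : Type u} [CommRing R] {K F M : Type u} [AddCommGroup K] [Module R K] [AddCommGroup F]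
  [Module R F] [AddCommGroup M] [Module R M]

/-- A short exact sequence with cokernel free at `q` splits up to a denominator outside `q`. -/
theorem exists_retraction_at [Module.FinitePresentation R M] (f : K →ₗ[R] F) (g : F →ₗ[R] M)
    (hf : Function.Injective f) (hg : Function.Surjective g) (hfg : Function.Exact f g)
    (q : Ideal R) [q.IsPrime] [Module.Free (Localization.AtPrime q) (LocalizedModule q.primeCompl M)] :
    ∃ (ρ : F →ₗ[R] K) (b : R), b ∉ q ∧ ∀ y, ρ (f y) = b • y := by
  let mF := LocalizedModule.mkLinearMap q.primeCompl F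
  let mM := LocalizedModule.mkLinearMap q.primeCompl M
  let gq := LocalizedModule.map q.primeCompl g
  obtain ⟨s', hs'⟩ := Module.projective_lifting_property gq LinearMap.id
    (LocalizedModule.map_surjective q.primeCompl g hg)
  obtain ⟨s₀, b₁, hs₀⟩ := Module.FinitePresentation.exists_lift_of_isLocalizedModule q.primeCompl mF
    ((s'.restrictScalars R).comp mM)
  have h1 : mM.comp (g.comp s₀) = mM.comp ((b₁ : R) • LinearMap.id) := by
    refine LinearMap.ext fun x => ?_
    have h2 : mF (s₀ x) = (b₁ : R) • s' (mM x) := LinearMap.congr_fun hs₀ x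
    have h3 : gq (mF (s₀ x)) = mM (g (s₀ x)) := by
      simp [gq, mF, mM, LocalizedModule.mkLinearMap_apply]
    show mM (g (s₀ x)) = mM ((b₁ : R) • x)
    rw [← h3, h2, LinearMap.map_smul_of_tower gq, LinearMap.map_smul mM]
    exact congrArg ((b₁ : R) • ·) (LinearMap.congr_fun hs' (mM x))
  obtain ⟨b₂, hb₂⟩ := Module.Finite.exists_smul_of_comp_eq_of_isLocalizedModule q.primeCompl mM _ _ h1
  let b : R := (b₂ : R) * b₁
  let s : M →ₗ[R] F := (b₂ : R) • s₀
  have hgs : ∀ x, g (s x) = b • x := fun x => by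
    have h : (b₂ : R) • g (s₀ x) = (b₂ : R) • (b₁ : R) • x := LinearMap.congr_fun hb₂ x
    show g ((b₂ : R) • s₀ x) = _
    rw [map_smul, h, mul_smul]
  let d : F →ₗ[R] F := b • LinearMap.id - s.comp g
  have hd : ∀ x, d x ∈ LinearMap.range f := fun x => by
    obtain ⟨y, hy⟩ := (hfg (d x)).1 (by simp [d, hgs])
    exact ⟨y, hy⟩
  refine ⟨(LinearEquiv.ofInjective f hf).symm.toLinearMap.comp (d.codRestrict _ hd), b,
    q.primeCompl.mul_mem b₂.2 b₁.2, fun y => ?_⟩
  rw [LinearMap.comp_apply, LinearEquiv.coe_coe, LinearEquiv.symm_apply_eq]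
  refine Subtype.ext ?_
  simp [d, hfg.apply_apply_eq_zero]

/-- Base change of the cokernel of a transpose along a quotient map. -/
theorem nonempty_coker_baseChange (I : Ideal R) [Module.Finite R K] [Module.Projective R K]
    [Module.Projective R F] (f : K →ₗ[R] F) :
    Nonempty ((R ⧸ I) ⊗[R] ((K →ₗ[R] R) ⧸ LinearMap.range (f.lcomp R R)) ≃ₗ[R ⧸ I]
      ((R ⧸ I) ⊗[R] K →ₗ[R ⧸ I] R ⧸ I) ⧸
        LinearMap.range ((f.baseChange (R ⧸ I)).lcomp (R ⧸ I) (R ⧸ I))) := by
  classical
  let R' := R ⧸ I
  let W := LinearMap.range ((f.baseChange R').lcomp R' R')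
  let ψ : (K →ₗ[R] R) →ₗ[R] (R' ⊗[R] K →ₗ[R'] R') :=
    ((LinearMap.liftBaseChangeEquiv R').toLinearMap.restrictScalars R).comp
      (LinearMap.llcomp R K R R' (Algebra.linearMap R R'))
  have hψ : ∀ h y, ψ h (1 ⊗ₜ y) = Ideal.Quotient.mk I (h y) := fun h y => by
    show LinearMap.liftBaseChange R' ((Algebra.linearMap R R').comp h) (1 ⊗ₜ y) = _
    rw [LinearMap.liftBaseChange_tmul, one_smul]
    rfl
  have hext : ∀ a b : R' ⊗[R] K →ₗ[R'] R', (∀ y, a (1 ⊗ₜ y) = b (1 ⊗ₜ y)) → a = b := fun a b h =>
    TensorProduct.AlgebraTensorModule.ext fun c y => by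
      rw [show c ⊗ₜ[R] y = c • ((1 : R') ⊗ₜ[R] y) by rw [TensorProduct.smul_tmul', smul_eq_mul, mul_one],
        map_smul, map_smul, h]
  have hdesc : LinearMap.range (f.lcomp R R) ≤ LinearMap.ker ((W.mkQ.restrictScalars R).comp ψ) := by
    rintro _ ⟨h, rfl⟩
    let ψF : R' ⊗[R] F →ₗ[R'] R' := LinearMap.liftBaseChangeEquiv R' ((Algebra.linearMap R R').comp h)
    rw [LinearMap.mem_ker]
    refine (Submodule.Quotient.mk_eq_zero W).2 ⟨ψF, hext _ _ fun y => ?_⟩
    rw [hψ]
    show LinearMap.liftBaseChange R' ((Algebra.linearMap R R').comp h) (f.baseChange R' (1 ⊗ₜ y)) = _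
    rw [LinearMap.baseChange_tmul, LinearMap.liftBaseChange_tmul, one_smul]
    rfl
  let Φ : R' ⊗[R] ((K →ₗ[R] R) ⧸ LinearMap.range (f.lcomp R R)) →ₗ[R'] _ :=
    LinearMap.liftBaseChange R' ((LinearMap.range (f.lcomp R R)).liftQ _ hdesc)
  have hΦ : ∀ h, Φ (1 ⊗ₜ Submodule.Quotient.mk h) = W.mkQ (ψ h) := fun h => by
    simp [Φ]
  refine ⟨LinearEquiv.ofBijective Φ ⟨?_, ?_⟩⟩
  · rw [injective_iff_map_eq_zero]
    intro z hz
    obtain ⟨t, rfl⟩ := TensorProduct.mk_surjective R _ R' Ideal.Quotient.mk_surjective z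
    obtain ⟨h, rfl⟩ := Submodule.Quotient.mk_surjective _ t
    rw [TensorProduct.mk_apply, hΦ, Submodule.mkQ_apply, Submodule.Quotient.mk_eq_zero] at hz
    obtain ⟨h', hh'⟩ := hz
    obtain ⟨g, hg⟩ := Module.projective_lifting_property (Algebra.linearMap R R')
      ((LinearMap.liftBaseChangeEquiv R').symm h') Ideal.Quotient.mk_surjective
    have hmem : ∀ y, (h - f.lcomp R R g) y ∈ I := fun y => by
      rw [← Ideal.Quotient.eq_zero_iff_mem, LinearMap.sub_apply, map_sub, sub_eq_zero, ← hψ, ← hh']
      have h4 : Ideal.Quotient.mk I (g (f y)) = h' ((1 : R') ⊗ₜ f y) := LinearMap.congr_fun hg (f y)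
      simp only [LinearMap.lcomp_apply, LinearMap.baseChange_tmul]
      exact h4.symm
    obtain ⟨n, π, σ, hπ, -, hσ⟩ := Module.Finite.exists_comp_eq_id_of_projective R K
    set k := h - f.lcomp R R g
    have hk : k = ∑ i, k (π (Pi.single i 1)) • (LinearMap.proj i).comp σ := by
      refine LinearMap.ext fun y => ?_
      conv_lhs => rw [← LinearMap.id_apply (R := R) y, ← hσ, LinearMap.comp_apply, pi_eq_sum_univ' (σ y)]
      simp [mul_comm]
    have hmk : (Submodule.Quotient.mk h : (K →ₗ[R] R) ⧸ LinearMap.range (f.lcomp R R)) = Submodule.Quotient.mk k :=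
      ((Submodule.Quotient.eq _).2 ⟨g, by simp [k]⟩)
    rw [TensorProduct.mk_apply, hmk, hk, ← Submodule.mkQ_apply, map_sum, TensorProduct.tmul_sum]
    refine Finset.sum_eq_zero fun i _ => ?_
    rw [map_smul, TensorProduct.tmul_smul, TensorProduct.smul_tmul', Algebra.smul_def, mul_one,
      Ideal.Quotient.algebraMap_eq, Ideal.Quotient.eq_zero_iff_mem.2 (hmem _), TensorProduct.zero_tmul]
  · intro z
    obtain ⟨h', rfl⟩ := Submodule.Quotient.mk_surjective W z
    obtain ⟨h, hh⟩ := Module.projective_lifting_property (Algebra.linearMap R R')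
      ((LinearMap.liftBaseChangeEquiv R').symm h') Ideal.Quotient.mk_surjective
    refine ⟨1 ⊗ₜ Submodule.Quotient.mk h, ?_⟩
    rw [hΦ, Submodule.mkQ_apply]
    refine congrArg _ (hext _ _ fun y => ?_)
    rw [hψ]
    exact LinearMap.congr_fun hh y

end Generic

variable {A P : Type u} [CommRing A] [CommRing P] [Algebra A P]

/-- Differentials of a closed subscheme pulled back from the base. -/
theorem nonempty_kaehler_quotient (J : Ideal A) :
    Nonempty ((P ⧸ J.map (algebraMap A P)) ⊗[P] KaehlerDifferential A P ≃ₗ[P ⧸ J.map (algebraMap A P)]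
      KaehlerDifferential A (P ⧸ J.map (algebraMap A P))) := by
  let P' := P ⧸ J.map (algebraMap A P)
  have hs : Function.Surjective (algebraMap P P') := Ideal.Quotient.mk_surjective
  refine ⟨LinearEquiv.ofBijective (KaehlerDifferential.mapBaseChange A P P')
    ⟨?_, KaehlerDifferential.mapBaseChange_surjective _ _ _ hs⟩⟩
  rw [injective_iff_map_eq_zero]
  intro z hz
  obtain ⟨w, rfl⟩ := (KaehlerDifferential.exact_kerCotangentToTensor_mapBaseChange A P P' hs z).1 hz
  obtain ⟨⟨x, hx⟩, rfl⟩ := Ideal.toCotangent_surjective _ w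
  rw [KaehlerDifferential.kerCotangentToTensor_toCotangent]
  have hx' : x ∈ J.map (algebraMap A P) := Ideal.Quotient.eq_zero_iff_mem.1 hx
  have hz0 : ∀ j ∈ J, ∀ y : P, algebraMap P P' (algebraMap A P j * y) = 0 := fun j hj y =>
    Ideal.Quotient.eq_zero_iff_mem.2 (Ideal.mul_mem_right _ _ (Ideal.mem_map_of_mem _ hj))
  have key : ∀ x ∈ J.map (algebraMap A P), (1 : P') ⊗ₜ[P] KaehlerDifferential.D A P x = 0 := by
    intro x hx
    induction hx using Submodule.span_induction with
    | mem y hy => obtain ⟨j, hj, rfl⟩ := hy; simp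
    | zero => simp
    | add y z _ _ hy hz => rw [map_add, TensorProduct.tmul_add, hy, hz, add_zero]
    | smul c y hy' hy =>
      have hy0 : algebraMap P P' y = 0 := Ideal.Quotient.eq_zero_iff_mem.2 hy'
      rw [smul_eq_mul, Derivation.leibniz, TensorProduct.tmul_add, TensorProduct.tmul_smul, hy, smul_zero,
        zero_add, TensorProduct.tmul_smul, TensorProduct.smul_tmul', Algebra.smul_def, hy0, zero_mul,
        TensorProduct.zero_tmul]
  exact key x hx'

/-- `T¹` commutes with closed base change. -/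
theorem nonempty_t1_baseChange [IsNoetherianRing A] [Module.Flat A P] (hlci : LCI.IsLCI A P)
    (hgs : ∀ 𝔓 : PrimeSpectrum P,
      (∀ 𝔔 : PrimeSpectrum P, 𝔔 ≤ 𝔓 →
          𝔔.asIdeal.comap (algebraMap A P) = 𝔓.asIdeal.comap (algebraMap A P) → 𝔔 = 𝔓) →
        𝔓 ∈ Algebra.smoothLocus A P)
    (J : Ideal A) :
    Nonempty
      ((P ⧸ J.map (algebraMap A P)) ⊗[P]
          Abelian.Ext.{u} (ModuleCat.of P (KaehlerDifferential A P)) (ModuleCat.of P P) 1 ≃ₗ[P ⧸ J.map (algebraMap A P)]
        Abelian.Ext.{u}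
          (ModuleCat.of (P ⧸ J.map (algebraMap A P)) (KaehlerDifferential A (P ⧸ J.map (algebraMap A P))))
          (ModuleCat.of (P ⧸ J.map (algebraMap A P)) (P ⧸ J.map (algebraMap A P))) 1) := by
  classical
  have hH : Subsingleton (Algebra.H1Cotangent A P) := Groth.L14.LciH1.subsingleton_h1Cotangent hlci hgs
  have hsyn : Synt.IsSyntomic A P := Groth.L07.SyntLCI.isSyntomic_of_flat_isLCI (R := A) (S := P) hlci
  obtain ⟨hft, n, π, hπ, hk⟩ := hlci
  haveI := hft
  haveI : IsNoetherianRing P := Algebra.FiniteType.isNoetherianRing A P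
  haveI := hsyn.2.1
  let G := Groth.L14.NLAmp.gens π hπ
  haveI : Module.Projective P G.toExtension.Cotangent := Groth.L14.NLAmp.projective_gens π hπ hk
  haveI : Module.Finite P G.toExtension.Cotangent := Groth.L14.NLAmp.finite_cotangent π hπ
  haveI : Module.Projective P G.toExtension.CotangentSpace :=
    Module.Projective.of_free (R := P) (P := G.toExtension.CotangentSpace)
  haveI : Module.FinitePresentation P (KaehlerDifferential A P) :=
    Module.finitePresentation_of_finite P _
  let f := G.toExtension.cotangentComplex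
  let g := G.toExtension.toKaehler
  have hfi : Function.Injective f := by
    haveI : Subsingleton G.toExtension.H1Cotangent := G.equivH1Cotangent.toEquiv.subsingleton
    exact (Algebra.Extension.subsingleton_h1Cotangent _).1 this
  have hg : Function.Surjective g := G.toExtension.toKaehler_surjective
  have hfg : Function.Exact f g := G.toExtension.exact_cotangentComplex_toKaehler
  let P' := P ⧸ J.map (algebraMap A P)
  let fq := f.baseChange P'
  have hfqi : Function.Injective fq := by
    rw [injective_iff_map_eq_zero]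
    intro c hc
    by_contra hne
    obtain ⟨φ, hφ⟩ := Module.Projective.exists_dual_ne_zero P' hne
    obtain ⟨q, hq, hle⟩ := exists_le_isAssociatedPrime_of_isNoetherianRing P (φ c) hφ
    haveI : q.IsPrime := hq.isPrime
    have hq' : q ∈ associatedPrimes P (P ⊗[A] (A ⧸ J)) := by
      rw [← LinearEquiv.AssociatedPrimes.eq
        (Algebra.TensorProduct.quotIdealMapEquivTensorQuot P J).toLinearEquiv]
      exact hq
    have hsm : (⟨q, inferInstance⟩ : PrimeSpectrum P) ∈ Algebra.smoothLocus A P :=
      hgs _ fun Q hQ hQA => PrimeSpectrum.ext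
        (Groth.L14.LciH1.eq_of_le_of_associated_tensor
          (fun p => Groth.L07.Synt.isCMRing_of_isLCIOver (hsyn.2.2 p)) hq' hQ hQA)
    rw [Algebra.smoothLocus_eq_compl_support_inter] at hsm
    haveI : Module.Free (Localization.AtPrime q) (LocalizedModule q.primeCompl (KaehlerDifferential A P)) :=
      hsm.2
    obtain ⟨ρ, b, hb, hρ⟩ := exists_retraction_at f g hfi hg hfg q
    have hbc : b • c = 0 := by
      have h1 : (ρ.baseChange P').comp fq = b • LinearMap.id :=
        TensorProduct.AlgebraTensorModule.ext fun x y => by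
          simp [fq, hρ, TensorProduct.tmul_smul]
      have h2 := LinearMap.congr_fun h1 c
      rw [LinearMap.comp_apply, hc, map_zero] at h2
      exact h2.symm
    refine hb (hle ?_)
    rw [Submodule.mem_colon_singleton, Submodule.mem_bot, ← LinearMap.map_smul_of_tower, hbc, map_zero]
  obtain ⟨e⟩ := nonempty_kaehler_quotient (A := A) (P := P) J
  let gq := e.toLinearMap.comp (g.baseChange P')
  have hgq : Function.Surjective gq :=
    e.surjective.comp (LinearMap.lTensor_surjective P' hg)
  have hfgq : Function.Exact fq gq := by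
    intro y
    constructor
    · intro hy
      exact (lTensor_exact P' hfg hg y).1 (e.injective (hy.trans (map_zero e).symm))
    · intro hy
      show e (g.baseChange P' y) = 0
      rw [show g.baseChange P' y = 0 from (lTensor_exact P' hfg hg y).2 hy, map_zero]
  obtain ⟨e₁⟩ := Groth.L04.LC.nonempty_ext_one_equiv f g hfi hg hfg P
  obtain ⟨e₂⟩ := Groth.L04.LC.nonempty_ext_one_equiv fq gq hfqi hgq hfgq P'
  obtain ⟨e₃⟩ := nonempty_coker_baseChange (J.map (algebraMap A P)) f
  exact ⟨(e₁.baseChange P P' _ _).trans (e₃.trans e₂.symm)⟩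

end Groth.L14.LciT1BC
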