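import Mathlib.RingTheory.Length
import Mathlib.RingTheory.SimpleModule.Basic
import Mathlib.RingTheory.Ideal.Quotient.Operations
import Mathlib.RingTheory.LocalRing.MaximalIdeal.Basic
import Mathlib.LinearAlgebra.Quotient.Basic
import Mathlib.Tactic.Ring
import Mathlib.Tactic.Abel

namespace Groth.L14.Len

variable {A : Type*} [CommRing A]

theorem split (J : Ideal A) (c : A) (K : Ideal A) (hK : ∀ z, c * z ∈ J ↔ z ∈ K) :
    Module.length A (A ⧸ J) = Module.length A (A ⧸ (J ⊔ Ideal.span {c})) + Module.length A (A ⧸ K) := by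
  let f : (A ⧸ K) →ₗ[A] (A ⧸ J) := Submodule.mapQ K J (LinearMap.mulLeft A c) (fun z hz => (hK z).mpr hz)
  have hle : J ≤ J ⊔ Ideal.span {c} := le_sup_left
  have hf : Function.Injective f := by
    rw [← LinearMap.ker_eq_bot, Submodule.eq_bot_iff]
    intro z hz
    obtain ⟨z, rfl⟩ := Submodule.mkQ_surjective _ z
    change (Submodule.Quotient.mk (c * z) : A ⧸ J) = 0 at hz
    rw [Submodule.Quotient.mk_eq_zero] at hz
    exact (Submodule.Quotient.mk_eq_zero K).mpr ((hK z).mp hz)
  have hfg : Function.Exact f (Submodule.factor hle) := by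
    intro z
    obtain ⟨z, rfl⟩ := Submodule.mkQ_surjective _ z
    constructor
    · intro hz
      change (Submodule.Quotient.mk z : A ⧸ (J ⊔ Ideal.span {c})) = 0 at hz
      rw [Submodule.Quotient.mk_eq_zero] at hz
      obtain ⟨u, hu, v, hv, rfl⟩ := Submodule.mem_sup.mp hz
      obtain ⟨w, rfl⟩ := Ideal.mem_span_singleton.mp hv
      refine ⟨Submodule.Quotient.mk w, ?_⟩
      show (Submodule.Quotient.mk (c * w) : A ⧸ J) = Submodule.Quotient.mk (u + c * w)
      rw [Submodule.Quotient.eq, show c * w - (u + c * w) = -u by ring]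
      exact J.neg_mem hu
    · rintro ⟨w, hw⟩
      obtain ⟨w, rfl⟩ := Submodule.mkQ_surjective _ w
      rw [← hw]
      show (Submodule.Quotient.mk (c * w) : A ⧸ (J ⊔ Ideal.span {c})) = 0
      rw [Submodule.Quotient.mk_eq_zero]
      exact Submodule.mem_sup_right (Ideal.mul_mem_right _ _ (Ideal.mem_span_singleton_self c))
  rw [Module.length_eq_add_of_exact f _ hf (Submodule.factor_surjective hle) hfg, add_comm]

theorem congr {J K : Ideal A} (h : J = K) : Module.length A (A ⧸ J) = Module.length A (A ⧸ K) := by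
  subst h; rfl

theorem pair_mul (b c d : A) (hreg : ∀ z, b ∣ c * z → b ∣ z) :
    Module.length A (A ⧸ Ideal.span {b, c * d}) =
      Module.length A (A ⧸ Ideal.span {b, c}) + Module.length A (A ⧸ Ideal.span {b, d}) := by
  rw [split (Ideal.span {b, c * d}) c (Ideal.span {b, d}) ?_]
  · congr 1
    apply congr
    apply le_antisymm
    · refine sup_le (Ideal.span_le.mpr ?_) (Ideal.span_mono (by simp))
      rintro z (rfl | rfl)
      · exact Ideal.subset_span (by simp)
      · exact Ideal.mul_mem_right _ _ (Ideal.subset_span (by simp))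
    · rw [Ideal.span_le]
      rintro z (rfl | rfl)
      · exact Submodule.mem_sup_left (Ideal.subset_span (by simp))
      · exact Submodule.mem_sup_right (Ideal.mem_span_singleton_self _)
  · intro z
    simp only [Ideal.mem_span_pair]
    constructor
    · rintro ⟨p, r, h⟩
      obtain ⟨w, hw⟩ := hreg (z - r * d) ⟨p, by rw [mul_sub, ← h]; ring⟩
      exact ⟨w, r, by rw [mul_comm w, ← hw]; ring⟩
    · rintro ⟨p, r, h⟩
      exact ⟨c * p, r, by rw [← h]; ring⟩

theorem pair_comm (b c : A) : Module.length A (A ⧸ Ideal.span {b, c}) = Module.length A (A ⧸ Ideal.span {c, b}) := by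
  rw [Set.pair_comm]

theorem pair_pow (b c : A) (hreg : ∀ z, b ∣ c * z → b ∣ z) (n : ℕ) :
    Module.length A (A ⧸ Ideal.span {b, c ^ n}) = (n : ℕ∞) * Module.length A (A ⧸ Ideal.span {b, c}) := by
  induction n with
  | zero =>
    rw [Nat.cast_zero, zero_mul, Module.length_eq_zero_iff, Submodule.Quotient.subsingleton_iff,
      Ideal.eq_top_iff_one]
    exact Ideal.subset_span (by simp)
  | succ n ih =>
    rw [pow_succ', pair_mul b c (c ^ n) hreg, ih, Nat.cast_succ, add_mul, one_mul, add_comm]

theorem maximal (m : Ideal A) [hm : m.IsMaximal] : Module.length A (A ⧸ m) = 1 := by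
  rw [Module.length_eq_one_iff, isSimpleModule_iff_isCoatom]
  exact hm.out

end Groth.L14.Len
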