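import Groth.Prelude.Def_W4c2arithlefschetzNode
import Mathlib.RingTheory.MvPowerSeries.Inverse
import Mathlib.RingTheory.MvPowerSeries.Equiv
import Mathlib.RingTheory.MvPowerSeries.NoZeroDivisors
import Mathlib.RingTheory.PowerSeries.NoZeroDivisors
import Mathlib.RingTheory.Filtration
import Mathlib.RingTheory.Noetherian.Basic
import Mathlib.Tactic

namespace Groth.L14.Node

open Finsupp

universe u
variable {B : Type u} [CommRing B] (a : B)

noncomputable abbrev x (i : Fin 2) : ArLef.NodeAlg B a := Ideal.Quotient.mk _ (MvPowerSeries.X i)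

noncomputable abbrev cst (b : B) : ArLef.NodeAlg B a := algebraMap B (ArLef.NodeAlg B a) b

theorem cst_eq (b : B) : cst a b = Ideal.Quotient.mk _ (MvPowerSeries.C b) := rfl

theorem x_mul_x (i : Fin 2) : x a i * x a (1 - i) = cst a a := by
  have h : x a 0 * x a 1 = cst a a := by
    rw [cst_eq, x, x, ← map_mul, Ideal.Quotient.eq]
    exact Ideal.mem_span_singleton_self _
  fin_cases i
  · simpa using h
  · rw [mul_comm]; simpa using h

/-- set the variable `i` to zero -/
noncomputable def q (i : Fin 2) : MvPowerSeries (Fin 2) B →+* PowerSeries B where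
  toFun f := PowerSeries.mk fun n => MvPowerSeries.coeff (single (1 - i) n) f
  map_zero' := by ext n; simp
  map_add' f g := by ext n; simp
  map_one' := by
    classical
    ext n
    simp only [PowerSeries.coeff_mk, MvPowerSeries.coeff_one, PowerSeries.coeff_one, Finsupp.single_eq_zero]
  map_mul' f g := by
    classical
    ext n
    simp only [PowerSeries.coeff_mk, PowerSeries.coeff_mul, MvPowerSeries.coeff_mul, Finsupp.antidiagonal_single,
      Finset.sum_map]
    exact Finset.sum_congr rfl fun _ _ => rfl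

theorem coeff_q (i : Fin 2) (f : MvPowerSeries (Fin 2) B) (n : ℕ) :
    PowerSeries.coeff n (q i f) = MvPowerSeries.coeff (single (1 - i) n) f := by
  simp [q]

theorem other_ne (i : Fin 2) : 1 - i ≠ i := by fin_cases i <;> decide

theorem q_X_self (i : Fin 2) : q i (MvPowerSeries.X i : MvPowerSeries (Fin 2) B) = 0 := by
  ext n
  classical
  rw [coeff_q, MvPowerSeries.coeff_X, if_neg, map_zero]
  intro h
  have := congrArg (fun m : Fin 2 →₀ ℕ => m i) h
  simp [other_ne i] at this

theorem q_X_other (i : Fin 2) : q i (MvPowerSeries.X (1 - i) : MvPowerSeries (Fin 2) B) = PowerSeries.X := by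
  ext n
  classical
  rw [coeff_q, MvPowerSeries.coeff_X, PowerSeries.coeff_X]
  simp only [(Finsupp.single_injective (1 - i)).eq_iff]

theorem q_C (i : Fin 2) (b : B) : q i (MvPowerSeries.C b) = PowerSeries.C b := by
  ext n
  classical
  rw [coeff_q, MvPowerSeries.coeff_C, PowerSeries.coeff_C]
  simp only [Finsupp.single_eq_zero]

theorem eq_single_of_zero {i : Fin 2} {m : Fin 2 →₀ ℕ} (hm : m i = 0) : m = single (1 - i) (m (1 - i)) := by
  ext j
  fin_cases i <;> fin_cases j <;> simp_all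

theorem X_dvd_of_q_eq_zero {i : Fin 2} {f : MvPowerSeries (Fin 2) B} (h : q i f = 0) :
    MvPowerSeries.X i ∣ f := by
  rw [MvPowerSeries.X_dvd_iff]
  intro m hm
  rw [eq_single_of_zero hm, ← coeff_q, h, map_zero]

/-- lift of a one-variable series -/
noncomputable def lift (i : Fin 2) (g : ℕ → B) : MvPowerSeries (Fin 2) B :=
  fun m => if m i = 0 then g (m (1 - i)) else 0

theorem q_lift (i : Fin 2) (g : ℕ → B) : q i (lift i g) = PowerSeries.mk g := by
  ext n
  rw [coeff_q, PowerSeries.coeff_mk]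
  show (if (single (1 - i) n) i = 0 then g ((single (1 - i) n) (1 - i)) else 0) = g n
  simp [other_ne i]

theorem q_rel (i : Fin 2) :
    q i (MvPowerSeries.X 0 * MvPowerSeries.X 1 - MvPowerSeries.C a : MvPowerSeries (Fin 2) B) = -PowerSeries.C a := by
  rw [map_sub, map_mul, q_C]
  fin_cases i
  · rw [show ((⟨0, by omega⟩ : Fin 2)) = 0 from rfl, q_X_self]; simp
  · rw [show ((⟨1, by omega⟩ : Fin 2)) = 1 from rfl, q_X_self]; simp

/-- restriction to the branch `x i = 0` of the closed fibre -/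
noncomputable def br (i : Fin 2) : ArLef.NodeAlg B a →+* PowerSeries (B ⧸ Ideal.span ({a} : Set B)) :=
  Ideal.Quotient.lift _ ((PowerSeries.map (Ideal.Quotient.mk _)).comp (q i)) (by
    intro z hz
    obtain ⟨c, rfl⟩ := Ideal.mem_span_singleton.mp hz
    simp [q_rel, Ideal.Quotient.eq_zero_iff_mem.mpr (Ideal.mem_span_singleton_self a)])

theorem br_mk (i : Fin 2) (f : MvPowerSeries (Fin 2) B) :
    br a i (Ideal.Quotient.mk _ f) = PowerSeries.map (Ideal.Quotient.mk _) (q i f) := rfl

theorem br_x_self (i : Fin 2) : br a i (x a i) = 0 := by rw [br_mk, q_X_self, map_zero]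

theorem br_x_other (i : Fin 2) : br a i (x a (1 - i)) = PowerSeries.X := by
  rw [br_mk, q_X_other, PowerSeries.map_X]

theorem br_cst (i : Fin 2) (b : B) :
    br a i (cst a b) = PowerSeries.C (Ideal.Quotient.mk _ b) := by
  rw [cst_eq, br_mk, q_C, PowerSeries.map_C]

theorem br_surjective (i : Fin 2) : Function.Surjective (br a i) := by
  intro g
  choose c hc using fun n => Ideal.Quotient.mk_surjective (PowerSeries.coeff n g)
  refine ⟨Ideal.Quotient.mk _ (lift i c), ?_⟩
  ext n
  rw [br_mk, q_lift]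
  simp [hc]

theorem br_eq_zero_iff (i : Fin 2) (z : ArLef.NodeAlg B a) : br a i z = 0 ↔ x a i ∣ z := by
  constructor
  · obtain ⟨f, rfl⟩ := Ideal.Quotient.mk_surjective z
    intro h
    have h' : ∀ n, ∃ c, PowerSeries.coeff n (q i f) = a * c := by
      intro n
      have := congrArg (PowerSeries.coeff n) h
      rw [br_mk, PowerSeries.coeff_map, map_zero, Ideal.Quotient.eq_zero_iff_mem,
        Ideal.mem_span_singleton] at this
      exact this
    choose c hc using h'
    obtain ⟨H, hH⟩ := X_dvd_of_q_eq_zero (i := i) (f := f - MvPowerSeries.C a * lift i c) (by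
      rw [map_sub, map_mul, q_C, q_lift, sub_eq_zero]
      ext n
      rw [hc, PowerSeries.coeff_C_mul, PowerSeries.coeff_mk])
    rw [sub_eq_iff_eq_add] at hH
    rw [hH, map_add, map_mul, map_mul, ← cst_eq, ← x_mul_x a i]
    exact dvd_add (dvd_mul_right _ _) (Dvd.intro _ (mul_assoc _ _ _).symm)
  · rintro ⟨c, rfl⟩
    rw [map_mul, br_x_self, zero_mul]

theorem decomp (z : ArLef.NodeAlg B a) : ∃ c g h, z = cst a c + x a 0 * g + x a 1 * h := by
  obtain ⟨f, rfl⟩ := Ideal.Quotient.mk_surjective z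
  let f0 : MvPowerSeries (Fin 2) B := lift 0 (fun n => MvPowerSeries.coeff (single 1 n) f)
  obtain ⟨G, hG⟩ := X_dvd_of_q_eq_zero (i := 0) (f := f - f0) (by
    rw [map_sub, q_lift, sub_eq_zero]; ext n; simp [coeff_q])
  obtain ⟨H, hH⟩ := X_dvd_of_q_eq_zero (i := 1) (f := f0 - MvPowerSeries.C (MvPowerSeries.coeff 0 f)) (by
    rw [map_sub, q_C, sub_eq_zero]; ext n
    classical
    rw [coeff_q, PowerSeries.coeff_C]
    show (if (single ((1 : Fin 2) - 1) n) 0 = 0 then _ else _) = _
    rcases n with _ | n <;> simp)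
  refine ⟨MvPowerSeries.coeff 0 f, Ideal.Quotient.mk _ G, Ideal.Quotient.mk _ H, ?_⟩
  rw [cst_eq, x, x, ← map_mul, ← map_mul, ← map_add, ← map_add]
  congr 1
  rw [← hG, ← hH]; ring

theorem x_not_isUnit [Nontrivial (B ⧸ Ideal.span ({a} : Set B))] (i : Fin 2) : ¬ IsUnit (x a i) := by
  intro h
  have := h.map (br a i)
  rw [br_x_self] at this
  exact not_isUnit_zero this

theorem x_prime [IsDomain (B ⧸ Ideal.span ({a} : Set B))] (i : Fin 2) (hx : x a i ≠ 0) : Prime (x a i) := by
  refine ⟨hx, x_not_isUnit a i, fun p r h => ?_⟩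
  rw [← br_eq_zero_iff, map_mul, mul_eq_zero] at h
  rcases h with h | h
  · exact Or.inl ((br_eq_zero_iff a i p).mp h)
  · exact Or.inr ((br_eq_zero_iff a i r).mp h)

theorem x_other_not_dvd [Nontrivial (B ⧸ Ideal.span ({a} : Set B))] (i : Fin 2) : ¬ x a i ∣ x a (1 - i) := by
  rw [← br_eq_zero_iff, br_x_other]
  exact PowerSeries.X_ne_zero

theorem x_ne_zero [Nontrivial (B ⧸ Ideal.span ({a} : Set B))] (i : Fin 2) : x a i ≠ 0 := fun h => by
  have := x_other_not_dvd a (1 - i)
  rw [sub_sub_cancel, h] at this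
  exact this (dvd_zero _)

theorem x_regular [IsDomain B] (ha : a ≠ 0) (i : Fin 2) (z : ArLef.NodeAlg B a) (h : x a i * z = 0) : z = 0 := by
  obtain ⟨f, rfl⟩ := Ideal.Quotient.mk_surjective z
  rw [x, ← map_mul, Ideal.Quotient.eq_zero_iff_mem, Ideal.mem_span_singleton] at h
  obtain ⟨g, hg⟩ := h
  have hq := congrArg (q i) hg
  rw [map_mul, q_X_self, zero_mul, map_mul, q_rel, eq_comm, neg_mul, neg_eq_zero] at hq
  have hC : (PowerSeries.C a : PowerSeries B) ≠ 0 := fun h => ha (by simpa using congrArg (PowerSeries.coeff 0) h)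
  obtain ⟨g', rfl⟩ := X_dvd_of_q_eq_zero ((mul_eq_zero.mp hq).resolve_left hC)
  have hX : (MvPowerSeries.X i : MvPowerSeries (Fin 2) B) ≠ 0 := fun h => by
    classical
    simpa [MvPowerSeries.coeff_X] using congrArg (MvPowerSeries.coeff (single i 1)) h
  rw [Ideal.Quotient.eq_zero_iff_mem, Ideal.mem_span_singleton]
  exact ⟨g', mul_left_cancel₀ hX (by rw [hg]; ring)⟩

instance instIsLocalRing [IsLocalRing B] [Nontrivial (B ⧸ Ideal.span ({a} : Set B))] :
    IsLocalRing (ArLef.NodeAlg B a) :=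
  haveI : Nontrivial (ArLef.NodeAlg B a) := (br a 0).domain_nontrivial
  IsLocalRing.of_surjective' (Ideal.Quotient.mk _) Ideal.Quotient.mk_surjective

theorem isDomain [IsDomain B] [IsLocalRing B] [IsNoetherianRing B] [IsDomain (B ⧸ Ideal.span ({a} : Set B))]
    (ha : a ≠ 0) : IsDomain (ArLef.NodeAlg B a) := by
  have hp := x_prime a 0 (x_ne_zero a 0)
  have key : ∀ z : ArLef.NodeAlg B a, z ≠ 0 → ∃ (n : ℕ) (z' : ArLef.NodeAlg B a), z = x a 0 ^ n * z' ∧ ¬ x a 0 ∣ z' := by
    intro z hz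
    by_contra hc
    push Not at hc
    apply hz
    have hmem : ∀ n : ℕ, x a 0 ^ n ∣ z := by
      intro n
      induction n with
      | zero => simp
      | succ n ih =>
        obtain ⟨z', hz'⟩ := ih
        obtain ⟨w, rfl⟩ := hc n z' hz'
        exact ⟨w, by rw [hz', pow_succ, mul_assoc]⟩
    have : z ∈ ⨅ n : ℕ, Ideal.span {x a 0} ^ n := by
      rw [Submodule.mem_iInf]
      intro n
      rw [Ideal.span_singleton_pow]
      exact Ideal.mem_span_singleton.mpr (hmem n)
    rwa [Ideal.iInf_pow_eq_bot_of_isLocalRing _ (Ideal.span_singleton_eq_top.not.mpr (x_not_isUnit a 0)),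
      Ideal.mem_bot] at this
  haveI : Nontrivial (ArLef.NodeAlg B a) := (br a 0).domain_nontrivial
  haveI : NoZeroDivisors (ArLef.NodeAlg B a) := ⟨fun {p r} h => by
    by_contra hc
    push Not at hc
    obtain ⟨n, p', rfl, hp'⟩ := key p hc.1
    obtain ⟨m, r', rfl, hr'⟩ := key r hc.2
    have h2 : x a 0 ^ (n + m) * (p' * r') = 0 := by rw [← h, pow_add]; ring
    have h3 : p' * r' = 0 := by
      clear h
      generalize n + m = k at h2
      induction k with
      | zero => simpa using h2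
      | succ k ih =>
        apply ih
        exact x_regular a ha 0 _ (by rw [← mul_assoc, ← pow_succ']; exact h2)
    rcases hp.2.2 p' r' (by rw [h3]; exact dvd_zero _) with h4 | h4
    · exact hp' h4
    · exact hr' h4⟩
  exact NoZeroDivisors.to_isDomain _

theorem maximalIdeal_eq [IsLocalRing B] [Nontrivial (B ⧸ Ideal.span ({a} : Set B))]
    (hmax : IsLocalRing.maximalIdeal B = Ideal.span {a}) :
    IsLocalRing.maximalIdeal (ArLef.NodeAlg B a) = Ideal.span {x a 0, x a 1} := by
  have hle : Ideal.span {x a 0, x a 1} ≤ IsLocalRing.maximalIdeal (ArLef.NodeAlg B a) := by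
    rw [Ideal.span_le]
    rintro z (rfl | rfl) <;> exact x_not_isUnit a _
  refine le_antisymm (fun z hz => ?_) hle
  obtain ⟨c, g, h, rfl⟩ := decomp a z
  have h1 : x a 0 * g ∈ Ideal.span {x a 0, x a 1} := Ideal.mul_mem_right _ _ (Ideal.subset_span (by simp))
  have h2 : x a 1 * h ∈ Ideal.span {x a 0, x a 1} := Ideal.mul_mem_right _ _ (Ideal.subset_span (by simp))
  have hc : cst a c ∈ IsLocalRing.maximalIdeal (ArLef.NodeAlg B a) := by
    have := Ideal.sub_mem (IsLocalRing.maximalIdeal (ArLef.NodeAlg B a))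
      (Ideal.sub_mem (IsLocalRing.maximalIdeal (ArLef.NodeAlg B a)) hz (hle h2)) (hle h1)
    simpa using this
  have hc2 : c ∈ IsLocalRing.maximalIdeal B := fun hu => hc (hu.map _)
  rw [hmax, Ideal.mem_span_singleton] at hc2
  obtain ⟨c', rfl⟩ := hc2
  refine Ideal.add_mem _ (Ideal.add_mem _ ?_ h1) h2
  rw [cst, map_mul, ← show x a 0 * x a (1 - 0) = algebraMap B (ArLef.NodeAlg B a) a from x_mul_x a 0]
  exact Ideal.mul_mem_right _ _ (Ideal.mul_mem_right _ _ (Ideal.subset_span (by simp)))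

variable {a}

theorem fixIdeal_le [IsLocalRing B] [IsNoetherianRing B] [Nontrivial (B ⧸ Ideal.span ({a} : Set B))]
    (σ : ArLef.NodeAlg B a ≃+* ArLef.NodeAlg B a) (I : Ideal (ArLef.NodeAlg B a))
    (hB : ∀ b, σ (cst a b) - cst a b ∈ I) (hx : ∀ i, σ (x a i) - x a i ∈ I) :
    ArLef.fixIdeal σ ≤ I := by
  set m := IsLocalRing.maximalIdeal (ArLef.NodeAlg B a) with hm
  let S : Subring (ArLef.NodeAlg B a) :=
    { carrier := {r | σ r - r ∈ I}
      mul_mem' := fun {p r} hp hr => by
        show σ (p * r) - p * r ∈ I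
        rw [map_mul, show σ p * σ r - p * r = σ p * (σ r - r) + (σ p - p) * r by ring]
        exact I.add_mem (I.mul_mem_left _ hr) (I.mul_mem_right _ hp)
      one_mem' := by show σ 1 - 1 ∈ I; simp
      add_mem' := fun {p r} hp hr => by
        show σ (p + r) - (p + r) ∈ I
        rw [map_add, add_sub_add_comm]; exact I.add_mem hp hr
      zero_mem' := by show σ 0 - 0 ∈ I; simp
      neg_mem' := fun {p} hp => by
        show σ (-p) - -p ∈ I
        rw [map_neg, show -σ p - -p = -(σ p - p) by ring]; exact I.neg_mem hp }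
  have happrox : ∀ (n : ℕ) (z : ArLef.NodeAlg B a), ∃ s ∈ S, z - s ∈ m ^ n := by
    intro n
    induction n with
    | zero => intro z; exact ⟨0, S.zero_mem, by simp⟩
    | succ n ih =>
      intro z
      obtain ⟨c, g, h, rfl⟩ := decomp a z
      obtain ⟨s, hs, hs'⟩ := ih g
      obtain ⟨t, ht, ht'⟩ := ih h
      refine ⟨cst a c + x a 0 * s + x a 1 * t,
        S.add_mem (S.add_mem (hB c) (S.mul_mem (hx 0) hs)) (S.mul_mem (hx 1) ht), ?_⟩
      rw [show cst a c + x a 0 * g + x a 1 * h - (cst a c + x a 0 * s + x a 1 * t)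
        = x a 0 * (g - s) + x a 1 * (h - t) by ring, pow_succ']
      exact Ideal.add_mem _ (Ideal.mul_mem_mul (x_not_isUnit a 0) hs') (Ideal.mul_mem_mul (x_not_isUnit a 1) ht')
  have hmσ : ∀ (n : ℕ), ∀ z ∈ m ^ n, σ z ∈ m ^ n := by
    intro n z hz
    have h1 : Ideal.map (σ : ArLef.NodeAlg B a →+* ArLef.NodeAlg B a) m ≤ m := by
      rw [Ideal.map_le_iff_le_comap]
      intro y hy hu
      exact hy ((isUnit_map_iff σ y).mp hu)
    have h2 := Ideal.mem_map_of_mem (σ : ArLef.NodeAlg B a →+* ArLef.NodeAlg B a) hz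
    rw [Ideal.map_pow] at h2
    exact Ideal.pow_right_mono h1 n h2
  rw [ArLef.fixIdeal, Ideal.span_le]
  rintro _ ⟨r, rfl⟩
  show σ r - r ∈ I
  rw [← Ideal.Quotient.eq_zero_iff_mem]
  have hall : Ideal.Quotient.mk I (σ r - r) ∈ (⨅ n : ℕ, m ^ n • (⊤ : Submodule (ArLef.NodeAlg B a) (ArLef.NodeAlg B a ⧸ I))) := by
    rw [Submodule.mem_iInf]
    intro n
    obtain ⟨s, hs, hs'⟩ := happrox n r
    have : Ideal.Quotient.mk I (σ r - r) = (σ (r - s) - (r - s)) • (1 : ArLef.NodeAlg B a ⧸ I) := by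
      have hsm : ∀ c : ArLef.NodeAlg B a, c • (Ideal.Quotient.mk I 1) = Ideal.Quotient.mk I (c * 1) := fun c => rfl
      rw [← map_one (Ideal.Quotient.mk I), hsm, mul_one, Ideal.Quotient.eq]
      rw [show σ r - r - (σ (r - s) - (r - s)) = σ s - s by rw [map_sub]; ring]
      exact hs
    rw [this]
    exact Submodule.smul_mem_smul ((m ^ n).sub_mem (hmσ n _ hs') hs') Submodule.mem_top
  rwa [Ideal.iInf_pow_smul_eq_bot_of_isLocalRing (M := ArLef.NodeAlg B a ⧸ I) _
    (IsLocalRing.maximalIdeal.isMaximal _).ne_top, Submodule.mem_bot] at hall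

end Groth.L14.Node
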