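import Groth.Agent.L14.Node
import Groth.Agent.L14.Len
import Mathlib.RingTheory.DiscreteValuationRing.Basic
import Mathlib.RingTheory.Ideal.Colon

namespace Groth.L14.Node

open Ideal

universe u

section general
variable {N : Type*} [CommRing N] [IsDomain N]

theorem core (t e : N) (ht : Prime t) (he : Prime e) (hte : ¬ t ∣ e)
    (a b c w : N) (hw : IsUnit w) (p q : ℕ) (hp : 1 ≤ p) (hq : 1 ≤ q)
    (hrel : b * w = c * (t ^ (p - 1) * e ^ (q - 1)) - a) (htb : ¬ t ∣ b) (hea : ¬ e ∣ a)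
    (hmax : (Ideal.span {t, e} : Ideal N).IsMaximal) :
    Module.length N (N ⧸ Ideal.span {t ^ p * e ^ q, a * t, b * e}) =
      (p : ℕ∞) * Module.length N (N ⧸ Ideal.span {t, b}) + (q : ℕ∞) * Module.length N (N ⧸ Ideal.span {e, a}) + 1 := by
  obtain ⟨p', rfl⟩ : ∃ p', p = p' + 1 := ⟨p - 1, by omega⟩
  obtain ⟨q', rfl⟩ : ∃ q', q = q' + 1 := ⟨q - 1, by omega⟩
  simp only [Nat.add_sub_cancel] at hrel
  obtain ⟨w, rfl⟩ := hw
  set J := Ideal.span ({t ^ (p' + 1) * e ^ (q' + 1), a * t, b * e} : Set N) with hJ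
  have hbe : b * e ∈ Ideal.span {a, t ^ p' * e ^ (q' + 1)} := by
    rw [Ideal.mem_span_pair]
    refine ⟨-e * (↑w⁻¹ : N), c * (↑w⁻¹ : N), ?_⟩
    calc -e * (↑w⁻¹ : N) * a + c * (↑w⁻¹ : N) * (t ^ p' * e ^ (q' + 1))
        = (c * (t ^ p' * e ^ q') - a) * e * (↑w⁻¹ : N) := by ring
      _ = b * e * ((w : N) * (↑w⁻¹ : N)) := by rw [← hrel]; ring
      _ = b * e := by rw [Units.mul_inv, mul_one]
  rw [Len.split J t (Ideal.span {a, t ^ p' * e ^ (q' + 1)}) ?_]
  swap
  · intro z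
    constructor
    · intro hz
      rw [hJ, Ideal.mem_span_insert] at hz
      obtain ⟨u, y, hy, hzy⟩ := hz
      obtain ⟨v, w', hy'⟩ := Ideal.mem_span_pair.mp hy
      subst hy'
      obtain ⟨w'', rfl⟩ : t ∣ w' := by
        have hd : t ∣ w' * (b * e) :=
          ⟨z - u * (t ^ p' * e ^ (q' + 1)) - v * a, by linear_combination -hzy⟩
        rcases ht.2.2 _ _ hd with h | h
        · exact h
        · rcases ht.2.2 _ _ h with h | h
          · exact absurd h htb
          · exact absurd h hte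
      have hz' : z = v * a + u * (t ^ p' * e ^ (q' + 1)) + w'' * (b * e) := by
        apply mul_left_cancel₀ ht.1
        linear_combination hzy
      rw [hz']
      exact Ideal.add_mem _ (Ideal.mem_span_pair.mpr ⟨v, u, rfl⟩) (Ideal.mul_mem_left _ _ hbe)
    · intro hz
      obtain ⟨v, u, rfl⟩ := Ideal.mem_span_pair.mp hz
      rw [show t * (v * a + u * (t ^ p' * e ^ (q' + 1))) = v * (a * t) + u * (t ^ (p' + 1) * e ^ (q' + 1)) by ring, hJ]
      exact Ideal.add_mem _ (Ideal.mul_mem_left _ _ (Ideal.subset_span (by simp)))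
        (Ideal.mul_mem_left _ _ (Ideal.subset_span (by simp)))
  have h1 : J ⊔ Ideal.span {t} = Ideal.span {t, b * e} := by
    apply le_antisymm
    · refine sup_le ?_ (Ideal.span_mono (by simp))
      rw [hJ, Ideal.span_le]
      rintro z (rfl | rfl | rfl)
      · rw [SetLike.mem_coe, pow_succ', mul_assoc]; exact Ideal.mul_mem_right _ _ (Ideal.subset_span (by simp))
      · exact Ideal.mul_mem_left _ _ (Ideal.subset_span (by simp))
      · exact Ideal.subset_span (by simp)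
    · rw [Ideal.span_le]
      rintro z (rfl | rfl)
      · exact Submodule.mem_sup_right (Ideal.mem_span_singleton_self _)
      · exact Submodule.mem_sup_left (Ideal.subset_span (by simp))
  have hregb : ∀ z, t ∣ b * z → t ∣ z := fun z hz => (ht.2.2 _ _ hz).resolve_left htb
  have hmaxlen : Module.length N (N ⧸ Ideal.span {t, e}) = 1 := Len.maximal _
  have hae : ∀ z, a ∣ e * z → a ∣ z := by
    rintro z ⟨y, hy⟩
    obtain ⟨y', rfl⟩ := (he.2.2 a y ⟨z, hy.symm⟩).resolve_left hea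
    exact ⟨y', mul_left_cancel₀ he.1 (by linear_combination hy)⟩
  rw [Len.congr h1, Len.pair_mul t b e hregb, hmaxlen]
  rcases Nat.eq_zero_or_pos p' with rfl | hp'
  · rw [pow_zero, one_mul, Len.pair_pow a e hae, Len.pair_comm a e]
    simp only [Nat.cast_add, Nat.cast_one, Nat.cast_zero, zero_add, one_mul]
    ring
  · have hta : ¬ t ∣ a := by
      intro h
      apply htb
      have : t ∣ b * (w : N) := by
        rw [hrel]
        exact dvd_sub (Dvd.dvd.mul_left (Dvd.dvd.mul_right (dvd_pow_self t (by omega)) _) _) h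
      exact (ht.2.2 _ _ this).resolve_right (fun h2 => ht.2.1 (isUnit_of_dvd_unit h2 w.isUnit))
    have hat : ∀ z, a ∣ t * z → a ∣ z := by
      rintro z ⟨y, hy⟩
      obtain ⟨y', rfl⟩ := (ht.2.2 a y ⟨z, hy.symm⟩).resolve_left hta
      exact ⟨y', mul_left_cancel₀ ht.1 (by linear_combination hy)⟩
    have hatp : ∀ z, a ∣ t ^ p' * z → a ∣ z := by
      intro z hz
      clear hrel hp' hbe hJ h1 J
      induction p' with
      | zero => simpa using hz
      | succ n ih => exact ih (by omega) (hat _ (by rwa [← mul_assoc, ← pow_succ']))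
    rw [Len.pair_mul a _ _ hatp, Len.pair_pow a t hat, Len.pair_pow a e hae, Len.pair_comm a e]
    have hs : Ideal.span ({a, t} : Set N) = Ideal.span {t, b} := by
      obtain ⟨p'', rfl⟩ : ∃ p'', p' = p'' + 1 := ⟨p' - 1, by omega⟩
      apply le_antisymm <;> rw [Ideal.span_le] <;> rintro z (rfl | rfl)
      · rw [SetLike.mem_coe, Ideal.mem_span_pair]
        exact ⟨c * (t ^ p'' * e ^ q'), -(w : N), by linear_combination -hrel⟩
      · exact Ideal.subset_span (by simp)
      · exact Ideal.subset_span (by simp)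
      · rw [SetLike.mem_coe, Ideal.mem_span_pair]
        refine ⟨-(↑w⁻¹ : N), c * (↑w⁻¹ : N) * (t ^ p'' * e ^ q'), ?_⟩
        calc -(↑w⁻¹ : N) * a + c * (↑w⁻¹ : N) * (t ^ p'' * e ^ q') * t
            = (c * (t ^ (p'' + 1) * e ^ q') - a) * (↑w⁻¹ : N) := by ring
          _ = z * ((w : N) * (↑w⁻¹ : N)) := by rw [← hrel]; ring
          _ = z := by rw [Units.mul_inv, mul_one]
    rw [Len.congr hs]
    simp only [Nat.cast_add, Nat.cast_one]
    ring

theorem core2 (t e : N) (ht : Prime t) (hte : ¬ t ∣ e)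
    (a b c w : N) (hw : IsUnit w) (p : ℕ) (hp : 1 ≤ p)
    (hrel : b * w = c * t ^ (p - 1) - e * a) (htb : ¬ t ∣ b)
    (hmax : (Ideal.span {t, e} : Ideal N).IsMaximal) :
    Module.length N (N ⧸ Ideal.span {t ^ p, a * t, b}) + ((p - 1 : ℕ) : ℕ∞) =
      (p : ℕ∞) * Module.length N (N ⧸ Ideal.span {t, b}) := by
  obtain ⟨p', rfl⟩ : ∃ p', p = p' + 1 := ⟨p - 1, by omega⟩
  simp only [Nat.add_sub_cancel] at hrel ⊢
  obtain ⟨w, rfl⟩ := hw
  set J := Ideal.span ({t ^ (p' + 1), a * t, b} : Set N) with hJ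
  have hb : b ∈ Ideal.span {a, t ^ p'} := by
    rw [Ideal.mem_span_pair]
    refine ⟨-e * (↑w⁻¹ : N), c * (↑w⁻¹ : N), ?_⟩
    calc -e * (↑w⁻¹ : N) * a + c * (↑w⁻¹ : N) * t ^ p'
        = (c * t ^ p' - e * a) * (↑w⁻¹ : N) := by ring
      _ = b * ((w : N) * (↑w⁻¹ : N)) := by rw [← hrel]; ring
      _ = b := by rw [Units.mul_inv, mul_one]
  rw [Len.split J t (Ideal.span {a, t ^ p'}) ?_]
  swap
  · intro z
    constructor
    · intro hz
      rw [hJ, Ideal.mem_span_insert] at hz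
      obtain ⟨u, y, hy, hzy⟩ := hz
      obtain ⟨v, w', hy'⟩ := Ideal.mem_span_pair.mp hy
      subst hy'
      obtain ⟨w'', rfl⟩ : t ∣ w' := by
        have hd : t ∣ w' * b := ⟨z - u * t ^ p' - v * a, by linear_combination -hzy⟩
        exact (ht.2.2 _ _ hd).resolve_right htb
      have hz' : z = v * a + u * t ^ p' + w'' * b := by
        apply mul_left_cancel₀ ht.1
        linear_combination hzy
      rw [hz']
      exact Ideal.add_mem _ (Ideal.mem_span_pair.mpr ⟨v, u, rfl⟩) (Ideal.mul_mem_left _ _ hb)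
    · intro hz
      obtain ⟨v, u, rfl⟩ := Ideal.mem_span_pair.mp hz
      rw [show t * (v * a + u * t ^ p') = v * (a * t) + u * t ^ (p' + 1) by ring, hJ]
      exact Ideal.add_mem _ (Ideal.mul_mem_left _ _ (Ideal.subset_span (by simp)))
        (Ideal.mul_mem_left _ _ (Ideal.subset_span (by simp)))
  have h1 : J ⊔ Ideal.span {t} = Ideal.span {t, b} := by
    apply le_antisymm
    · refine sup_le ?_ (Ideal.span_mono (by simp))
      rw [hJ, Ideal.span_le]
      rintro z (rfl | rfl | rfl)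
      · rw [SetLike.mem_coe, pow_succ']; exact Ideal.mul_mem_right _ _ (Ideal.subset_span (by simp))
      · exact Ideal.mul_mem_left _ _ (Ideal.subset_span (by simp))
      · exact Ideal.subset_span (by simp)
    · rw [Ideal.span_le]
      rintro z (rfl | rfl)
      · exact Submodule.mem_sup_right (Ideal.mem_span_singleton_self _)
      · exact Submodule.mem_sup_left (Ideal.subset_span (by simp))
  rw [Len.congr h1]
  rcases Nat.eq_zero_or_pos p' with rfl | hp'
  · have h0 : Module.length N (N ⧸ Ideal.span {a, t ^ 0}) = 0 := by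
      rw [Module.length_eq_zero_iff, Submodule.Quotient.subsingleton_iff, Ideal.eq_top_iff_one]
      exact Ideal.subset_span (by simp)
    rw [h0]; simp
  · have hta : ¬ t ∣ a := by
      intro h
      apply htb
      have : t ∣ b * (w : N) := by
        rw [hrel]
        exact dvd_sub (Dvd.dvd.mul_left (dvd_pow_self t (by omega)) _) (h.mul_left e)
      exact (ht.2.2 _ _ this).resolve_right (fun h2 => ht.2.1 (isUnit_of_dvd_unit h2 w.isUnit))
    have hat : ∀ z, a ∣ t * z → a ∣ z := by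
      rintro z ⟨y, hy⟩
      obtain ⟨y', rfl⟩ := (ht.2.2 a y ⟨z, hy.symm⟩).resolve_left hta
      exact ⟨y', mul_left_cancel₀ ht.1 (by linear_combination hy)⟩
    have hs : Ideal.span ({t, b} : Set N) = Ideal.span {t, e * a} := by
      obtain ⟨p'', rfl⟩ : ∃ p'', p' = p'' + 1 := ⟨p' - 1, by omega⟩
      apply le_antisymm <;> rw [Ideal.span_le] <;> rintro z (rfl | rfl)
      · exact Ideal.subset_span (by simp)
      · rw [SetLike.mem_coe, Ideal.mem_span_pair]
        refine ⟨c * (↑w⁻¹ : N) * t ^ p'', -(↑w⁻¹ : N), ?_⟩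
        calc c * (↑w⁻¹ : N) * t ^ p'' * t + -(↑w⁻¹ : N) * (e * a)
            = (c * t ^ (p'' + 1) - e * a) * (↑w⁻¹ : N) := by ring
          _ = z * ((w : N) * (↑w⁻¹ : N)) := by rw [← hrel]; ring
          _ = z := by rw [Units.mul_inv, mul_one]
      · exact Ideal.subset_span (by simp)
      · rw [SetLike.mem_coe, Ideal.mem_span_pair]
        exact ⟨c * t ^ p'', -(w : N), by linear_combination -hrel⟩
    have hs1 : Module.length N (N ⧸ Ideal.span {t, b}) = 1 + Module.length N (N ⧸ Ideal.span {a, t}) := by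
      rw [Len.congr hs, Len.pair_mul t e a (fun z hz => (ht.2.2 _ _ hz).resolve_left hte), Len.maximal,
        Len.pair_comm t a]
    rw [Len.pair_pow a t hat, hs1]
    simp only [Nat.cast_add, Nat.cast_one]
    ring

theorem colon_eq (G : N) (hG : G ≠ 0) (S : Set N) :
    (Ideal.span ((fun s => G * s) '' S)).colon ({G} : Set N) = Ideal.span S := by
  have h : Ideal.span ((fun s => G * s) '' S) = Ideal.span {G} * Ideal.span S := by
    rw [Ideal.span_mul_span', Set.singleton_mul]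
  ext z
  rw [Submodule.mem_colon_singleton, h, smul_eq_mul, Ideal.mem_span_singleton_mul]
  constructor
  · rintro ⟨y, hy, hyz⟩
    rwa [show z = y from mul_left_cancel₀ hG (by linear_combination -hyz)]
  · intro hz; exact ⟨z, hz, mul_comm G z⟩

end general

variable {B : Type u} [CommRing B] [IsDomain B] [IsDiscreteValuationRing B] {π : B}

theorem hyps (hπ : Irreducible π) :
    IsDomain (B ⧸ Ideal.span ({π} : Set B)) ∧ IsLocalRing.maximalIdeal B = Ideal.span {π} := by
  have h : IsLocalRing.maximalIdeal B = Ideal.span {π} := hπ.maximalIdeal_eq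
  refine ⟨?_, h⟩
  rw [Ideal.Quotient.isDomain_iff_prime, ← h]
  infer_instance

/-- basic package -/
structure Pack (B : Type u) [CommRing B] (π : B) : Prop where
  dom : IsDomain (ArLef.NodeAlg B π)
  pt : Prime (ArLef.NodeAlg.t π)
  pe : Prime (ArLef.NodeAlg.e π)
  te : ¬ ArLef.NodeAlg.t π ∣ ArLef.NodeAlg.e π
  et : ¬ ArLef.NodeAlg.e π ∣ ArLef.NodeAlg.t π
  mul : ArLef.NodeAlg.t π * ArLef.NodeAlg.e π = algebraMap B (ArLef.NodeAlg B π) π
  max : (Ideal.span {ArLef.NodeAlg.t π, ArLef.NodeAlg.e π}).IsMaximal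
  noeth : IsNoetherianRing (ArLef.NodeAlg B π)

theorem pack (hπ : Irreducible π) : Pack B π := by
  obtain ⟨hd, hm⟩ := hyps hπ
  haveI := hd
  haveI := isDomain π hπ.ne_zero
  exact {
    dom := inferInstance
    pt := x_prime π 0 (x_ne_zero π 0)
    pe := x_prime π 1 (x_ne_zero π 1)
    te := by have := x_other_not_dvd π 0; rwa [sub_zero] at this
    et := by have := x_other_not_dvd π 1; rwa [sub_self] at this
    mul := by have := x_mul_x π 0; rwa [sub_zero] at this
    max := by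
      show (Ideal.span {x π 0, x π 1}).IsMaximal
      rw [← maximalIdeal_eq π hm]; infer_instance
    noeth := inferInstance }

theorem dichotomy (hπ : Irreducible π) (σ : ArLef.NodeAlg B π ≃+* ArLef.NodeAlg B π)
    (hσ : Associated (σ (algebraMap B (ArLef.NodeAlg B π) π)) (algebraMap B (ArLef.NodeAlg B π) π)) :
    (∃ α β : (ArLef.NodeAlg B π)ˣ, σ (ArLef.NodeAlg.t π) = (α : ArLef.NodeAlg B π) * ArLef.NodeAlg.t π ∧ σ (ArLef.NodeAlg.e π) = (β : ArLef.NodeAlg B π) * ArLef.NodeAlg.e π) ∨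
      (∃ α β : (ArLef.NodeAlg B π)ˣ, σ (ArLef.NodeAlg.t π) = (α : ArLef.NodeAlg B π) * ArLef.NodeAlg.e π ∧ σ (ArLef.NodeAlg.e π) = (β : ArLef.NodeAlg B π) * ArLef.NodeAlg.t π) := by
  obtain ⟨hdom, pt, pe, -, -, hmul, -, -⟩ := pack hπ
  haveI := hdom
  set t := ArLef.NodeAlg.t π
  set e := ArLef.NodeAlg.e π
  have hst : Prime (σ t) := (MulEquiv.prime_iff σ.toMulEquiv).mpr pt
  rw [← hmul, map_mul] at hσ
  have hdvd : σ t ∣ t * e := (dvd_mul_right _ _).trans hσ.dvd
  rcases hst.2.2 _ _ hdvd with h | h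
  · obtain ⟨u, hu⟩ := (hst.associated_of_dvd pt h).symm
    have h2 : Associated (σ e) e := Associated.of_mul_left hσ (hst.associated_of_dvd pt h) hst.1
    obtain ⟨v, hv⟩ := h2.symm
    exact Or.inl ⟨u, v, by rw [← hu, mul_comm], by rw [← hv, mul_comm]⟩
  · obtain ⟨u, hu⟩ := (hst.associated_of_dvd pe h).symm
    have h2 : Associated (σ e) t := Associated.of_mul_left (by rwa [mul_comm e t]) (hst.associated_of_dvd pe h) hst.1
    obtain ⟨v, hv⟩ := h2.symm
    exact Or.inr ⟨u, v, by rw [← hu, mul_comm], by rw [← hv, mul_comm]⟩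

theorem fix_eq (hπ : Irreducible π) (σ : ArLef.NodeAlg B π ≃+* ArLef.NodeAlg B π) (I : Ideal (ArLef.NodeAlg B π))
    (hB : ∀ b, σ (algebraMap B _ b) - algebraMap B _ b ∈ I)
    (ht : σ (ArLef.NodeAlg.t π) - ArLef.NodeAlg.t π ∈ I) (he : σ (ArLef.NodeAlg.e π) - ArLef.NodeAlg.e π ∈ I)
    (hge : I ≤ ArLef.fixIdeal σ) : ArLef.fixIdeal σ = I := by
  obtain ⟨hd, -⟩ := hyps hπ
  haveI := hd
  refine le_antisymm (fixIdeal_le σ I hB ?_) hge
  intro i
  fin_cases i
  · exact ht
  · exact he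

theorem fix_three (hπ : Irreducible π) (j : ℕ) (γ : B) (hγ : IsUnit γ)
    (σ : ArLef.NodeAlg B π ≃+* ArLef.NodeAlg B π)
    (hσB : ∀ b : B, σ (algebraMap B (ArLef.NodeAlg B π) b) - algebraMap B (ArLef.NodeAlg B π) b ∈
      Ideal.span ({algebraMap B (ArLef.NodeAlg B π) (π ^ j)} : Set (ArLef.NodeAlg B π)))
    (hσπ : σ (algebraMap B (ArLef.NodeAlg B π) π) = algebraMap B (ArLef.NodeAlg B π) (π + γ * π ^ j)) :
    ArLef.fixIdeal σ = Ideal.span {ArLef.NodeAlg.t π ^ j * ArLef.NodeAlg.e π ^ j,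
      σ (ArLef.NodeAlg.t π) - ArLef.NodeAlg.t π, σ (ArLef.NodeAlg.e π) - ArLef.NodeAlg.e π} := by
  have hp : algebraMap B (ArLef.NodeAlg B π) (π ^ j) = ArLef.NodeAlg.t π ^ j * ArLef.NodeAlg.e π ^ j := by
    rw [map_pow, ← (pack hπ).mul, mul_pow]
  refine fix_eq hπ σ _ (fun b => ?_) (Ideal.subset_span (by simp)) (Ideal.subset_span (by simp)) ?_
  · refine Ideal.span_mono ?_ (hσB b)
    rw [hp]; simp
  · rw [Ideal.span_le]
    rintro z (rfl | rfl | rfl)
    · rw [SetLike.mem_coe, ← hp]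
      have h : σ (algebraMap B _ π) - algebraMap B _ π ∈ ArLef.fixIdeal σ := Ideal.subset_span ⟨_, rfl⟩
      rw [hσπ, map_add, add_sub_cancel_left, map_mul] at h
      exact (Ideal.unit_mul_mem_iff_mem _ (hγ.map _)).mp h
    · exact Ideal.subset_span ⟨_, rfl⟩
    · exact Ideal.subset_span ⟨_, rfl⟩

/-- the relation coming from `σ π = π + γ π^j` -/
theorem unit_rel (hπ : Irreducible π) (j : ℕ) (hj : 1 ≤ j) (γ : B)
    (σ : ArLef.NodeAlg B π ≃+* ArLef.NodeAlg B π)
    (hσπ : σ (algebraMap B (ArLef.NodeAlg B π) π) = algebraMap B (ArLef.NodeAlg B π) (π + γ * π ^ j))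
    (α β : ArLef.NodeAlg B π)
    (h : σ (ArLef.NodeAlg.t π) * σ (ArLef.NodeAlg.e π) = α * β * (ArLef.NodeAlg.t π * ArLef.NodeAlg.e π)) :
    α * β - 1 = algebraMap B _ γ * (ArLef.NodeAlg.t π ^ (j - 1) * ArLef.NodeAlg.e π ^ (j - 1)) := by
  obtain ⟨hdom, pt, pe, -, -, hmul, -, -⟩ := pack hπ
  haveI := hdom
  obtain ⟨j', rfl⟩ : ∃ j', j = j' + 1 := ⟨j - 1, by omega⟩
  rw [Nat.add_sub_cancel]
  apply mul_right_cancel₀ (mul_ne_zero pt.1 pe.1)
  rw [map_add, map_mul, map_pow, ← hmul, map_mul] at hσπ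
  linear_combination hσπ - h

end Groth.L14.Node
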