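import Groth.Prelude.Def_PP16
import Mathlib.LinearAlgebra.TensorProduct.RightExactness
import Mathlib.RingTheory.TensorProduct.Quotient
import Mathlib.RingTheory.FinitePresentation
import Mathlib.RingTheory.FiniteStability
import Mathlib.RingTheory.Finiteness.ModuleFinitePresentation
import Mathlib.LinearAlgebra.SymmetricAlgebra.Basic
import Mathlib.Algebra.MvPolynomial.CommRing
import Mathlib.RingTheory.IntegralClosure.Algebra.Basic
import Mathlib.Tactic

namespace Groth.L14.PP

open scoped TensorProduct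

universe u

section gen
variable (A B : Type u) [CommRing A] [CommRing B] [Algebra A B]

theorem map_I_le {S : Type*} [CommRing S] (f : B ⊗[A] B →+* S) (J : Ideal S)
    (h : ∀ s : B, f ((1 : B) ⊗ₜ[A] s - s ⊗ₜ[A] (1 : B)) ∈ J) :
    (KaehlerDifferential.ideal A B).map f ≤ J := by
  rw [← KaehlerDifferential.span_range_eq_ideal, Ideal.map_span, Ideal.span_le]
  rintro _ ⟨_, ⟨s, rfl⟩, rfl⟩
  exact h s

theorem span_range_dn (n : ℕ) : Submodule.span B (Set.range (PP16.dn n A B)) = ⊤ := by
  rw [eq_top_iff]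
  rintro x -
  obtain ⟨x, rfl⟩ := Ideal.Quotient.mk_surjective x
  induction x using TensorProduct.induction_on with
  | zero => simp
  | add x y hx hy => rw [map_add]; exact add_mem hx hy
  | tmul b c =>
    have : Ideal.Quotient.mk (KaehlerDifferential.ideal A B ^ (n + 1)) (b ⊗ₜ[A] c) = b • PP16.dn n A B c := by
      show _ = Ideal.Quotient.mk _ (b • ((1 : B) ⊗ₜ[A] c))
      rw [TensorProduct.smul_tmul', smul_eq_mul, mul_one]
    rw [this]
    exact Submodule.smul_mem _ b (Submodule.subset_span ⟨c, rfl⟩)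

theorem finite_P (n : ℕ) [Algebra.FiniteType A B] : Module.Finite B (PP16.P n A B) := by
  have : Algebra.FiniteType B (B ⊗[A] B) := inferInstance
  haveI : Algebra.FiniteType B (PP16.P n A B) :=
    this.of_surjective (Ideal.Quotient.mkₐ B _) Ideal.Quotient.mk_surjective
  haveI : Algebra.IsIntegral B (PP16.P n A B) := by
    refine ⟨fun x => ?_⟩
    have hx : x ∈ Submodule.span B (Set.range (PP16.dn n A B)) := by rw [span_range_dn]; trivial
    induction hx using Submodule.span_induction with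
    | zero => exact isIntegral_zero
    | add _ _ _ _ h1 h2 => exact h1.add h2
    | smul r _ _ h1 => exact h1.smul r
    | mem x hx =>
      obtain ⟨b, rfl⟩ := hx
      refine ⟨(Polynomial.X - Polynomial.C b) ^ (n + 1), (Polynomial.monic_X_sub_C b).pow _, ?_⟩
      rw [Polynomial.eval₂_pow, Polynomial.eval₂_sub, Polynomial.eval₂_X, Polynomial.eval₂_C]
      show (Ideal.Quotient.mk _ ((1 : B) ⊗ₜ[A] b) - Ideal.Quotient.mk _ (b ⊗ₜ[A] (1 : B))) ^ (n + 1) = 0
      rw [← map_sub, ← map_pow, Ideal.Quotient.eq_zero_iff_mem]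
      exact Ideal.pow_mem_pow (KaehlerDifferential.one_smul_sub_smul_one_mem_ideal A b) _
  exact Algebra.IsIntegral.finite

theorem finitePresentation_P (n : ℕ) [Algebra.FinitePresentation A B] :
    Module.FinitePresentation B (PP16.P n A B) := by
  haveI := finite_P A B n
  haveI : Algebra.FinitePresentation B (PP16.P n A B) :=
    Algebra.FinitePresentation.quotient (Ideal.FG.pow (n := n + 1) (KaehlerDifferential.ideal_fg A B))
  exact Module.FinitePresentation.of_finite_of_finitePresentation B _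

end gen

section surj

variable (n : ℕ) (A B A' B' : Type u) [CommRing A] [CommRing B] [Algebra A B]
  [CommRing A'] [CommRing B'] [Algebra A' B'] [Algebra A A'] [Algebra B B'] [Algebra A B']
  [IsScalarTower A A' B'] [IsScalarTower A B B']

theorem map_tensorMap_eq (h : Function.Surjective (algebraMap B B')) :
    (KaehlerDifferential.ideal A B).map (PP16.tensorMap A B A' B') = KaehlerDifferential.ideal A' B' := by
  refine le_antisymm (PP16.ideal_map_tensorMap_le A B A' B') ?_
  rw [← KaehlerDifferential.span_range_eq_ideal A' B', Ideal.span_le]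
  rintro _ ⟨s, rfl⟩
  obtain ⟨s, rfl⟩ := h s
  have := Ideal.mem_map_of_mem (PP16.tensorMap A B A' B')
    (KaehlerDifferential.one_smul_sub_smul_one_mem_ideal A s)
  rwa [map_sub, PP16.tensorMap_tmul, PP16.tensorMap_tmul, map_one] at this

theorem tensorMap_surjective (h : Function.Surjective (algebraMap B B')) :
    Function.Surjective (PP16.tensorMap A B A' B') := by
  intro x
  induction x using TensorProduct.induction_on with
  | zero => exact ⟨0, map_zero _⟩
  | add x y hx hy =>
    obtain ⟨x, rfl⟩ := hx; obtain ⟨y, rfl⟩ := hy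
    exact ⟨x + y, map_add _ _ _⟩
  | tmul b c =>
    obtain ⟨b, rfl⟩ := h b; obtain ⟨c, rfl⟩ := h c
    exact ⟨b ⊗ₜ c, PP16.tensorMap_tmul A B A' B' b c⟩

theorem map_surj_ker (h : Function.Surjective (algebraMap B B')) :
    Function.Surjective (PP16.map n A B A' B') ∧
      RingHom.ker (PP16.map n A B A' B') = (RingHom.ker (PP16.tensorMap A B A' B')).map
        (Ideal.Quotient.mk (KaehlerDifferential.ideal A B ^ (n + 1))) := by
  have hs := tensorMap_surjective A B A' B' h
  refine ⟨fun y => ?_, ?_⟩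
  · obtain ⟨y, rfl⟩ := Ideal.Quotient.mk_surjective y
    obtain ⟨x, rfl⟩ := hs y
    exact ⟨Ideal.Quotient.mk _ x, rfl⟩
  ext z
  obtain ⟨z, rfl⟩ := Ideal.Quotient.mk_surjective z
  rw [RingHom.mem_ker, PP16.map_mk, Ideal.Quotient.eq_zero_iff_mem, ← map_tensorMap_eq A B A' B' h,
    ← Ideal.map_pow, Ideal.mem_map_iff_of_surjective _ Ideal.Quotient.mk_surjective]
  constructor
  · intro hz
    obtain ⟨w, hw, hw'⟩ := (Ideal.mem_map_iff_of_surjective _ hs).mp hz
    refine ⟨z - w, by rw [RingHom.mem_ker, map_sub, hw', sub_self], ?_⟩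
    rw [map_sub, Ideal.Quotient.eq_zero_iff_mem.mpr hw, sub_zero]
  · rintro ⟨w, hw, hw'⟩
    rw [show z = w + (z - w) by ring, map_add, RingHom.mem_ker.mp hw, zero_add]
    exact Ideal.mem_map_of_mem _ (Ideal.Quotient.eq.mp hw'.symm)

end surj

theorem quotient_case (n : ℕ) (A B : Type u) [CommRing A] [CommRing B] [Algebra A B] (K : Ideal B) :
    Function.Surjective (PP16.map n A B A (B ⧸ K)) ∧
      RingHom.ker (PP16.map n A B A (B ⧸ K)) =
        K.map (algebraMap B (PP16.P n A B)) ⊔ K.map (PP16.dn n A B) := by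
  obtain ⟨h1, h2⟩ := map_surj_ker n A B A (B ⧸ K) Ideal.Quotient.mk_surjective
  refine ⟨h1, ?_⟩
  have ht : PP16.tensorMap A B A (B ⧸ K) =
      Algebra.TensorProduct.map (Ideal.Quotient.mkₐ A K) (Ideal.Quotient.mkₐ A K) := by
    ext x <;> simp [PP16.tensorMap_tmul]
  have hk : RingHom.ker (Ideal.Quotient.mkₐ A K) = K := Ideal.Quotient.mkₐ_ker A K
  rw [h2, ht, Algebra.TensorProduct.map_ker _ _ Ideal.Quotient.mk_surjective Ideal.Quotient.mk_surjective,
    Ideal.map_sup, hk, ← Ideal.map_coe (Algebra.TensorProduct.includeLeft : B →ₐ[A] B ⊗[A] B),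
    ← Ideal.map_coe (Algebra.TensorProduct.includeRight : B →ₐ[A] B ⊗[A] B), Ideal.map_map, Ideal.map_map]
  rfl

theorem tower_case (n : ℕ) (A B C : Type u) [CommRing A] [CommRing B] [CommRing C]
    [Algebra A B] [Algebra B C] [Algebra A C] [IsScalarTower A B C] :
    Function.Surjective (PP16.map n A C B C) ∧
      RingHom.ker (PP16.map n A C B C) = (PP16.augIdeal n A B).map (PP16.map n A B A C) := by
  obtain ⟨h1, h2⟩ := map_surj_ker n A C B C (fun x => ⟨x, rfl⟩)
  refine ⟨h1, ?_⟩
  set J := (KaehlerDifferential.ideal A B).map (PP16.tensorMap A B A C) with hJ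
  have hrel : ∀ b : B, Ideal.Quotient.mk J ((1 : C) ⊗ₜ[A] algebraMap B C b) =
      Ideal.Quotient.mk J (algebraMap B C b ⊗ₜ[A] (1 : C)) := fun b => by
    rw [Ideal.Quotient.eq]
    have := Ideal.mem_map_of_mem (PP16.tensorMap A B A C)
      (KaehlerDifferential.one_smul_sub_smul_one_mem_ideal A b)
    rwa [map_sub, PP16.tensorMap_tmul, PP16.tensorMap_tmul, map_one, ← hJ] at this
  have hker : RingHom.ker (PP16.tensorMap A C B C) = J := by
    refine le_antisymm ?_ ?_
    · let l : C →ₐ[B] (C ⊗[A] C) ⧸ J :=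
        (Ideal.Quotient.mkₐ B J).comp (IsScalarTower.toAlgHom B C (C ⊗[A] C))
      let r : C →ₐ[B] (C ⊗[A] C) ⧸ J :=
        { (Ideal.Quotient.mk J).comp
            (Algebra.TensorProduct.includeRight : C →ₐ[A] C ⊗[A] C).toRingHom with
          commutes' := fun b => hrel b }
      let ψ := Algebra.TensorProduct.lift l r (fun _ _ => Commute.all _ _)
      have hψ : ∀ z, ψ (PP16.tensorMap A C B C z) = Ideal.Quotient.mk J z := by
        intro z
        induction z using TensorProduct.induction_on with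
        | zero => simp
        | add x y hx hy => rw [map_add, map_add, map_add, hx, hy]
        | tmul c d =>
          rw [PP16.tensorMap_tmul]
          show ψ (c ⊗ₜ d) = _
          rw [Algebra.TensorProduct.lift_tmul]
          show Ideal.Quotient.mk J (c ⊗ₜ 1) * Ideal.Quotient.mk J (1 ⊗ₜ d) = _
          rw [← map_mul, Algebra.TensorProduct.tmul_mul_tmul, mul_one, one_mul]
      intro z hz
      rw [RingHom.mem_ker] at hz
      rw [← Ideal.Quotient.eq_zero_iff_mem, ← hψ z, hz, map_zero]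
    · rw [hJ, Ideal.map_le_iff_le_comap, ← KaehlerDifferential.span_range_eq_ideal, Ideal.span_le]
      rintro _ ⟨b, rfl⟩
      show PP16.tensorMap A B A C _ ∈ RingHom.ker _
      rw [RingHom.mem_ker, map_sub, map_sub, PP16.tensorMap_tmul, PP16.tensorMap_tmul, map_one,
        PP16.tensorMap_tmul, PP16.tensorMap_tmul, map_one, sub_eq_zero]
      simp only [Algebra.algebraMap_self_apply, map_one]
      rw [Algebra.algebraMap_eq_smul_one, TensorProduct.smul_tmul]
  rw [h2, hker, hJ, PP16.augIdeal, ← Ideal.map_coe (PP16.tensorMap A B A C), Ideal.map_map,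
    ← Ideal.map_coe (PP16.map n A B A C), Ideal.map_map]
  rfl

theorem section_case (n : ℕ) (A B : Type u) [CommRing A] [CommRing B] [Algebra A B] (g : B →ₐ[A] A) :
    Function.Surjective ((Ideal.Quotient.mk ((RingHom.ker g).map (algebraMap B (PP16.P n A B)))).comp
        (PP16.dn n A B).toRingHom) ∧
      RingHom.ker ((Ideal.Quotient.mk ((RingHom.ker g).map (algebraMap B (PP16.P n A B)))).comp
        (PP16.dn n A B).toRingHom) = RingHom.ker g ^ (n + 1) := by
  set a := RingHom.ker g with ha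
  set K := a.map (algebraMap B (PP16.P n A B)) with hK
  have hga : ∀ b : B, b - algebraMap A B (g b) ∈ a := fun b => by
    rw [ha, RingHom.mem_ker, map_sub, g.commutes]; simp
  constructor
  · intro q
    obtain ⟨x, rfl⟩ := Ideal.Quotient.mk_surjective q
    obtain ⟨x, rfl⟩ := Ideal.Quotient.mk_surjective x
    induction x using TensorProduct.induction_on with
    | zero => exact ⟨0, by simp⟩
    | add x y hx hy =>
      obtain ⟨s, hs⟩ := hx; obtain ⟨t, ht⟩ := hy
      exact ⟨s + t, by rw [map_add, hs, ht, map_add, map_add]⟩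
    | tmul b c =>
      refine ⟨g b • c, ?_⟩
      symm
      show Ideal.Quotient.mk K _ = Ideal.Quotient.mk K (Ideal.Quotient.mk _ ((1 : B) ⊗ₜ[A] (g b • c)))
      rw [Ideal.Quotient.eq, ← map_sub, ← TensorProduct.smul_tmul, ← TensorProduct.sub_tmul,
        ← Algebra.algebraMap_eq_smul_one,
        show (b - algebraMap A B (g b)) ⊗ₜ[A] c = ((b - algebraMap A B (g b)) ⊗ₜ[A] (1 : B)) * ((1 : B) ⊗ₜ c) by
          rw [Algebra.TensorProduct.tmul_mul_tmul, mul_one, one_mul], map_mul]
      exact Ideal.mul_mem_right _ _ (Ideal.mem_map_of_mem _ (hga b))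
  · set φ := (Ideal.Quotient.mk K).comp (PP16.dn n A B).toRingHom with hφ
    refine le_antisymm ?_ ?_
    · let θ : B ⊗[A] B →ₐ[A] B ⧸ a ^ (n + 1) :=
        Algebra.TensorProduct.lift ((Algebra.ofId A _).comp g) (Ideal.Quotient.mkₐ A _) (fun _ _ => Commute.all _ _)
      have hθl : ∀ b : B, θ (b ⊗ₜ 1) = algebraMap A _ (g b) := fun b => by
        rw [Algebra.TensorProduct.lift_tmul, map_one, mul_one]; rfl
      have hθr : ∀ b : B, θ (1 ⊗ₜ b) = Ideal.Quotient.mk _ b := fun b => by
        rw [Algebra.TensorProduct.lift_tmul, map_one, one_mul]; rfl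
      have hI : KaehlerDifferential.ideal A B ^ (n + 1) ≤ RingHom.ker θ := by
        have h := map_I_le A B θ.toRingHom (a.map (Ideal.Quotient.mk (a ^ (n + 1)))) (fun s => by
          show θ _ ∈ _
          rw [map_sub, hθl, hθr, IsScalarTower.algebraMap_apply A B, ← Ideal.Quotient.algebraMap_eq, ← map_sub]
          exact Ideal.mem_map_of_mem _ (hga s))
        intro x hx
        have h2 := Ideal.pow_right_mono h (n + 1) (Ideal.map_pow θ.toRingHom _ _ ▸ Ideal.mem_map_of_mem θ.toRingHom hx)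
        rw [← Ideal.map_pow, Ideal.map_quotient_self] at h2
        exact h2
      let θ' : PP16.P n A B →+* B ⧸ a ^ (n + 1) := Ideal.Quotient.lift _ θ.toRingHom hI
      have hK' : K ≤ RingHom.ker θ' := by
        rw [hK, Ideal.map_le_iff_le_comap]
        intro b hb
        show θ (b ⊗ₜ 1) = 0
        rw [hθl, RingHom.mem_ker.mp hb, map_zero]
      intro b hb
      rw [RingHom.mem_ker, hφ, RingHom.comp_apply, Ideal.Quotient.eq_zero_iff_mem] at hb
      have h3 : θ (1 ⊗ₜ b) = 0 := RingHom.mem_ker.mp (hK' hb)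
      rwa [hθr, Ideal.Quotient.eq_zero_iff_mem] at h3
    · have haug : PP16.augIdeal n A B ^ (n + 1) = ⊥ := by
        rw [PP16.augIdeal, ← Ideal.map_pow, Ideal.map_quotient_self]
      have hpow : ∀ m : ℕ, (K ⊔ PP16.augIdeal n A B) ^ m ≤ K ⊔ PP16.augIdeal n A B ^ m := by
        intro m
        induction m with
        | zero => rw [pow_zero (K ⊔ PP16.augIdeal n A B), pow_zero (PP16.augIdeal n A B)]; exact le_sup_right
        | succ m ih =>
          rw [pow_succ (K ⊔ PP16.augIdeal n A B), pow_succ (PP16.augIdeal n A B)]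
          refine (Ideal.mul_mono_left ih).trans ?_
          rw [Ideal.sup_mul, Ideal.mul_sup, Ideal.mul_sup]
          exact sup_le (sup_le (Ideal.mul_le_left.trans le_sup_left) (Ideal.mul_le_left.trans le_sup_left))
            (sup_le (Ideal.mul_le_right.trans le_sup_left) le_sup_right)
      have h : a.map (PP16.dn n A B) ≤ K ⊔ PP16.augIdeal n A B := by
        rw [Ideal.map_le_iff_le_comap]
        intro b hb
        rw [Ideal.mem_comap, ← add_sub_cancel (algebraMap B (PP16.P n A B) b) (PP16.dn n A B b)]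
        refine Submodule.add_mem_sup (Ideal.mem_map_of_mem _ hb) ?_
        show Ideal.Quotient.mk _ ((1 : B) ⊗ₜ[A] b) - Ideal.Quotient.mk _ (b ⊗ₜ[A] (1 : B)) ∈ _
        rw [← map_sub]
        exact Ideal.mem_map_of_mem _ (KaehlerDifferential.one_smul_sub_smul_one_mem_ideal A b)
      intro x hx
      have h1 : PP16.dn n A B x ∈ (a.map (PP16.dn n A B)) ^ (n + 1) := by
        rw [← Ideal.map_pow]; exact Ideal.mem_map_of_mem _ hx
      have h2 := hpow _ (Ideal.pow_right_mono h (n + 1) h1)
      rw [haug, sup_bot_eq] at h2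
      rw [RingHom.mem_ker, hφ, RingHom.comp_apply, Ideal.Quotient.eq_zero_iff_mem]
      exact h2

section poly

variable (n : ℕ) (A : Type u) [CommRing A] (σ : Type u)

open MvPolynomial

theorem poly_case :
    ∃ e : PP16.P n A (MvPolynomial σ A) ≃ₐ[MvPolynomial σ A]
        (MvPolynomial σ (MvPolynomial σ A) ⧸
          Ideal.span (Set.range (MvPolynomial.X : σ → MvPolynomial σ (MvPolynomial σ A))) ^ (n + 1)),
      ∀ i : σ, e (PP16.dn n A (MvPolynomial σ A) (MvPolynomial.X i)) =
        Ideal.Quotient.mk _ (MvPolynomial.C (MvPolynomial.X i : MvPolynomial σ A) +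
          (MvPolynomial.X i : MvPolynomial σ (MvPolynomial σ A))) := by
  let B := MvPolynomial σ A
  let R' := MvPolynomial σ B
  set J : Ideal R' := Ideal.span (Set.range (X : σ → R')) with hJ
  let ρ : B →ₐ[A] R' := aeval fun i => C (X i) + X i
  let θ : B ⊗[A] B →ₐ[B] R' := Algebra.TensorProduct.lift (Algebra.ofId B R') ρ (fun _ _ => Commute.all _ _)
  let η : R' →ₐ[B] B ⊗[A] B := aeval fun i => (1 : B) ⊗ₜ[A] X i - (X i : B) ⊗ₜ[A] (1 : B)
  have hθl : ∀ b : B, θ (b ⊗ₜ 1) = C b := fun b => by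
    rw [Algebra.TensorProduct.lift_tmul, map_one, mul_one]; rfl
  have hθr : ∀ b : B, θ (1 ⊗ₜ b) = ρ b := fun b => by
    rw [Algebra.TensorProduct.lift_tmul, map_one, one_mul]
  have h1 : θ.comp η = AlgHom.id B R' := MvPolynomial.algHom_ext fun i => by
    simp only [η, AlgHom.comp_apply, aeval_X, map_sub, hθl, hθr]
    show aeval (fun i => C (X i) + X i) (X i) - C (X i) = X i
    rw [aeval_X, add_sub_cancel_left]
  have h2r : ∀ b : B, η (ρ b) = (1 : B) ⊗ₜ[A] b := by
    have : (η.restrictScalars A).comp ρ = Algebra.TensorProduct.includeRight :=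
      MvPolynomial.algHom_ext fun i => by
        show η (ρ (X i)) = (1 : B) ⊗ₜ[A] X i
        rw [show ρ (X i) = C (X i) + X i from aeval_X _ _, map_add,
          show η (C (X i)) = (X i : B) ⊗ₜ[A] (1 : B) from aeval_C _ _,
          show η (X i) = (1 : B) ⊗ₜ[A] X i - (X i : B) ⊗ₜ[A] (1 : B) from aeval_X _ _]
        abel
    exact fun b => congrArg (fun f => f b) this
  have h2 : η.comp θ = AlgHom.id B (B ⊗[A] B) := by
    apply AlgHom.ext
    intro z
    induction z using TensorProduct.induction_on with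
    | zero => simp
    | add x y hx hy => rw [map_add, map_add, hx, hy]
    | tmul b c =>
      show η (θ (b ⊗ₜ c)) = b ⊗ₜ c
      rw [show b ⊗ₜ[A] c = b • ((1 : B) ⊗ₜ[A] c) by rw [TensorProduct.smul_tmul', smul_eq_mul, mul_one],
        map_smul, map_smul, hθr, h2r]
  let e := AlgEquiv.ofAlgHom θ η h1 h2
  have hmap : (KaehlerDifferential.ideal A B).map (θ : B ⊗[A] B →+* R') = J := by
    refine le_antisymm (map_I_le A B _ _ fun s => ?_) ?_
    · show θ _ ∈ J
      rw [map_sub, hθl, hθr, ← Ideal.Quotient.eq]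
      have : (Ideal.Quotient.mkₐ A J).comp ρ = (Ideal.Quotient.mkₐ A J).comp (IsScalarTower.toAlgHom A B R') :=
        MvPolynomial.algHom_ext fun i => by
          show Ideal.Quotient.mk J (aeval (fun i => C (X i) + X i) (X i)) = Ideal.Quotient.mk J (C (X i))
          rw [aeval_X, Ideal.Quotient.eq, add_sub_cancel_left]
          exact Ideal.subset_span ⟨i, rfl⟩
      exact congrArg (fun f => f s) this
    · rw [hJ, Ideal.span_le]
      rintro _ ⟨i, rfl⟩
      have : θ ((1 : B) ⊗ₜ[A] X i - (X i : B) ⊗ₜ[A] (1 : B)) = X i := by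
        rw [map_sub, hθl, hθr, show ρ (X i) = C (X i) + X i from aeval_X _ _, add_sub_cancel_left]
      rw [← this]
      exact Ideal.mem_map_of_mem _ (KaehlerDifferential.one_smul_sub_smul_one_mem_ideal A _)
  refine ⟨Ideal.quotientEquivAlg _ _ e (by rw [← hmap, ← Ideal.map_pow]; rfl), fun i => ?_⟩
  show Ideal.Quotient.mk _ (θ (1 ⊗ₜ X i)) = _
  rw [hθr, show ρ (X i) = C (X i) + X i from aeval_X _ _]

end poly

section sym

variable (n : ℕ) (A : Type u) [CommRing A] (E : Type u) [AddCommGroup E] [Module A E]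

open SymmetricAlgebra

theorem sym_case :
    ∃ e : PP16.P n A (SymmetricAlgebra A E) ≃ₐ[SymmetricAlgebra A E]
        (SymmetricAlgebra A E ⊗[A] (SymmetricAlgebra A E ⧸
          RingHom.ker (SymmetricAlgebra.lift (0 : E →ₗ[A] A)) ^ (n + 1))),
      ∀ t : E, e (PP16.dn n A (SymmetricAlgebra A E) (SymmetricAlgebra.ι A E t)) =
        SymmetricAlgebra.ι A E t ⊗ₜ 1 + 1 ⊗ₜ Ideal.Quotient.mk _ (SymmetricAlgebra.ι A E t) := by
  let S := SymmetricAlgebra A E
  let aug : S →ₐ[A] A := SymmetricAlgebra.lift 0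
  set m : Ideal S := RingHom.ker aug with hm
  let inL : S →ₐ[A] S ⊗[A] S := Algebra.TensorProduct.includeLeft
  let inR : S →ₐ[A] S ⊗[A] S := Algebra.TensorProduct.includeRight
  set J : Ideal (S ⊗[A] S) := m.map inR with hJ
  let ρ : S →ₐ[A] S ⊗[A] S := SymmetricAlgebra.lift (inL.toLinearMap ∘ₗ ι A E + inR.toLinearMap ∘ₗ ι A E)
  let ν : S →ₐ[A] S ⊗[A] S := SymmetricAlgebra.lift (inR.toLinearMap ∘ₗ ι A E - inL.toLinearMap ∘ₗ ι A E)
  let θ : S ⊗[A] S →ₐ[S] S ⊗[A] S :=
    Algebra.TensorProduct.lift (Algebra.ofId S (S ⊗[A] S)) ρ (fun _ _ => Commute.all _ _)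
  let η : S ⊗[A] S →ₐ[S] S ⊗[A] S :=
    Algebra.TensorProduct.lift (Algebra.ofId S (S ⊗[A] S)) ν (fun _ _ => Commute.all _ _)
  have hθl : ∀ b : S, θ (b ⊗ₜ 1) = inL b := fun b => by
    rw [Algebra.TensorProduct.lift_tmul, map_one, mul_one]; rfl
  have hθr : ∀ b : S, θ (1 ⊗ₜ b) = ρ b := fun b => by
    rw [Algebra.TensorProduct.lift_tmul, map_one, one_mul]
  have hηl : ∀ b : S, η (b ⊗ₜ 1) = inL b := fun b => by
    rw [Algebra.TensorProduct.lift_tmul, map_one, mul_one]; rfl
  have hηr : ∀ b : S, η (1 ⊗ₜ b) = ν b := fun b => by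
    rw [Algebra.TensorProduct.lift_tmul, map_one, one_mul]
  have hρι : ∀ t, ρ (ι A E t) = inL (ι A E t) + inR (ι A E t) := fun t => by
    show SymmetricAlgebra.lift _ _ = _
    rw [lift_ι_apply]; rfl
  have hνι : ∀ t, ν (ι A E t) = inR (ι A E t) - inL (ι A E t) := fun t => by
    show SymmetricAlgebra.lift _ _ = _
    rw [lift_ι_apply]; rfl
  have key : ∀ (f g : S ⊗[A] S →ₐ[S] S ⊗[A] S), (∀ t, f (1 ⊗ₜ ι A E t) = g (1 ⊗ₜ ι A E t)) → f = g := by
    intro f g h
    apply Algebra.TensorProduct.ext (AlgHom.ext fun x => by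
      exact (f.commutes x).trans (g.commutes x).symm)
    exact SymmetricAlgebra.algHom_ext (LinearMap.ext h)
  have h1 : θ.comp η = AlgHom.id S _ := key _ _ fun t => by
    rw [AlgHom.comp_apply, hηr, hνι, map_sub, AlgHom.id_apply]
    show θ (1 ⊗ₜ _) - θ (_ ⊗ₜ 1) = _
    rw [hθr, hθl, hρι, add_sub_cancel_left]; rfl
  have h2 : η.comp θ = AlgHom.id S _ := key _ _ fun t => by
    rw [AlgHom.comp_apply, hθr, hρι, map_add, AlgHom.id_apply]
    show η (_ ⊗ₜ 1) + η (1 ⊗ₜ _) = _
    rw [hηr, hηl, hνι, add_sub_cancel]; rfl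
  let e := AlgEquiv.ofAlgHom θ η h1 h2
  have hι : ∀ t, ι A E t ∈ m := fun t => by
    rw [hm, RingHom.mem_ker]; exact lift_ι_apply _ _
  have hmap : (KaehlerDifferential.ideal A S).map (θ : S ⊗[A] S →+* S ⊗[A] S) = J := by
    refine le_antisymm (map_I_le A S _ _ fun s => ?_) ?_
    · show θ _ ∈ J
      rw [map_sub, hθl, hθr, ← Ideal.Quotient.eq]
      have : (Ideal.Quotient.mkₐ A J).comp ρ = (Ideal.Quotient.mkₐ A J).comp inL := by
          refine SymmetricAlgebra.algHom_ext (R := A) (M := E) (A := (S ⊗[A] S) ⧸ J) ?_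
          refine LinearMap.ext fun t => ?_
          show Ideal.Quotient.mk J (ρ (ι A E t)) = Ideal.Quotient.mk J (inL (ι A E t))
          rw [hρι, Ideal.Quotient.eq, add_sub_cancel_left]
          exact Ideal.mem_map_of_mem _ (hι t)
      exact congrArg (fun f => f s) this
    · have hgen : m ≤ Ideal.span (Set.range (ι A E)) := by
        intro s hs
        rw [← Ideal.Quotient.eq_zero_iff_mem]
        have : (Algebra.ofId A (S ⧸ Ideal.span (Set.range (ι A E)))).comp aug = Ideal.Quotient.mkₐ A _ :=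
          SymmetricAlgebra.algHom_ext (LinearMap.ext fun t => by
            show algebraMap A _ (SymmetricAlgebra.lift (0 : E →ₗ[A] A) (ι A E t)) = Ideal.Quotient.mk _ (ι A E t)
            rw [lift_ι_apply, LinearMap.zero_apply, map_zero, eq_comm, Ideal.Quotient.eq_zero_iff_mem]
            exact Ideal.subset_span ⟨t, rfl⟩)
        have h := congrArg (fun f => f s) this
        simp only [AlgHom.comp_apply, Ideal.Quotient.mkₐ_eq_mk] at h
        rw [← h, RingHom.mem_ker.mp hs, map_zero]
      rw [hJ]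
      refine (Ideal.map_mono hgen).trans ?_
      rw [Ideal.map_span, Ideal.span_le]
      rintro _ ⟨_, ⟨t, rfl⟩, rfl⟩
      have : θ ((1 : S) ⊗ₜ[A] ι A E t - ι A E t ⊗ₜ[A] (1 : S)) = inR (ι A E t) := by
        rw [map_sub, hθl, hθr, hρι, add_sub_cancel_left]
      rw [← this]
      exact Ideal.mem_map_of_mem _ (KaehlerDifferential.one_smul_sub_smul_one_mem_ideal A _)
  let e2 := (Ideal.quotientEquivAlg (KaehlerDifferential.ideal A S ^ (n + 1)) ((m ^ (n + 1)).map inR) e
    (by rw [Ideal.map_pow, ← hJ, ← hmap, ← Ideal.map_pow]; rfl)).trans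
      (Algebra.TensorProduct.tensorQuotientEquiv (R := A) S S S (m ^ (n + 1))).symm
  refine ⟨e2, fun t => ?_⟩
  show (Algebra.TensorProduct.tensorQuotientEquiv (R := A) S S S (m ^ (n + 1))).symm
    (Ideal.Quotient.mk _ (θ (1 ⊗ₜ ι A E t))) = _
  rw [hθr, hρι, map_add, map_add]
  rfl

end sym

end Groth.L14.PP
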