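import Groth.Prelude.Def_W4c2arithlefschetzNode
import Groth.Agent.L14.Len
import Mathlib.RingTheory.PowerSeries.Inverse
import Mathlib.RingTheory.PowerSeries.Trunc
import Mathlib.RingTheory.PowerSeries.Ideal
import Mathlib.RingTheory.PowerSeries.NoZeroDivisors
import Mathlib.RingTheory.DiscreteValuationRing.Basic
import Mathlib.RingTheory.Filtration
import Mathlib.RingTheory.Ideal.Colon
import Mathlib.Tactic

namespace Groth.L14.PSFix

open PowerSeries

universe u
variable {B : Type u} [CommRing B]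

theorem fixIdeal_le [IsLocalRing B] [IsNoetherianRing B] (σ : B⟦X⟧ ≃+* B⟦X⟧) (I : Ideal B⟦X⟧)
    (hB : ∀ b, σ (PowerSeries.C b) - PowerSeries.C b ∈ I) (hX : σ X - X ∈ I) :
    ArLef.fixIdeal σ ≤ I := by
  set m := IsLocalRing.maximalIdeal B⟦X⟧ with hm
  have hXm : (X : B⟦X⟧) ∈ m := by
    intro h
    have := PowerSeries.isUnit_constantCoeff _ h
    simp at this
  let S : Subring B⟦X⟧ :=
    { carrier := {r | σ r - r ∈ I}
      mul_mem' := fun {p r} hp hr => by
        show σ (p * r) - p * r ∈ I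
        rw [map_mul, show σ p * σ r - p * r = σ p * (σ r - r) + (σ p - p) * r by ring]
        exact I.add_mem (I.mul_mem_left _ hr) (I.mul_mem_right _ hp)
      one_mem' := by show σ 1 - 1 ∈ I; simp
      add_mem' := fun {p r} hp hr => by
        show σ (p + r) - (p + r) ∈ I
        rw [map_add, add_sub_add_comm]; exact I.add_mem hp hr
      zero_mem' := by show σ 0 - 0 ∈ I; simp
      neg_mem' := fun {p} hp => by
        show σ (-p) - -p ∈ I
        rw [map_neg, show -σ p - -p = -(σ p - p) by ring]; exact I.neg_mem hp }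
  have happrox : ∀ (n : ℕ) (z : B⟦X⟧), ∃ s ∈ S, z - s ∈ m ^ n := by
    intro n
    induction n with
    | zero => intro z; exact ⟨0, S.zero_mem, by simp⟩
    | succ n ih =>
      intro z
      obtain ⟨g, hg⟩ : ∃ g, z - C (constantCoeff z) = X * g :=
        PowerSeries.X_dvd_iff.mpr (by simp)
      obtain ⟨s, hs, hs'⟩ := ih g
      refine ⟨C (constantCoeff z) + X * s, S.add_mem (hB _) (S.mul_mem hX hs), ?_⟩
      rw [show z - (C (constantCoeff z) + X * s) = X * (g - s) by linear_combination hg, pow_succ']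
      exact Ideal.mul_mem_mul hXm hs'
  have hmσ : ∀ (n : ℕ), ∀ z ∈ m ^ n, σ z ∈ m ^ n := by
    intro n z hz
    have h1 : Ideal.map (σ : B⟦X⟧ →+* B⟦X⟧) m ≤ m := by
      rw [Ideal.map_le_iff_le_comap]
      intro y hy hu
      exact hy ((isUnit_map_iff σ y).mp hu)
    have h2 := Ideal.mem_map_of_mem (σ : B⟦X⟧ →+* B⟦X⟧) hz
    rw [Ideal.map_pow] at h2
    exact Ideal.pow_right_mono h1 n h2
  rw [ArLef.fixIdeal, Ideal.span_le]
  rintro _ ⟨r, rfl⟩
  show σ r - r ∈ I
  rw [← Ideal.Quotient.eq_zero_iff_mem]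
  have hall : Ideal.Quotient.mk I (σ r - r) ∈ (⨅ n : ℕ, m ^ n • (⊤ : Submodule B⟦X⟧ (B⟦X⟧ ⧸ I))) := by
    rw [Submodule.mem_iInf]
    intro n
    obtain ⟨s, hs, hs'⟩ := happrox n r
    have hsm : ∀ c : B⟦X⟧, c • (Ideal.Quotient.mk I 1) = Ideal.Quotient.mk I (c * 1) := fun c => rfl
    have : Ideal.Quotient.mk I (σ r - r) = (σ (r - s) - (r - s)) • (Ideal.Quotient.mk I 1) := by
      rw [hsm, mul_one, Ideal.Quotient.eq,
        show σ r - r - (σ (r - s) - (r - s)) = σ s - s by rw [map_sub]; ring]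
      exact hs
    rw [this]
    exact Submodule.smul_mem_smul ((m ^ n).sub_mem (hmσ n _ hs') hs') Submodule.mem_top
  rwa [Ideal.iInf_pow_smul_eq_bot_of_isLocalRing (M := B⟦X⟧ ⧸ I) _
    (IsLocalRing.maximalIdeal.isMaximal _).ne_top, Submodule.mem_bot] at hall

variable [IsDomain B] [IsDiscreteValuationRing B] {π : B}

theorem map_eq_zero_iff (hπ : Irreducible π) (g : B⟦X⟧) :
    PowerSeries.map (IsLocalRing.residue B) g = 0 ↔ C π ∣ g := by
  constructor
  · intro h
    have h' : ∀ n, ∃ c, coeff n g = π * c := by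
      intro n
      have := congrArg (coeff n) h
      rw [coeff_map, map_zero, IsLocalRing.residue_eq_zero_iff, hπ.maximalIdeal_eq,
        Ideal.mem_span_singleton] at this
      exact this
    choose c hc using h'
    exact ⟨PowerSeries.mk c, by ext n; rw [coeff_C_mul, coeff_mk, hc]⟩
  · rintro ⟨c, rfl⟩
    rw [map_mul, map_C, (IsLocalRing.residue_eq_zero_iff π).mpr
      (by rw [hπ.maximalIdeal_eq]; exact Ideal.mem_span_singleton_self π), map_zero, zero_mul]

theorem C_prime (hπ : Irreducible π) : Prime (C π : B⟦X⟧) := by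
  refine ⟨fun h => hπ.ne_zero (by simpa using congrArg (coeff 0) h), fun h => hπ.not_isUnit (by
    simpa using PowerSeries.isUnit_constantCoeff _ h), fun p r h => ?_⟩
  rw [← map_eq_zero_iff hπ, map_mul, mul_eq_zero] at h
  exact h.imp (map_eq_zero_iff hπ p).mp (map_eq_zero_iff hπ r).mp

theorem len_eq (hπ : Irreducible π) (f : B⟦X⟧) :
    Module.length B⟦X⟧ (B⟦X⟧ ⧸ Ideal.span {f, C π}) =
      Module.length (PowerSeries (IsLocalRing.ResidueField B)) (PowerSeries (IsLocalRing.ResidueField B) ⧸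
        Ideal.span ({PowerSeries.map (IsLocalRing.residue B) f} : Set (PowerSeries (IsLocalRing.ResidueField B)))) := by
  set φ := PowerSeries.map (IsLocalRing.residue B) with hφ
  have hsurj : Function.Surjective φ := PowerSeries.map_surjective _ IsLocalRing.residue_surjective
  letI : Algebra B⟦X⟧ (PowerSeries (IsLocalRing.ResidueField B)) := φ.toAlgebra
  set Q := PowerSeries (IsLocalRing.ResidueField B) ⧸ Ideal.span {φ f}
  rw [← Module.length_eq_of_surjective (S := B⟦X⟧) (M := Q) hsurj]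
  let g : B⟦X⟧ →ₗ[B⟦X⟧] Q :=
    ((Ideal.Quotient.mkₐ B⟦X⟧ (Ideal.span {φ f})).comp (Algebra.ofId _ _)).toLinearMap
  have hg : Function.Surjective g := Ideal.Quotient.mk_surjective.comp hsurj
  have hker : LinearMap.ker g = Ideal.span {f, C π} := by
    ext z
    rw [LinearMap.mem_ker]
    show Ideal.Quotient.mk _ (φ z) = 0 ↔ _
    rw [Ideal.Quotient.eq_zero_iff_mem, Ideal.mem_span_singleton, Ideal.mem_span_pair]
    constructor
    · rintro ⟨c, hc⟩
      obtain ⟨c, rfl⟩ := hsurj c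
      obtain ⟨d, hd⟩ := (map_eq_zero_iff hπ (z - f * c)).mp (by rw [map_sub, map_mul, ← hφ, hc, sub_self])
      exact ⟨c, d, by linear_combination -hd⟩
    · rintro ⟨c, d, rfl⟩
      refine ⟨φ c, ?_⟩
      rw [map_add, map_mul, map_mul, (map_eq_zero_iff hπ (C π)).mpr dvd_rfl, mul_zero, add_zero, mul_comm]
  rw [← hker]
  exact (g.quotKerEquivOfSurjective hg).length_eq

theorem fix_len (hπ : Irreducible π) (f : B⟦X⟧) (hf : ¬ C π ∣ f) (n : ℕ) :
    Module.length B⟦X⟧ (B⟦X⟧ ⧸ Ideal.span {f, C π ^ n}) =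
      (n : ℕ∞) * Module.length (PowerSeries (IsLocalRing.ResidueField B)) (PowerSeries (IsLocalRing.ResidueField B) ⧸
        Ideal.span ({PowerSeries.map (IsLocalRing.residue B) f} : Set (PowerSeries (IsLocalRing.ResidueField B)))) := by
  have hp := C_prime hπ
  rw [Len.pair_pow f (C π) ?_, len_eq hπ]
  rintro z ⟨y, hy⟩
  obtain ⟨y', rfl⟩ := (hp.2.2 f y ⟨z, hy.symm⟩).resolve_left hf
  exact ⟨y', mul_left_cancel₀ hp.1 (by linear_combination hy)⟩

theorem fix_eq (hπ : Irreducible π) (j : ℕ) (γ : B) (hγ : IsUnit γ) (σ : B⟦X⟧ ≃+* B⟦X⟧)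
    (hσB : ∀ b : B, σ (algebraMap B B⟦X⟧ b) - algebraMap B B⟦X⟧ b ∈ Ideal.span {algebraMap B B⟦X⟧ (π ^ j)})
    (hσπ : σ (algebraMap B B⟦X⟧ π) = algebraMap B B⟦X⟧ (π + γ * π ^ j)) :
    ArLef.fixIdeal σ = Ideal.span {σ X - X, C π ^ j} := by
  have hC : ∀ b, algebraMap B B⟦X⟧ b = C b := fun b => rfl
  simp only [hC] at hσB hσπ
  rw [map_pow] at hσB
  refine le_antisymm (fixIdeal_le σ _ (fun b => Ideal.span_mono (by simp) (hσB b)) (Ideal.subset_span (by simp))) ?_
  rw [Ideal.span_le]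
  rintro z (rfl | rfl)
  · exact Ideal.subset_span ⟨_, rfl⟩
  · have h : σ (C π) - C π ∈ ArLef.fixIdeal σ := Ideal.subset_span ⟨_, rfl⟩
    rw [hσπ, map_add, add_sub_cancel_left, map_mul, map_pow] at h
    exact (Ideal.unit_mul_mem_iff_mem _ (hγ.map _)).mp h

end Groth.L14.PSFix
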