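import Groth.Agent.L08.Borel.BorelNorm
import Groth.Agent.L08.Borel.NormField
import Groth.Agent.L08.Borel.CentKernel
import Groth.Agent.L08.Borel.CartanPreimage

/-!
# Parabolic subgroups are closed and self-normalizing, over any base
-/

set_option autoImplicit false
set_option backward.isDefEq.respectTransparency.types false
set_option linter.style.haveILetI false
set_option linter.unusedSectionVars false

universe u

open CategoryTheory CategoryTheory.Limits MonoidalCategory CartesianMonoidalCategory MonObj GrpObj AlgebraicGeometry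
open Groth.L08.Borel

noncomputable section

namespace Groth.L14.ParabNorm

variable {S : Scheme.{u}}

set_option maxHeartbeats 800000 in
/-- a smooth subgroup whose geometric fibres are parabolic is closed, with connected fibres, and is its own normalizer -/
theorem isNormalizerOf_self {G P : Over S} [GrpObj G] [GrpObj P] [Smooth G.hom] [QuasiCompact G.hom]
    (hG : ∀ s : S, IsAffine (Red.geomFibre s G).left ∧ ConnectedSpace ↥(Red.geomFibre s G).left)
    (i : P ⟶ G) [IsMonHom i] [Mono i] [Smooth P.hom]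
    (hP : ∀ s : S, Red.IsParabolicOver (AlgebraicClosure (S.residueField s)) ((Over.pullback (Red.geomPt s)).map i)) :
    Red.IsNormalizerOf i i ∧ IsClosedImmersion i.left ∧
      ∀ s : S, ConnectedSpace ↥(Red.geomFibre s P).left := by
  have hconn : ∀ s : S, ConnectedSpace ↥(Red.geomFibre s P).left := fun s => by
    obtain ⟨ha, hc⟩ := hG s
    haveI := ha; haveI := hc
    haveI : Smooth (Red.geomFibre s G).hom := MorphismProperty.pullback_snd G.hom _ ‹_›
    exact connectedSpace_parabolicOver (hP s)
  obtain ⟨N, gN, n, f, hn, hnc, hNqc, hNl, hf, hfo⟩ := exists_open_normalizer i hconn fun s => by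
    obtain ⟨ha, hc⟩ := hG s
    haveI := ha; haveI := hc
    haveI : Smooth (Red.geomFibre s G).hom := MorphismProperty.pullback_snd G.hom _ ‹_›
    haveI : QuasiCompact (Red.geomFibre s G).hom := MorphismProperty.pullback_snd G.hom _ ‹_›
    obtain ⟨hm, hcl, hsm, B, gB, b, hB⟩ := hP s
    haveI := hm; haveI := hcl
    haveI := hB.1; haveI := hB.2.1; haveI := hB.2.2.1; haveI := hB.2.2.2.1
    haveI : QuasiCompact B.hom := by
      rw [← Over.w (b ≫ (Over.pullback (Red.geomPt s)).map i)]; infer_instance
    obtain ⟨T, gT, t, ht⟩ := exists_maxTorus_gen B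
    haveI := ht.1
    obtain ⟨C, gC, c, hc, -, -, -⟩ := exists_centralizer_gen t ht.2.2.1
    refine ⟨C, gC, c ≫ b, ?_⟩
    rw [Category.assoc]
    exact isCartanOver_comp_borel hB ⟨hc.1, hc.2.1, T, gT, t, isMaximalTorus_of_isMaxTorus ht, hc⟩
  haveI := hn.1; haveI := hn.2.1; haveI := hnc; haveI := hfo; haveI := hNl
  haveI : Mono (f ≫ n) := hf.symm ▸ ‹Mono i›
  haveI : Mono f := mono_of_mono f n
  haveI : Surjective f.left := surjective_of_geomFibres f fun s => by
    obtain ⟨ha, hc⟩ := hG s
    haveI := ha; haveI := hc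
    let F := Over.pullback (Red.geomPt s)
    haveI : Smooth (F.obj G).hom := MorphismProperty.pullback_snd G.hom _ ‹_›
    haveI : IsOpenImmersion (F.map f).left :=
      MorphismProperty.of_isPullback (P := @IsOpenImmersion) (Groth.L25.SchImage.isPullback_fst_map _ f) hfo
    haveI : LocallyOfFiniteType (F.obj N).hom := MorphismProperty.pullback_snd N.hom _ inferInstance
    refine ⟨fun z => by_contra fun hz => ?_⟩
    have hcl : IsClosed (Set.range (F.map f).left)ᶜ := (F.map f).left.isOpenEmbedding.isOpen_range.isClosed_compl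
    obtain ⟨x, hx⟩ := exists_pt_mem (X := F.obj N) hcl.isLocallyClosed ⟨z, fun ⟨a, ha⟩ => hz ⟨a, ha⟩⟩
    have hb := (isNormalizerOf_bc (Red.geomPt s) hn).2.2 _ (x ≫ F.map n)
    obtain ⟨hm, hci, hsm, B, gB, b, hB⟩ := hP s
    haveI := hm; haveI := hci
    obtain ⟨y, hy⟩ := mem_of_conj_borel (F.map i) hB b rfl _ (x ≫ F.map n) fun X' x' h => by
      obtain ⟨h', e⟩ := ((hb.1 ⟨x, rfl⟩) X' x' (h ≫ b)).2
      exact ⟨h', by rw [← e, Category.assoc]⟩
    haveI : Mono (F.map n) := Functor.map_mono _ _
    have hyx : y ≫ F.map f = x := by rw [← cancel_mono (F.map n), Category.assoc, ← Functor.map_comp, hf, hy]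
    exact hx ⟨y.left (IsLocalRing.closedPoint _), by rw [← hyx, ← Scheme.Hom.comp_apply]; rfl⟩
  haveI : Mono f.left := inferInstanceAs (Mono ((Over.forget S).map f))
  haveI : Flat f.left := inferInstance
  haveI : IsIso f := isIso_of_flat_mono f
  refine ⟨⟨inferInstance, inferInstance, fun X g => ⟨fun ⟨z, hz⟩ => (hn.2.2 X g).1 ⟨z ≫ f, by rw [Category.assoc, hf, hz]⟩,
    fun h => ?_⟩⟩, ?_, hconn⟩
  · obtain ⟨z, hz⟩ := (hn.2.2 X g).2 h
    exact ⟨z ≫ inv f, by rw [← hz, ← hf, Category.assoc, IsIso.inv_hom_id_assoc]⟩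
  · rw [← hf]
    haveI : IsIso f.left := inferInstanceAs (IsIso ((Over.forget S).map f))
    exact inferInstanceAs (IsClosedImmersion (f.left ≫ n.left))

end Groth.L14.ParabNorm
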