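import Groth.Prelude.Def_W4stktopologysheavesBas
import Mathlib.Topology.Sheaves.SheafCondition.UniqueGluing
import Mathlib.Topology.Sheaves.Sheaf

/-!
Sheaves of sets on a basis: checking on a cofinal system, and the extension to all opens.
-/

set_option autoImplicit false
set_option linter.style.haveILetI false

noncomputable section

universe u

open CategoryTheory TopologicalSpace Opposite

namespace Groth.L14.ShBasis

variable {X : Type u} [TopologicalSpace X] {B : Set (Opens X)}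

theorem exists_basis (hB : Opens.IsBasis B) {U : Opens X} {x : X} (hx : x ∈ U) :
    ∃ Y : B, x ∈ (Y : Opens X) ∧ (Y : Opens X) ≤ U := by
  obtain ⟨Y, hY, hxY, hYU⟩ := Opens.isBasis_iff_nbhd.mp hB hx
  exact ⟨⟨Y, hY⟩, hxY, hYU⟩

variable (F : ShB.Pre B)

/-- Sections over a member are determined on a covering. -/
def Separated : Prop :=
  ∀ (U : B) (ι : Type u) (V : ι → B) (hV : ∀ i, (V i : Opens X) ≤ (U : Opens X)),
    (U : Opens X) ≤ ⨆ i, (V i : Opens X) →
    ∀ t t' : F.obj U, (∀ i, F.res (hV i) t = F.res (hV i) t') → t = t'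

variable {F}

/-- Agreement on a covering of an overlap gives agreement on every member inside it. -/
theorem agree (hB : Opens.IsBasis B) (hsep : Separated F) (c : ShB.Cover B) (s : ∀ i, F.obj (c.V i))
    (hs : ∀ i j k, F.res (c.W_le_left i j k) (s i) = F.res (c.W_le_right i j k) (s j))
    (i j : c.ι) (Z : B) (hi : (Z : Opens X) ≤ c.V i) (hj : (Z : Opens X) ≤ c.V j) :
    F.res hi (s i) = F.res hj (s j) := by
  refine hsep Z {Y : B // (Y : Opens X) ≤ Z ∧ ∃ k, (Y : Opens X) ≤ c.W i j k} (fun Y => Y.1) (fun Y => Y.2.1)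
    ?_ _ _ ?_
  · intro x hx
    have hxW := c.W_cover i j ⟨hi hx, hj hx⟩
    obtain ⟨k, hk⟩ := Opens.mem_iSup.mp hxW
    obtain ⟨Y, hxY, hY⟩ := exists_basis hB (show x ∈ (Z : Opens X) ⊓ c.W i j k from ⟨hx, hk⟩)
    exact Opens.mem_iSup.mpr ⟨⟨Y, hY.trans inf_le_left, k, hY.trans inf_le_right⟩, hxY⟩
  · rintro ⟨Y, hYZ, k, hYW⟩
    rw [F.res_comp, F.res_comp]
    have := congrArg (F.res hYW) (hs i j k)
    rwa [F.res_comp, F.res_comp] at this

/-- The sheaf condition needs only be checked on a cofinal system. -/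
theorem isSheaf_of_cofinal (hB : Opens.IsBasis B) (C : ∀ U : B, Set (ShB.Cover B))
    (hCU : ∀ U, ∀ c ∈ C U, c.U = U)
    (hC : ∀ (U : B) (ι : Type u) (V : ι → B), (∀ i, (V i : Opens X) ≤ (U : Opens X)) →
      (U : Opens X) ≤ ⨆ i, (V i : Opens X) →
      ∃ c ∈ C U, ∀ i' : c.ι, ∃ i, (c.V i' : Opens X) ≤ (V i : Opens X))
    (h : ∀ U, ∀ c ∈ C U, ShB.GluesUniquely F c) : ShB.IsSheaf F := by
  have hsep : Separated F := by
    intro U ι V hV hcov t t' htt
    obtain ⟨c, hc, href⟩ := hC U ι V hV hcov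
    obtain rfl := hCU U c hc
    obtain ⟨t₀, -, huniq⟩ := h _ c hc (fun i => F.res (c.V_le i) t)
      (fun i j k => by rw [F.res_comp, F.res_comp])
    have h1 := huniq t (fun i => rfl)
    have h2 := huniq t' (fun i => by
      obtain ⟨j, hj⟩ := href i
      have := congrArg (F.res hj) (htt j)
      rw [F.res_comp, F.res_comp] at this
      exact this.symm)
    rw [h1, h2]
  intro c s hs
  obtain ⟨c', hc', href⟩ := hC c.U c.ι c.V c.V_le c.V_cover
  have hU : c'.U = c.U := hCU _ _ hc'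
  choose α hα using href
  obtain ⟨t, ht, -⟩ := h _ c' hc' (fun i' => F.res (hα i') (s (α i'))) (fun i' j' k => by
    rw [F.res_comp, F.res_comp]
    exact agree hB hsep c s hs _ _ _ _ _)
  refine ⟨F.res (le_of_eq (congrArg Subtype.val hU.symm)) t, fun i => ?_, fun t' ht' => ?_⟩
  · rw [F.res_comp]
    refine hsep (c.V i) {Y : B // (Y : Opens X) ≤ c.V i ∧ ∃ i', (Y : Opens X) ≤ c'.V i'} (fun Y => Y.1)
      (fun Y => Y.2.1) ?_ _ _ ?_
    · intro x hx
      have hxU : x ∈ (c'.U : Opens X) := hU.symm ▸ c.V_le i hx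
      obtain ⟨i', hi'⟩ := Opens.mem_iSup.mp (c'.V_cover hxU)
      obtain ⟨Y, hxY, hY⟩ := exists_basis hB (show x ∈ (c.V i : Opens X) ⊓ c'.V i' from ⟨hx, hi'⟩)
      exact Opens.mem_iSup.mpr ⟨⟨Y, hY.trans inf_le_left, i', hY.trans inf_le_right⟩, hxY⟩
    · rintro ⟨Y, hYV, i', hYW⟩
      have h1 := congrArg (F.res hYW) (ht i')
      rw [F.res_comp, F.res_comp] at h1
      rw [F.res_comp]
      exact h1.trans (agree hB hsep c s hs (α i') i Y (hYW.trans (hα i')) hYV)
  · refine hsep c.U c.ι c.V c.V_le c.V_cover _ _ fun i => ?_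
    rw [ht', F.res_comp]
    refine (hsep (c.V i) {Y : B // (Y : Opens X) ≤ c.V i ∧ ∃ i', (Y : Opens X) ≤ c'.V i'} (fun Y => Y.1)
      (fun Y => Y.2.1) ?_ _ _ ?_)
    · intro x hx
      have hxU : x ∈ (c'.U : Opens X) := hU.symm ▸ c.V_le i hx
      obtain ⟨i', hi'⟩ := Opens.mem_iSup.mp (c'.V_cover hxU)
      obtain ⟨Y, hxY, hY⟩ := exists_basis hB (show x ∈ (c.V i : Opens X) ⊓ c'.V i' from ⟨hx, hi'⟩)
      exact Opens.mem_iSup.mpr ⟨⟨Y, hY.trans inf_le_left, i', hY.trans inf_le_right⟩, hxY⟩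
    · rintro ⟨Y, hYV, i', hYW⟩
      have h1 := congrArg (F.res hYW) (ht i')
      rw [F.res_comp, F.res_comp] at h1
      rw [F.res_comp]
      exact (h1.trans (agree hB hsep c s hs (α i') i Y (hYW.trans (hα i')) hYV)).symm

theorem separated_of_isSheaf (hB : Opens.IsBasis B) (hF : ShB.IsSheaf F) : Separated F := by
  intro U ι V hV hcov t t' htt
  let c : ShB.Cover B :=
    { U := U, ι := ι, V := V, V_le := hV, V_cover := hcov
      κ := fun i j => {Y : B // (Y : Opens X) ≤ V i ∧ (Y : Opens X) ≤ V j}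
      W := fun _ _ Y => Y.1
      W_le_left := fun _ _ Y => Y.2.1
      W_le_right := fun _ _ Y => Y.2.2
      W_cover := fun i j x hx => by
        obtain ⟨Y, hxY, hY⟩ := exists_basis hB hx
        exact Opens.mem_iSup.mpr ⟨⟨Y, hY.trans inf_le_left, hY.trans inf_le_right⟩, hxY⟩ }
  obtain ⟨t₀, -, huniq⟩ := hF c (fun i => F.res (hV i) t) (fun i j k => by rw [F.res_comp, F.res_comp])
  rw [huniq t (fun i => rfl), huniq t' (fun i => (htt i).symm)]

variable (F)

/-- Compatible families over the members inside an open. -/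
def Ext (U : Opens X) : Type u :=
  {f : ∀ V : B, (V : Opens X) ≤ U → F.obj V //
    ∀ (V W : B) (hV : (V : Opens X) ≤ U) (hW : (W : Opens X) ≤ V), F.res hW (f V hV) = f W (hW.trans hV)}

/-- The extension of a presheaf on the basis to all opens. -/
def extPre : TopCat.Presheaf (Type u) (TopCat.of X) where
  obj U := Ext F U.unop
  map {U U'} g := TypeCat.ofHom fun f : Ext F U.unop =>
    (⟨fun V hV => f.1 V (hV.trans g.unop.le),
      fun V W hV hW => f.2 V W (hV.trans g.unop.le) hW⟩ : Ext F U'.unop)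
  map_id U := rfl
  map_comp g h := rfl

theorem extPre_isSheaf (hB : Opens.IsBasis B) (hF : ShB.IsSheaf F) :
    TopCat.Presheaf.IsSheaf (extPre F) := by
  rw [TopCat.Presheaf.isSheaf_iff_isSheafUniqueGluing_types]
  intro ι U sf hsf
  have hsep := separated_of_isSheaf hB hF
  have hval : ∀ (i j : ι) (Y : B) (hi : (Y : Opens X) ≤ U i) (hj : (Y : Opens X) ≤ U j),
      (sf i).1 Y hi = (sf j).1 Y hj := fun i j Y hi hj =>
    congrArg (fun f => (Subtype.val f) Y (le_inf hi hj)) (hsf i j)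
  let IV : ∀ _ : B, Type u := fun V => {Y : B // (Y : Opens X) ≤ V ∧ ∃ i, (Y : Opens X) ≤ U i}
  have hcov : ∀ V : B, (V : Opens X) ≤ iSup U → (V : Opens X) ≤ ⨆ Y : IV V, (Y.1 : Opens X) := by
    intro V hV x hx
    obtain ⟨i, hi⟩ := Opens.mem_iSup.mp (hV hx)
    obtain ⟨Y, hxY, hY⟩ := exists_basis hB (show x ∈ (V : Opens X) ⊓ U i from ⟨hx, hi⟩)
    exact Opens.mem_iSup.mpr ⟨⟨Y, hY.trans inf_le_left, i, hY.trans inf_le_right⟩, hxY⟩
  have hex : ∀ (V : B) (_ : (V : Opens X) ≤ iSup U), ∃! t : F.obj V,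
      ∀ (Y : B) (hYV : (Y : Opens X) ≤ V) (i : ι) (hi : (Y : Opens X) ≤ U i), F.res hYV t = (sf i).1 Y hi := by
    intro V hV
    let c : ShB.Cover B :=
      { U := V, ι := IV V, V := fun Y => Y.1, V_le := fun Y => Y.2.1, V_cover := hcov V hV
        κ := fun a b => {Y : B // (Y : Opens X) ≤ a.1 ∧ (Y : Opens X) ≤ b.1}
        W := fun _ _ Y => Y.1
        W_le_left := fun _ _ Y => Y.2.1
        W_le_right := fun _ _ Y => Y.2.2
        W_cover := fun i j x hx => by
          obtain ⟨Y, hxY, hY⟩ := exists_basis hB hx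
          exact Opens.mem_iSup.mpr ⟨⟨Y, hY.trans inf_le_left, hY.trans inf_le_right⟩, hxY⟩ }
    obtain ⟨t, ht, -⟩ := hF c (fun Y => (sf Y.2.2.choose).1 Y.1 Y.2.2.choose_spec) (fun a b Y => by
      rw [(sf _).2, (sf _).2]
      exact hval _ _ _ _ _)
    refine ⟨t, fun Y hYV i hi => ?_, fun t' ht' => ?_⟩
    · exact (ht (⟨Y, hYV, i, hi⟩ : IV V)).trans (hval _ _ _ _ _)
    · refine hsep V (IV V) (fun Y => Y.1) (fun Y => Y.2.1) (hcov V hV) t' t fun Y => ?_
      rw [ht' Y.1 Y.2.1 _ Y.2.2.choose_spec]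
      exact (ht Y).symm
  let t : Ext F (iSup U) :=
    ⟨fun V hV => (hex V hV).exists.choose, fun V W hV hW => by
      refine (hex W (hW.trans hV)).unique ?_ (hex W (hW.trans hV)).exists.choose_spec
      intro Y hY i hi
      rw [F.res_comp]
      exact (hex V hV).exists.choose_spec Y (hY.trans hW) i hi⟩
  refine ⟨t, fun i => ?_, fun t' ht' => ?_⟩
  · refine Subtype.ext (funext fun V => funext fun hV => ?_)
    have := (hex V (hV.trans (le_iSup U i))).exists.choose_spec V le_rfl i hV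
    rwa [F.res_id] at this
  · refine Subtype.ext (funext fun V => funext fun hV => ?_)
    refine (hex V hV).unique ?_ (hex V hV).exists.choose_spec
    intro Y hY i hi
    rw [t'.2]
    exact congrArg (fun f => (Subtype.val f) Y hi) (ht' i)

/-- The extension as a sheaf. -/
def extSheaf (hB : Opens.IsBasis B) (hF : ShB.IsSheaf F) : TopCat.Sheaf (Type u) (TopCat.of X) :=
  ⟨extPre F, extPre_isSheaf F hB hF⟩

/-- The restriction of the extension is the given presheaf. -/
def extIso : ShB.Iso (ShB.restrict B (extPre F)) F where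
  hom := { app := fun U f => f.1 U le_rfl, natural := fun h f => f.2 _ _ le_rfl h }
  inv :=
    { app := fun U s => (⟨fun V hV => F.res hV s, fun V W hV hW => F.res_comp hV hW s⟩ : Ext F (U : Opens X))
      natural := fun h s => Subtype.ext (funext fun V => funext fun hV => (F.res_comp h hV s).symm) }
  hom_inv U f := Subtype.ext (funext fun V => funext fun hV => f.2 U V le_rfl hV)
  inv_hom U s := F.res_id U s

variable {F}

/-- The comparison map of a sheaf with given restriction into the extension. -/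
def kappa {G : TopCat.Sheaf (Type u) (TopCat.of X)} (e : ShB.Iso (ShB.restrict B G.presheaf) F) (U : Opens X)
    (s : G.presheaf.obj (op U)) : Ext F U :=
  ⟨fun V hV => e.hom.app V (G.presheaf.map (homOfLE hV).op s), fun V W hV hW => by
    rw [e.hom.natural hW]
    congr 1
    change G.presheaf.map (homOfLE hW).op (G.presheaf.map (homOfLE hV).op s) = _
    rw [← FunctorToTypes.map_comp_apply, ← op_comp, homOfLE_comp]⟩

theorem kappa_natural {G : TopCat.Sheaf (Type u) (TopCat.of X)} (e : ShB.Iso (ShB.restrict B G.presheaf) F)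
    {U U' : Opens X} (g : U' ⟶ U) (s : G.presheaf.obj (op U)) (V : B) (hV : (V : Opens X) ≤ U') :
    (kappa e U' (G.presheaf.map g.op s)).1 V hV = (kappa e U s).1 V (hV.trans g.le) := by
  change e.hom.app V (G.presheaf.map (homOfLE hV).op (G.presheaf.map g.op s)) = _
  rw [← FunctorToTypes.map_comp_apply, ← op_comp]
  rfl

/-- Sections of a sheaf agreeing on the members inside an open agree. -/
theorem ext_of_basis (hB : Opens.IsBasis B) (G : TopCat.Sheaf (Type u) (TopCat.of X)) (U : Opens X)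
    (s s' : G.presheaf.obj (op U))
    (h : ∀ (Y : B) (hY : (Y : Opens X) ≤ U), G.presheaf.map (homOfLE hY).op s = G.presheaf.map (homOfLE hY).op s') :
    s = s' := by
  have hG := (TopCat.Presheaf.isSheaf_iff_isSheafUniqueGluing_types G.presheaf).mp G.property
  let V : {Y : B // (Y : Opens X) ≤ U} → Opens X := fun Y => (Y.1 : Opens X)
  have hU : U = iSup V := le_antisymm (fun x hx => by
    obtain ⟨Y, hxY, hY⟩ := exists_basis hB hx
    exact Opens.mem_iSup.mpr ⟨⟨Y, hY⟩, hxY⟩) (iSup_le fun Y => Y.2)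
  have hUiso : ∀ s : G.presheaf.obj (op U),
      G.presheaf.map (eqToHom hU).op (G.presheaf.map (eqToHom hU.symm).op s) = s := fun s => by
    rw [← FunctorToTypes.map_comp_apply, ← op_comp]
    simp
  have hres : ∀ (Y : {Y : B // (Y : Opens X) ≤ U}) (s : G.presheaf.obj (op U)),
      G.presheaf.map (Opens.leSupr V Y).op (G.presheaf.map (eqToHom hU.symm).op s) =
        G.presheaf.map (homOfLE Y.2).op s := fun Y s => by
    rw [← FunctorToTypes.map_comp_apply, ← op_comp]
    rfl
  obtain ⟨t, -, huniq⟩ := hG V (fun Y => G.presheaf.map (homOfLE Y.2).op s) (fun i j => by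
    rw [← FunctorToTypes.map_comp_apply, ← FunctorToTypes.map_comp_apply]
    rfl)
  have h1 := huniq (G.presheaf.map (eqToHom hU.symm).op s) (fun Y => hres Y s)
  have h2 := huniq (G.presheaf.map (eqToHom hU.symm).op s') (fun Y => (hres Y s').trans (h Y.1 Y.2).symm)
  rw [← hUiso s, ← hUiso s', h1, h2]

theorem kappa_bijective (hB : Opens.IsBasis B) {G : TopCat.Sheaf (Type u) (TopCat.of X)}
    (e : ShB.Iso (ShB.restrict B G.presheaf) F) (U : Opens X) : Function.Bijective (kappa e U) := by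
  have hG := (TopCat.Presheaf.isSheaf_iff_isSheafUniqueGluing_types G.presheaf).mp G.property
  let V : {Y : B // (Y : Opens X) ≤ U} → Opens X := fun Y => (Y.1 : Opens X)
  have hU : U = iSup V := le_antisymm (fun x hx => by
    obtain ⟨Y, hxY, hY⟩ := exists_basis hB hx
    exact Opens.mem_iSup.mpr ⟨⟨Y, hY⟩, hxY⟩) (iSup_le fun Y => Y.2)
  constructor
  · intro s s' hss
    refine ext_of_basis hB G U s s' fun Y hY => ?_
    exact (e.hom_inv Y _).symm.trans ((congrArg (fun f : Ext F U => e.inv.app Y (f.1 Y hY)) hss).trans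
      (e.hom_inv Y _))
  · intro f
    let sf : ∀ Y : {Y : B // (Y : Opens X) ≤ U}, G.presheaf.obj (op (V Y)) :=
      fun Y => e.inv.app Y.1 (f.1 Y.1 Y.2)
    have hcompat : TopCat.Presheaf.IsCompatible G.presheaf V sf := by
      intro a b
      refine ext_of_basis hB G _ _ _ fun Z hZ => ?_
      have hrest : ∀ (Y : {Y : B // (Y : Opens X) ≤ U}) (hle : (Z : Opens X) ≤ V Y),
          G.presheaf.map (homOfLE hle).op (sf Y) = e.inv.app Z (f.1 Z (hle.trans Y.2)) := fun Y hle => by
        have h1 : G.presheaf.map (homOfLE hle).op (sf Y) = e.inv.app Z (F.res hle (f.1 Y.1 Y.2)) :=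
          e.inv.natural (U := Y.1) (V := Z) hle _
        rwa [f.2] at h1
      rw [← FunctorToTypes.map_comp_apply, ← FunctorToTypes.map_comp_apply]
      exact (hrest a (hZ.trans inf_le_left)).trans (hrest b (hZ.trans inf_le_right)).symm
    obtain ⟨t, ht, -⟩ := hG V sf hcompat
    refine ⟨G.presheaf.map (eqToHom hU).op t, Subtype.ext (funext fun Y => funext fun hY => ?_)⟩
    change e.hom.app Y (G.presheaf.map (homOfLE hY).op (G.presheaf.map (eqToHom hU).op t)) = f.1 Y hY
    rw [← FunctorToTypes.map_comp_apply, ← op_comp]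
    exact (congrArg (e.hom.app Y) (ht ⟨Y, hY⟩)).trans (e.inv_hom Y _)

/-- The comparison as an isomorphism of presheaves. -/
def kappaIso (hB : Opens.IsBasis B) {G : TopCat.Sheaf (Type u) (TopCat.of X)}
    (e : ShB.Iso (ShB.restrict B G.presheaf) F) : G.presheaf ≅ extPre F :=
  NatIso.ofComponents (fun U => (Equiv.ofBijective _ (kappa_bijective hB e U.unop)).toIso) fun {U U'} g => by
    ext s
    exact Subtype.ext (funext fun V => funext fun hV => kappa_natural e g.unop s V hV)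

theorem kappaIso_apply (hB : Opens.IsBasis B) {G : TopCat.Sheaf (Type u) (TopCat.of X)}
    (e : ShB.Iso (ShB.restrict B G.presheaf) F) (U : (Opens X)ᵒᵖ) (s : G.presheaf.obj U) :
    (kappaIso hB e).hom.app U s = kappa e U.unop s := rfl

theorem exists_ext (hB : Opens.IsBasis B) (hF : ShB.IsSheaf F) :
    ∃ G : TopCat.Sheaf (Type u) (TopCat.of X), Nonempty (ShB.Iso (ShB.restrict B G.presheaf) F) :=
  ⟨extSheaf F hB hF, ⟨extIso F⟩⟩

theorem existsUnique_iso (hB : Opens.IsBasis B) (G G' : TopCat.Sheaf (Type u) (TopCat.of X))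
    (e : ShB.Iso (ShB.restrict B G.presheaf) F) (e' : ShB.Iso (ShB.restrict B G'.presheaf) F) :
    ∃! φ : G ⟶ G', IsIso φ ∧ ∀ (U : B) (s : G.presheaf.obj (op (U : Opens X))),
      e'.hom.app U (φ.1.app (op (U : Opens X)) s) = e.hom.app U s := by
  let i : G.presheaf ≅ G'.presheaf := kappaIso hB e ≪≫ (kappaIso hB e').symm
  let φ : G ⟶ G' := ⟨i.hom⟩
  let ψ : G' ⟶ G := ⟨i.inv⟩
  have hkey : ∀ (U : B) (s : G.presheaf.obj (op (U : Opens X))),
      e'.hom.app U (i.hom.app (op (U : Opens X)) s) = e.hom.app U s := by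
    intro U s
    have h1 : kappa e' (U : Opens X) (i.hom.app (op (U : Opens X)) s) = kappa e (U : Opens X) s :=
      (Equiv.ofBijective _ (kappa_bijective hB e' (U : Opens X))).apply_symm_apply _
    have h2 := congrArg (fun f : Ext F (U : Opens X) => f.1 U le_rfl) h1
    change e'.hom.app U (G'.presheaf.map (homOfLE le_rfl).op _) = e.hom.app U (G.presheaf.map (homOfLE le_rfl).op _) at h2
    simpa using h2
  refine ⟨φ, ⟨⟨⟨ψ, ?_, ?_⟩⟩, hkey⟩, fun φ' hφ' => ?_⟩
  · exact ObjectProperty.hom_ext _ i.hom_inv_id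
  · exact ObjectProperty.hom_ext _ i.inv_hom_id
  · refine ObjectProperty.hom_ext _ (NatTrans.ext (funext fun U => ?_))
    ext s
    refine ext_of_basis hB G' U.unop _ _ fun Y hY => ?_
    have hn : ∀ (α : G.presheaf ⟶ G'.presheaf),
        G'.presheaf.map (homOfLE hY).op (α.app U s) = α.app (op (Y : Opens X)) (G.presheaf.map (homOfLE hY).op s) :=
      fun α => (FunctorToTypes.naturality α (homOfLE hY).op s).symm
    refine (hn φ'.1).trans (Eq.trans ?_ (hn i.hom).symm)
    refine (e'.hom_inv Y _).symm.trans (Eq.trans ?_ (e'.hom_inv Y _))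
    rw [hφ'.2, hkey]

end Groth.L14.ShBasis

namespace Groth.L14.ShBasis

variable {X : Type u} [TopologicalSpace X] {B : Set (Opens X)}

theorem germ_res (F : ShB.Pre B) {U W : B} (h : (W : Opens X) ≤ U) (x : X) (hx : x ∈ (W : Opens X)) (s : F.obj U) :
    ShB.germ F x hx (F.res h s) = ShB.germ F x (h hx) s :=
  Quot.sound ⟨W, hx, le_rfl, h, by rw [F.res_id]⟩

theorem exists_agree_of_germ_eq (hB : Opens.IsBasis B) (F : ShB.Pre B) (x : X)
    (a b : Σ U : {U : B // x ∈ (U : Opens X)}, F.obj U.1)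
    (h : (Quot.mk (ShB.StalkRel F x) a) = Quot.mk (ShB.StalkRel F x) b) : ShB.StalkRel F x a b := by
  have he : Relation.EqvGen (ShB.StalkRel F x) a b := Quot.eqvGen_exact h
  clear h
  induction he with
  | rel a b h => exact h
  | refl a => exact ⟨a.1.1, a.1.2, le_rfl, le_rfl, rfl⟩
  | symm a b _ h =>
    obtain ⟨W, hx, ha, hb, e⟩ := h
    exact ⟨W, hx, hb, ha, e.symm⟩
  | trans a b c _ _ h h' =>
    obtain ⟨W, hx, ha, hb, e⟩ := h
    obtain ⟨W', hx', hb', hc, e'⟩ := h'
    obtain ⟨Y, hxY, hY⟩ := exists_basis hB (show x ∈ (W : Opens X) ⊓ W' from ⟨hx, hx'⟩)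
    refine ⟨Y, hxY, (hY.trans inf_le_left).trans ha, (hY.trans inf_le_right).trans hc, ?_⟩
    have h1 := congrArg (F.res (hY.trans inf_le_left)) e
    have h2 := congrArg (F.res (hY.trans inf_le_right)) e'
    rw [F.res_comp, F.res_comp] at h1 h2
    exact h1.trans h2

theorem germ_injective (hB : Opens.IsBasis B) {F : ShB.Pre B} (hF : ShB.IsSheaf F) (U : B) (s s' : F.obj U)
    (h : ∀ x (hx : x ∈ (U : Opens X)), ShB.germ F x hx s = ShB.germ F x hx s') : s = s' := by
  refine separated_of_isSheaf hB hF U {W : B // ∃ hW : (W : Opens X) ≤ U, F.res hW s = F.res hW s'}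
    (fun W => W.1) (fun W => W.2.1) ?_ s s' (fun W => W.2.2)
  intro x hx
  obtain ⟨W, hxW, ha, hb, e⟩ := exists_agree_of_germ_eq hB F x _ _ (h x hx)
  exact Opens.mem_iSup.mpr ⟨⟨W, ha, e⟩, hxW⟩

theorem germ_glue (hB : Opens.IsBasis B) {F : ShB.Pre B} (hF : ShB.IsSheaf F) (U : B)
    (f : ∀ x : (U : Opens X), ShB.Stalk F x.1)
    (h : ∀ x : (U : Opens X), ∃ (V : B) (_ : x.1 ∈ (V : Opens X)) (hVU : (V : Opens X) ≤ U) (σ : F.obj V),
      ∀ (y : X) (hy : y ∈ (V : Opens X)), ShB.germ F y hy σ = f ⟨y, hVU hy⟩) :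
    ∃ s : F.obj U, ∀ x, ShB.germ F x.1 x.2 s = f x := by
  choose V hxV hVU σ hσ using h
  let c : ShB.Cover B :=
    { U := U, ι := (U : Opens X), V := V, V_le := hVU
      V_cover := fun x hx => Opens.mem_iSup.mpr ⟨⟨x, hx⟩, hxV ⟨x, hx⟩⟩
      κ := fun a b => {Y : B // (Y : Opens X) ≤ V a ∧ (Y : Opens X) ≤ V b}
      W := fun _ _ Y => Y.1
      W_le_left := fun _ _ Y => Y.2.1
      W_le_right := fun _ _ Y => Y.2.2
      W_cover := fun a b x hx => by
        obtain ⟨Y, hxY, hY⟩ := exists_basis hB hx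
        exact Opens.mem_iSup.mpr ⟨⟨Y, hY.trans inf_le_left, hY.trans inf_le_right⟩, hxY⟩ }
  obtain ⟨t, ht, -⟩ := hF c σ fun a b Y => germ_injective hB hF _ _ _ fun y hy => by
    rw [germ_res, germ_res, hσ, hσ]
  refine ⟨t, fun x => ?_⟩
  rw [← germ_res F (hVU x) x.1 (hxV x) t, show F.res (hVU x) t = σ x from ht x]
  exact hσ x x.1 (hxV x)

end Groth.L14.ShBasis
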