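import Groth.Agent.L28.EsymmFree
import Mathlib.RingTheory.Ideal.Quotient.Defs
import Mathlib.RingTheory.Ideal.Maps

/-!
The monomial basis `t^d`, `d i < n - i`, of polynomials over symmetric polynomials.
-/

set_option autoImplicit false
universe u

namespace Groth.Agent.L14.SymBasisMon

open MvPolynomial Groth.L28.EsymmFree

abbrev D (n : ℕ) := Π i : Fin n, Fin (n - (i : ℕ))

noncomputable def mon (R : Type u) [CommRing R] (n : ℕ) (d : D n) : MvPolynomial (Fin n) R :=
  ∏ i : Fin n, X i ^ ((d i : ℕ))

noncomputable def S (R : Type u) [CommRing R] (n : ℕ) (p : D n → MvPolynomial (Fin n) R) :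
    MvPolynomial (Fin n) R :=
  ∑ d : D n, f R n (p d) * mon R n d

/-- split off the first exponent -/
def split (r : ℕ) : D (r + 1) ≃ D r × Fin (r + 1) where
  toFun d := (fun i => ⟨d i.succ, by have := (d i.succ).2; simp at this; omega⟩,
    ⟨d 0, by have := (d 0).2; simp at this; omega⟩)
  invFun kj i := Fin.cases (motive := fun i : Fin (r + 1) => Fin (r + 1 - (i : ℕ)))
    ⟨kj.2, by have := kj.2.2; simp; omega⟩
    (fun i => ⟨kj.1 i, by have := (kj.1 i).2; simp⟩) i
  left_inv d := by
    funext i
    induction i using Fin.cases <;> rfl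
  right_inv kj := rfl

theorem bijective : ∀ (n : ℕ) (R : Type u) [CommRing R], Function.Bijective (S R n) := by
  intro r
  induction r with
  | zero =>
    intro R _
    have hf : f R 0 = AlgHom.id R _ := algHom_ext fun i => i.elim0
    let E : (D 0 → MvPolynomial (Fin 0) R) ≃ MvPolynomial (Fin 0) R :=
      Equiv.funUnique (D 0) (MvPolynomial (Fin 0) R)
    convert E.bijective using 1
    funext p
    simp [S, mon, hf, E, Fintype.sum_unique]
  | succ r ih =>
    intro R _
    have hfg : ∀ p, e R r (f R (r + 1) p) = f (Polynomial R) r (g R r p) := by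
      suffices h : (e R r).toAlgHom.comp (f R (r + 1)) =
          ((f (Polynomial R) r).restrictScalars R).comp (g R r) from fun p => DFunLike.congr_fun h p
      refine algHom_ext fun i => ?_
      have e1 : f R (r + 1) (X i) = esymm (Fin (r + 1)) R ((i : ℕ) + 1) := by simp [f]
      have e2 : g R r (X i) = Groth.L28.EsymmFree.S R r ((i : ℕ) + 1) +
          x R r * Groth.L28.EsymmFree.S R r (i : ℕ) := by simp [g]
      have e3 : f (Polynomial R) r (x R r) = x R r := by simp [f, x]
      simp only [AlgHom.comp_apply, AlgHom.restrictScalars_apply, e1, e2, map_add, map_mul, e3,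
        ← esymm_eq_S]
      exact e_esymm r _
    have h0 : e R r (X 0) = x R r := by simp [e, x, optionEquivRight_X_none]
    have hs : ∀ i : Fin r, e R r (X i.succ) = X i := by simp [e, optionEquivRight_X_some]
    have e3 : ∀ j : ℕ, f (Polynomial R) r (x R r ^ j) = x R r ^ j := by simp [f, x]
    let A : (D (r + 1) → MvPolynomial (Fin (r + 1)) R) ≃
        (D r → Fin (r + 1) → MvPolynomial (Fin (r + 1)) R) :=
      ((split r).symm.arrowCongr (Equiv.refl _)).symm.trans (Equiv.curry _ _ _)
    have hcomp := ((e R r).symm.bijective.comp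
      ((ih (Polynomial R)).comp
        (Function.Bijective.piMap fun _ : D r => bijective_pow_x (R := R) r))).comp A.bijective
    convert hcomp using 1
    funext p
    refine Eq.trans ((split r).symm.sum_comp (fun d => f R (r + 1) (p d) * mon R (r + 1) d)).symm ?_
    apply (e R r).injective
    simp only [Function.comp_apply, AlgEquiv.apply_symm_apply, map_sum, map_mul, hfg, S, Pi.map_apply]
    rw [Fintype.sum_prod_type]
    refine Finset.sum_congr rfl fun k _ => ?_
    rw [Finset.sum_mul]
    refine Finset.sum_congr rfl fun j _ => ?_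
    rw [e3]
    have hm : e R r (mon R (r + 1) ((split r).symm (k, j))) = x R r ^ (j : ℕ) * mon (Polynomial R) r k := by
      simp only [mon, Fin.prod_univ_succ, map_mul, map_pow, map_prod, h0, hs]
      rfl
    rw [hm]
    simp [A, mul_assoc]

variable {R : Type u} [CommRing R] {n : ℕ}

/-- the substitution `c ↦ a` -/
lemma mk_f (a : Fin n → R) (p : MvPolynomial (Fin n) R) :
    Ideal.Quotient.mk (Ideal.span (Set.range fun i : Fin n => esymm (Fin n) R ((i : ℕ) + 1) - C (a i)))
        (f R n p) =
      Ideal.Quotient.mk _ (C (eval a p)) := by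
  set I := Ideal.span (Set.range fun i : Fin n => esymm (Fin n) R ((i : ℕ) + 1) - C (a i))
  suffices h : (Ideal.Quotient.mk I).comp (f R n).toRingHom =
      ((Ideal.Quotient.mk I).comp (C : R →+* MvPolynomial (Fin n) R)).comp (eval a) from
    RingHom.congr_fun h p
  refine ringHom_ext (fun r => by simp [f]) (fun i => ?_)
  have : esymm (Fin n) R ((i : ℕ) + 1) - C (a i) ∈ I := Ideal.subset_span ⟨i, rfl⟩
  simpa [f] using (Ideal.Quotient.eq.2 this)

noncomputable def coords (a : Fin n → R) (y : MvPolynomial (Fin n) R) (d : D n) : R :=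
  eval a ((Equiv.ofBijective _ (bijective n R)).symm y d)

lemma mk_eq_sum (a : Fin n → R) (y : MvPolynomial (Fin n) R) :
    y - ∑ d : D n, C (coords a y d) * mon R n d ∈
      Ideal.span (Set.range fun i : Fin n => esymm (Fin n) R ((i : ℕ) + 1) - C (a i)) := by
  set p := (Equiv.ofBijective _ (bijective n R)).symm y
  have hy : y = ∑ d : D n, f R n (p d) * mon R n d :=
    ((Equiv.ofBijective _ (bijective n R)).apply_symm_apply y).symm
  rw [← Ideal.Quotient.eq]
  conv_lhs => rw [hy]
  simp only [map_sum, map_mul, mk_f a]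
  rfl

lemma coords_add (a : Fin n → R) (y z : MvPolynomial (Fin n) R) :
    coords a (y + z) = coords a y + coords a z := by
  obtain ⟨p, rfl⟩ := (bijective n R).2 y
  obtain ⟨q, rfl⟩ := (bijective n R).2 z
  funext d
  have : S R n p + S R n q = S R n (p + q) := by
    simp [S, add_mul, Finset.sum_add_distrib]
  simp only [coords, Pi.add_apply, this, Equiv.ofBijective_symm_apply_apply, map_add]

lemma coords_mul (a : Fin n → R) (q y : MvPolynomial (Fin n) R) :
    coords a (f R n q * y) = eval a q • coords a y := by
  obtain ⟨p, rfl⟩ := (bijective n R).2 y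
  funext d
  have : f R n q * S R n p = S R n (fun d => q * p d) := by
    simp [S, Finset.mul_sum, mul_assoc]
  simp only [coords, Pi.smul_apply, this, Equiv.ofBijective_symm_apply_apply, map_mul, smul_eq_mul]

lemma coords_sum (a : Fin n → R) (α : D n → R) :
    coords a (∑ d : D n, C (α d) * mon R n d) = α := by
  funext d
  have : (∑ d : D n, C (α d) * mon R n d) = S R n (fun d => C (α d)) := by
    simp [S, f]
  simp only [coords, this, Equiv.ofBijective_symm_apply_apply, eval_C]

lemma coords_mem (a : Fin n → R) (J : Ideal R) {y : MvPolynomial (Fin n) R}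
    (hy : y ∈ Ideal.span (Set.range fun i : Fin n => esymm (Fin n) R ((i : ℕ) + 1) - C (a i))
      ⊔ Ideal.map (C : R →+* MvPolynomial (Fin n) R) J) (d : D n) : coords a y d ∈ J := by
  rw [Ideal.map, ← Ideal.span_union] at hy
  refine Submodule.span_induction (p := fun y _ => ∀ z, coords a (z * y) d ∈ J) ?_ ?_ ?_ ?_ hy 1
    |> (by simpa using ·)
  · rintro y (⟨i, rfl⟩ | ⟨r, hr, rfl⟩) z
    · have e1 : z * (esymm (Fin n) R ((i : ℕ) + 1) - C (a i)) =
          f R n (X i - C (a i)) * z := by simp [f]; ring
      rw [e1, coords_mul]; simp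
    · have e1 : z * C r = f R n (C r) * z := by simp [f, mul_comm]
      rw [e1, coords_mul, eval_C]
      exact J.mul_mem_right _ hr
  · intro z
    have := coords_sum a (0 : D n → R)
    simp at this
    simp [this]
  · intro y w _ _ h1 h2 z
    rw [mul_add, coords_add]
    exact J.add_mem (h1 z) (h2 z)
  · intro c y _ h z
    rw [smul_eq_mul, ← mul_assoc]
    exact h _

end Groth.Agent.L14.SymBasisMon
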