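import Mathlib.NumberTheory.Bernoulli
import Mathlib.NumberTheory.ZetaValues
import Mathlib.RingTheory.PowerSeries.Inverse
import Mathlib.RingTheory.PowerSeries.Exp
import Mathlib.Algebra.Polynomial.Eval.Degree
import Mathlib.Algebra.Polynomial.Degree.Lemmas

namespace Groth.L14.Todd

open PowerSeries Finset
open scoped Nat

local notation "BB" => bernoulli'PowerSeries ℚ

def Binv : PowerSeries ℚ := PowerSeries.mk fun m => (-1) ^ m / ((m + 1)! : ℚ)

theorem coeff_BB (n : ℕ) : coeff n BB = bernoulli' n / (n ! : ℚ) := by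
  simp [bernoulli'PowerSeries]

theorem exp_ne_one : exp ℚ - 1 ≠ 0 := by
  intro h
  have := congrArg (coeff 1) h
  simp at this

theorem BB_neg : BB = rescale (-1 : ℚ) BB * exp ℚ := by
  have h := bernoulli'PowerSeries_mul_exp_sub_one ℚ
  have h' := congrArg (rescale (-1 : ℚ)) h
  simp only [map_mul, map_sub, map_one, rescale_X] at h'
  have he : exp ℚ * rescale (-1 : ℚ) (exp ℚ) = 1 := exp_mul_exp_neg_eq_one
  apply mul_right_cancel₀ exp_ne_one
  rw [h]
  simp only [map_neg, map_one] at h'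
  linear_combination (exp ℚ * exp ℚ) * h' + (-(rescale (-1 : ℚ) BB) * exp ℚ - X * exp ℚ) * he

theorem BB_Binv : BB * Binv = 1 := by
  have hX : X * Binv = 1 - rescale (-1 : ℚ) (exp ℚ) := by
    ext n
    rcases n with _ | n
    · rw [coeff_zero_eq_constantCoeff, map_sub, ← coeff_zero_eq_constantCoeff_apply (rescale _ _), coeff_rescale]
      simp [Binv]
    · simp only [coeff_succ_X_mul, Binv, coeff_mk, map_sub, coeff_one, Nat.succ_ne_zero, if_false,
        coeff_rescale, coeff_exp, zero_sub, eq_ratCast, Rat.cast_id]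
      rw [pow_succ]; ring
  have h := bernoulli'PowerSeries_mul_exp_sub_one ℚ
  have he : exp ℚ * rescale (-1 : ℚ) (exp ℚ) = 1 := exp_mul_exp_neg_eq_one
  apply mul_left_cancel₀ (X_ne_zero (R := ℚ))
  rw [mul_one, mul_left_comm, hX]
  linear_combination rescale (-1 : ℚ) (exp ℚ) * h + (X - BB) * he

noncomputable def Ex (c : ℚ) : PowerSeries ℚ := rescale c (exp ℚ)

theorem Ex_add (a b : ℚ) : Ex a * Ex b = Ex (a + b) := exp_mul_exp_eq_exp_add a b

/-- the p-independent factor -/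
noncomputable def R0 (n d : ℕ) (t : ℚ) : PowerSeries ℚ :=
  rescale (-(d : ℚ)) Binv * BB ^ (n + 1) * Ex t

noncomputable def F (n d p : ℕ) (u : ℚ) : PowerSeries ℚ :=
  (rescale (-(d : ℚ)) BB)⁻¹ * rescale (-((d : ℚ) * p)) BB * BB ^ (n + 1) * rescale u (exp ℚ)

theorem F_eq (n d p : ℕ) (u : ℚ) :
    F n d p u = rescale ((d : ℚ) * p) BB * R0 n d (u - (d : ℚ) * p) := by
  have h1 : (rescale (-(d : ℚ)) BB)⁻¹ = rescale (-(d : ℚ)) Binv := by
    rw [eq_comm, PowerSeries.eq_inv_iff_mul_eq_one, ← map_mul, mul_comm, BB_Binv, map_one]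
    rw [← coeff_zero_eq_constantCoeff_apply, coeff_rescale, coeff_BB]
    simp
  have h2 : rescale ((d : ℚ) * p) BB = rescale (-((d : ℚ) * p)) BB * Ex ((d : ℚ) * p) := by
    conv_lhs => rw [BB_neg, map_mul, rescale_rescale, neg_one_mul]
    rfl
  have h3 : rescale u (exp ℚ) = Ex ((d : ℚ) * p) * Ex (u - (d : ℚ) * p) := by
    rw [Ex_add, add_sub_cancel]; rfl
  rw [F, R0, h1, h2, h3]
  ring

theorem R0_zero (n d : ℕ) (t : ℚ) : coeff 0 (R0 n d t) = 1 := by
  have h : constantCoeff BB = 1 := by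
    rw [← coeff_zero_eq_constantCoeff_apply, coeff_BB]; simp
  have h2 : constantCoeff (rescale (-(d : ℚ)) Binv) = 1 := by
    rw [← coeff_zero_eq_constantCoeff_apply, coeff_rescale]; simp [Binv]
  have h3 : constantCoeff (Ex t) = 1 := by
    rw [← coeff_zero_eq_constantCoeff_apply, Ex, coeff_rescale]; simp
  simp [R0, map_pow, h, h2, h3]

theorem R0_one (n d : ℕ) (t : ℚ) : coeff 1 (R0 n d t) = (d : ℚ) / 2 + ((n : ℚ) + 1) / 2 + t := by
  have h0 : constantCoeff BB = 1 := by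
    rw [← coeff_zero_eq_constantCoeff_apply, coeff_BB]; simp
  have hp : ∀ m : ℕ, coeff 1 (BB ^ m) = (m : ℚ) / 2 := by
    intro m
    induction m with
    | zero => simp
    | succ m ih =>
      rw [pow_succ, coeff_mul, Finset.Nat.sum_antidiagonal_succ, Finset.Nat.antidiagonal_zero, Finset.sum_singleton]
      simp only [ih, coeff_zero_eq_constantCoeff, map_pow, h0, one_pow, coeff_BB, bernoulli'_one]
      simp; ring
  simp only [R0, coeff_mul, Finset.Nat.sum_antidiagonal_succ, Finset.Nat.antidiagonal_zero, Finset.sum_singleton,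
    hp, coeff_zero_eq_constantCoeff, map_pow, h0, coeff_rescale, Binv, Ex, coeff_mk, coeff_exp]

  norm_num [coeff_BB, bernoulli'_zero, bernoulli'_one, Nat.factorial]
  ring

theorem coeff_leading (n d : ℕ) (t : ℚ) (hn : 2 ≤ n) :
    ∃ P : Polynomial ℚ, P.natDegree ≤ n - 2 ∧ ∀ p : ℕ,
      coeff n (F n d p ((d : ℚ) * p + t)) =
        bernoulli' n * ((d : ℚ) * p) ^ n / (n ! : ℚ) +
          ((d : ℚ) / 2 + ((n : ℚ) + 1) / 2 + t) * bernoulli' (n - 1) * ((d : ℚ) * p) ^ (n - 1) / ((n - 1)! : ℚ) +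
          P.eval (p : ℚ) := by
  obtain ⟨m, rfl⟩ : ∃ m, n = m + 2 := ⟨n - 2, by omega⟩
  refine ⟨∑ i ∈ range (m + 1), Polynomial.C (bernoulli' i / (i ! : ℚ) * (d : ℚ) ^ i *
    coeff (m + 2 - i) (R0 (m + 2) d t)) * Polynomial.X ^ i, ?_, ?_⟩
  · refine Polynomial.natDegree_sum_le_of_forall_le _ _ fun i hi => ?_
    refine le_trans (Polynomial.natDegree_C_mul_X_pow_le _ _) ?_
    simp at hi; omega
  · intro p
    rw [F_eq, add_sub_cancel_left, coeff_mul,
      Finset.Nat.sum_antidiagonal_eq_sum_range_succ (fun a b => coeff a (rescale ((d : ℚ) * p) BB) * coeff b (R0 (m + 2) d t)),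
      Finset.sum_range_succ, Finset.sum_range_succ]
    simp only [Polynomial.eval_finsetSum, Polynomial.eval_mul, Polynomial.eval_C, Polynomial.eval_pow,
      Polynomial.eval_X, coeff_rescale, coeff_BB, Nat.sub_self, R0_zero,
      show m + 2 - (m + 1) = 1 by omega, R0_one, show m + 1 + 1 = m + 2 by omega,
      show m + 2 - 1 = m + 1 by omega]
    rw [Finset.sum_congr rfl (fun i _ => show ((d : ℚ) * p) ^ i * (bernoulli' i / (i ! : ℚ)) * coeff (m + 2 - i) (R0 (m + 2) d t)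
      = bernoulli' i / (i ! : ℚ) * (d : ℚ) ^ i * coeff (m + 2 - i) (R0 (m + 2) d t) * (p : ℚ) ^ i by rw [mul_pow]; ring)]
    ring

theorem bernoulli'_sign (k : ℕ) (hk : k ≠ 0) : 0 < (-1 : ℚ) ^ (k + 1) * bernoulli' (2 * k) := by
  have h := hasSum_zeta_nat hk
  have hpos : 0 < (-1 : ℝ) ^ (k + 1) * (2 : ℝ) ^ (2 * k - 1) * Real.pi ^ (2 * k) *
      bernoulli (2 * k) / (2 * k)! := by
    rw [← h.tsum_eq]
    exact h.summable.tsum_pos (fun n => by positivity) 1 (by norm_num)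
  rw [← bernoulli_eq_bernoulli'_of_ne_one (by omega)]
  have h2 : (0 : ℝ) < (((-1 : ℚ) ^ (k + 1) * bernoulli (2 * k) : ℚ) : ℝ) := by
    push_cast
    have hc : (0 : ℝ) < (2 : ℝ) ^ (2 * k - 1) * Real.pi ^ (2 * k) / (2 * k)! := by positivity
    refine pos_of_mul_pos_right (a := (2 : ℝ) ^ (2 * k - 1) * Real.pi ^ (2 * k) / (2 * k)!) ?_ hc.le
    calc (0:ℝ) < _ := hpos
      _ = _ := by ring
  exact_mod_cast h2

theorem eventually_neg (m : ℕ) (c : ℚ) (hc : c < 0) (P : Polynomial ℚ) (hP : P.natDegree < m) :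
    ∃ N : ℕ, ∀ p : ℕ, N ≤ p → c * (p : ℚ) ^ m + P.eval (p : ℚ) < 0 := by
  set K : ℚ := ∑ i ∈ range m, |P.coeff i| with hK
  obtain ⟨N, hN⟩ := exists_nat_gt (K / (-c))
  refine ⟨max N 1, fun p hp => ?_⟩
  have hp1 : 1 ≤ p := le_of_max_le_right hp
  have hpq : (1 : ℚ) ≤ p := by exact_mod_cast hp1
  obtain ⟨m', rfl⟩ : ∃ m', m = m' + 1 := ⟨m - 1, by omega⟩
  have hb : P.eval (p : ℚ) ≤ K * (p : ℚ) ^ m' := by
    rw [Polynomial.eval_eq_sum_range' hP, hK, Finset.sum_mul]
    refine Finset.sum_le_sum fun i hi => ?_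
    simp at hi
    calc P.coeff i * (p : ℚ) ^ i ≤ |P.coeff i| * (p : ℚ) ^ i := by gcongr; exact le_abs_self _
      _ ≤ |P.coeff i| * (p : ℚ) ^ m' := by gcongr
  have h2 : K / (-c) < p := lt_of_lt_of_le hN (by exact_mod_cast le_of_max_le_left hp)
  rw [div_lt_iff₀ (by linarith)] at h2
  calc c * (p : ℚ) ^ (m' + 1) + P.eval (p : ℚ) ≤ (c * p + K) * (p : ℚ) ^ m' := by rw [pow_succ]; linarith
    _ < 0 := mul_neg_of_neg_of_pos (by linarith) (by positivity)

theorem neg_eventually (n d : ℕ) (t : ℚ) (hn : 2 ≤ n) (hd : 1 ≤ d)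
    (h : n % 4 = 0 ∨ (n % 4 = 1 ∧ 0 < (d : ℚ) / 2 + ((n : ℚ) + 1) / 2 + t) ∨
      (n % 4 = 3 ∧ (d : ℚ) / 2 + ((n : ℚ) + 1) / 2 + t < 0)) :
    ∃ N : ℕ, ∀ p : ℕ, N ≤ p → coeff n (F n d p ((d : ℚ) * p + t)) < 0 := by
  obtain ⟨P, hPd, hP⟩ := coeff_leading n d t hn
  set τ := (d : ℚ) / 2 + ((n : ℚ) + 1) / 2 + t with hτ
  have hdq : (0 : ℚ) < d := by exact_mod_cast hd
  rcases h with h | h | h
  · set c := bernoulli' n * (d : ℚ) ^ n / (n ! : ℚ)
    set e := τ * bernoulli' (n - 1) * (d : ℚ) ^ (n - 1) / ((n - 1)! : ℚ)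
    have hb : bernoulli' n < 0 := by
      obtain ⟨k, hk⟩ : ∃ k, n = 2 * (2 * k + 2) := ⟨n / 4 - 1, by omega⟩
      have := bernoulli'_sign (2 * k + 2) (by omega)
      rw [← hk, show (2 * k + 2) + 1 = 2 * (k + 1) + 1 by omega, pow_succ, pow_mul] at this
      norm_num at this; linarith
    have hc : c < 0 := div_neg_of_neg_of_pos (mul_neg_of_neg_of_pos hb (by positivity)) (by positivity)
    obtain ⟨N, hN⟩ := eventually_neg n c hc (Polynomial.C e * Polynomial.X ^ (n - 1) + P) (by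
      refine lt_of_le_of_lt (Polynomial.natDegree_add_le _ _) (max_lt ?_ (by omega))
      exact lt_of_le_of_lt (Polynomial.natDegree_C_mul_X_pow_le _ _) (by omega))
    refine ⟨N, fun p hp => ?_⟩
    have := hN p hp
    rw [hP p]
    simp only [Polynomial.eval_add, Polynomial.eval_mul, Polynomial.eval_C, Polynomial.eval_pow, Polynomial.eval_X] at this
    simp only [c, e] at this
    rw [mul_pow, mul_pow]
    convert this using 1; ring
  all_goals
    set c := τ * bernoulli' (n - 1) * (d : ℚ) ^ (n - 1) / ((n - 1)! : ℚ)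
    have hc : c < 0 := by
      have hd' : (0 : ℚ) < (d : ℚ) ^ (n - 1) := by positivity
      refine div_neg_of_neg_of_pos (mul_neg_of_neg_of_pos ?_ hd') (by positivity)
      first
        | obtain ⟨k, hk⟩ : ∃ k, n - 1 = 2 * (2 * k + 2) := ⟨n / 4 - 1, by omega⟩
          have := bernoulli'_sign (2 * k + 2) (by omega)
          rw [← hk, show (2 * k + 2) + 1 = 2 * (k + 1) + 1 by omega, pow_succ, pow_mul] at this
          norm_num at this
          nlinarith [h.2]
        | obtain ⟨k, hk⟩ : ∃ k, n - 1 = 2 * (2 * k + 1) := ⟨n / 4, by omega⟩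
          have := bernoulli'_sign (2 * k + 1) (by omega)
          rw [← hk, show (2 * k + 1) + 1 = 2 * (k + 1) by omega, pow_mul] at this
          norm_num at this
          exact mul_neg_of_neg_of_pos h.2 this
    have hz : bernoulli' n = 0 := bernoulli'_eq_zero_of_odd (Nat.odd_iff.mpr (by omega)) (by omega)
    obtain ⟨N, hN⟩ := eventually_neg (n - 1) c hc P (by omega)
    refine ⟨N, fun p hp => ?_⟩
    have := hN p hp
    rw [hP p, hz]
    simp only [c] at this
    rw [mul_pow]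
    convert this using 1; ring

theorem coeff_three (d p : ℕ) :
    coeff 3 (F 3 d p ((d : ℚ) * p - d - 3)) =
      -((d : ℚ) * (d + 2) * (p - 1) * (d * p - d - 2)) / 24 := by
  rw [F_eq, R0, show (d : ℚ) * p - d - 3 - d * p = -(d : ℚ) - 3 by ring]
  simp only [pow_succ, pow_zero, one_mul, coeff_mul, Finset.Nat.sum_antidiagonal_succ,
    Finset.Nat.antidiagonal_zero, Finset.sum_singleton, coeff_rescale, Binv, Ex, coeff_mk, coeff_exp, coeff_BB]
  norm_num [bernoulli'_zero, bernoulli'_one, bernoulli'_two, bernoulli'_three, Nat.factorial]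
  ring

end Groth.L14.Todd
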