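import Mathlib.LinearAlgebra.Matrix.PosDef
import Mathlib.LinearAlgebra.Matrix.NonsingularInverse
import Mathlib.LinearAlgebra.Matrix.ToLinearEquiv
import Mathlib.Data.Nat.Choose.Vandermonde
import Mathlib.Algebra.Order.Star.Real
import Mathlib.Data.Nat.Dist

namespace Groth.L14.Toep

open Finset

theorem sum_choose_shift (n d N : ℕ) (hN : n < N) :
    ∑ l ∈ range N, n.choose (l + d) * n.choose l = (2 * n).choose (n + d) := by
  have h1 : ∑ l ∈ range N, n.choose (l + d) * n.choose l
      = ∑ l ∈ range (n + 1), n.choose (l + d) * n.choose l := by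
    symm
    refine Finset.sum_subset (by intro x hx; simp at hx ⊢; omega) ?_
    intro x hx hx'
    simp at hx'
    simp [Nat.choose_eq_zero_of_lt (show n < x by omega)]
  rw [h1, two_mul, Nat.add_choose_eq, Finset.Nat.sum_antidiagonal_eq_sum_range_succ_mk,
    show (n + d).succ = d + (n + 1) by omega, Finset.sum_range_add _ d (n + 1)]
  rw [Finset.sum_eq_zero (s := range d), zero_add]
  · refine Finset.sum_congr rfl ?_
    intro l hl
    simp at hl
    rw [show n + d - (d + l) = n - l by omega, Nat.choose_symm (by omega), add_comm d l]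
  · intro x hx
    simp at hx
    simp [Nat.choose_eq_zero_of_lt (show n < n + d - x by omega)]

noncomputable def B (n m : ℕ) : Matrix (Fin (n + m)) (Fin m) ℝ :=
  Matrix.of fun k i => if (i : ℕ) ≤ (k : ℕ) then (-1 : ℝ) ^ (i : ℕ) * (n.choose (k - i) : ℝ) else 0

theorem B_sum_le (n m i j : ℕ) (hij : i ≤ j) (hj : j < m) :
    ∑ k ∈ range (n + m), (if i ≤ k then n.choose (k - i) else 0) *
      (if j ≤ k then n.choose (k - j) else 0) = (2 * n).choose (n + (j - i)) := by
  rw [show n + m = j + (n + m - j) by omega, Finset.sum_range_add,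
    Finset.sum_eq_zero (s := range j), zero_add]
  · rw [← sum_choose_shift n (j - i) (n + m - j) (by omega)]
    refine Finset.sum_congr rfl ?_
    intro l _
    rw [if_pos (by omega), if_pos (by omega), show j + l - i = l + (j - i) by omega,
      show j + l - j = l by omega]
  · intro x hx
    simp at hx
    rw [if_neg (show ¬ j ≤ x by omega), mul_zero]

theorem B_sum (n m i j : ℕ) (hi : i < m) (hj : j < m) :
    ∑ k ∈ range (n + m), (if i ≤ k then n.choose (k - i) else 0) *
      (if j ≤ k then n.choose (k - j) else 0) = (2 * n).choose (n + Nat.dist i j) := by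
  rcases le_total i j with h | h
  · rw [Nat.dist_eq_sub_of_le h, B_sum_le n m i j h hj]
  · rw [Nat.dist_eq_sub_of_le_right h, ← B_sum_le n m j i h hi]
    exact Finset.sum_congr rfl fun k _ => mul_comm _ _

theorem posDef_even (n m : ℕ) :
    (Matrix.of fun i j : Fin m =>
        (-1 : ℝ) ^ ((i : ℕ) + (j : ℕ)) * (Nat.choose (2 * n) (n + Nat.dist i j) : ℝ)).PosDef := by
  have h : (Matrix.of fun i j : Fin m =>
        (-1 : ℝ) ^ ((i : ℕ) + (j : ℕ)) * (Nat.choose (2 * n) (n + Nat.dist i j) : ℝ))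
      = (B n m).conjTranspose * B n m := by
    ext i j
    simp only [Matrix.of_apply, Matrix.mul_apply, Matrix.conjTranspose_apply, star_trivial, B]
    rw [← B_sum n m i j i.2 j.2, Fin.sum_univ_eq_sum_range (fun k : ℕ =>
      (if (i : ℕ) ≤ k then (-1 : ℝ) ^ (i : ℕ) * (n.choose (k - i) : ℝ) else 0) *
      (if (j : ℕ) ≤ k then (-1 : ℝ) ^ (j : ℕ) * (n.choose (k - j) : ℝ) else 0)) (n + m)]
    rw [Nat.cast_sum, Finset.mul_sum]
    refine Finset.sum_congr rfl ?_
    intro k _
    split_ifs <;> simp [pow_add] <;> ring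
  rw [h]
  refine Matrix.PosDef.conjTranspose_mul_self _ ?_
  intro x y hxy
  have hd : ∀ k : ℕ, ∀ hk : k < m, x ⟨k, hk⟩ = y ⟨k, hk⟩ := by
    intro k
    induction k using Nat.strong_induction_on with
    | _ k ih =>
      intro hk
      have := congrFun hxy ⟨k, by omega⟩
      simp only [Matrix.mulVec, dotProduct, B, Matrix.of_apply] at this
      rw [← sub_eq_zero, ← Finset.sum_sub_distrib,
        Finset.sum_eq_single (⟨k, hk⟩ : Fin m)] at this
      · simpa [sub_eq_zero] using this
      · intro b _ hb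
        by_cases hle : (b : ℕ) ≤ k
        · have hlt : (b : ℕ) < k := lt_of_le_of_ne hle (fun e => hb (Fin.ext e))
          rw [show x b = y b from ih b hlt b.2]; ring
        · simp [hle]
      · simp
  funext k
  exact hd k k.2

theorem det_odd (n m : ℕ) :
    (Matrix.of fun i j : Fin m =>
        (-1 : ℤ) ^ ((i : ℕ) + (j : ℕ)) *
          (if (j : ℕ) ≤ (i : ℕ) then (Nat.choose (2 * n + 1) (n + 1 + ((i : ℕ) - (j : ℕ))) : ℤ)
            else (Nat.choose (2 * n + 1) (n + ((j : ℕ) - (i : ℕ))) : ℤ))).det ≠ 0 := by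
  intro h0
  set A : Matrix (Fin m) (Fin m) ℤ := Matrix.of fun i j : Fin m =>
        (-1 : ℤ) ^ ((i : ℕ) + (j : ℕ)) *
          (if (j : ℕ) ≤ (i : ℕ) then (Nat.choose (2 * n + 1) (n + 1 + ((i : ℕ) - (j : ℕ))) : ℤ)
            else (Nat.choose (2 * n + 1) (n + ((j : ℕ) - (i : ℕ))) : ℤ)) with hA
  set R := A.map (Int.castRingHom ℝ) with hR
  have hR0 : R.det = 0 := by
    rw [hR, ← RingHom.mapMatrix_apply, ← RingHom.map_det, h0, map_zero]
  obtain ⟨x, hx, hAx⟩ := Matrix.exists_mulVec_eq_zero_iff.mpr hR0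
  have hsum : R + R.transpose = Matrix.of fun i j : Fin m =>
        (-1 : ℝ) ^ ((i : ℕ) + (j : ℕ)) * (Nat.choose (2 * (n + 1)) (n + 1 + Nat.dist i j) : ℝ) := by
    ext i j
    simp only [hR, hA, Matrix.add_apply, Matrix.transpose_apply, Matrix.map_apply, Matrix.of_apply]
    rw [add_comm (j : ℕ) (i : ℕ), show 2 * (n + 1) = (2 * n + 1) + 1 by ring,
      show n + 1 + Nat.dist i j = (n + Nat.dist i j) + 1 by ring, Nat.choose_succ_succ]
    rcases lt_trichotomy (i : ℕ) (j : ℕ) with h | h | h
    · rw [Nat.dist_eq_sub_of_le h.le, if_neg (by omega), if_pos h.le]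
      rw [show n + 1 + ((j : ℕ) - i) = (n + ((j : ℕ) - i)).succ by omega]
      simp; ring
    · rw [h, Nat.dist_self, if_pos le_rfl, Nat.sub_self]
      have : (2 * n + 1).choose n = (2 * n + 1).choose (n + 1) :=
        Nat.choose_symm_of_eq_add (by omega)
      simp [this]
    · rw [Nat.dist_eq_sub_of_le_right h.le, if_pos h.le, if_neg (by omega)]
      rw [show n + 1 + ((i : ℕ) - j) = (n + ((i : ℕ) - j)).succ by omega]
      simp; ring
  have hp := (posDef_even (n + 1) m).dotProduct_mulVec_pos hx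
  rw [← hsum, Matrix.add_mulVec, dotProduct_add, Matrix.mulVec_transpose, star_trivial,
    dotProduct_comm x (Matrix.vecMul x R), ← Matrix.dotProduct_mulVec, hAx] at hp
  simp at hp

end Groth.L14.Toep
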