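import Mathlib.LinearAlgebra.Matrix.PosDef
import Mathlib.Analysis.SpecialFunctions.Integrals.Basic
import Mathlib.Analysis.SpecialFunctions.Complex.Circle
import Mathlib.Analysis.Complex.Order
import Mathlib.Algebra.Polynomial.Roots
import Mathlib.Analysis.Matrix.Hermitian
import Mathlib.Topology.Algebra.Module.Cardinality

namespace Groth.L14.Toep

open Complex ComplexOrder MeasureTheory intervalIntegral
open scoped Real Matrix

theorem integral_exp_int (k : ℤ) :
    ∫ y in (0:ℝ)..(2 * π), Complex.exp (Complex.I * (k : ℂ) * (y : ℂ)) =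
      if k = 0 then ((2 * π : ℝ) : ℂ) else 0 := by
  split_ifs with hk
  · subst hk; simp
  · have hc : Complex.I * (k : ℂ) ≠ 0 := mul_ne_zero I_ne_zero (by exact_mod_cast hk)
    rw [integral_exp_mul_complex hc]
    have : Complex.exp (Complex.I * (k : ℂ) * ((2 * π : ℝ) : ℂ)) = 1 := by
      rw [← Complex.exp_int_mul_two_pi_mul_I k]
      congr 1; push_cast; ring
    rw [this]; simp

theorem posDef_symbol
    (m : ℕ) (t : ℤ → ℂ) (A : Matrix (Fin m) (Fin m) ℂ)
    (hA : ∀ i j : Fin m, A i j = t ((j : ℤ) - (i : ℤ))) (hH : A.IsHermitian)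
    (hpos : Set.Countable {y : ℝ | ¬ 0 < (∑ k ∈ Finset.Ioo (-(m : ℤ)) (m : ℤ),
        t k * Complex.exp (Complex.I * (k : ℂ) * (y : ℂ))).re}) :
    A.PosDef := by
  refine Matrix.PosDef.of_dotProduct_mulVec_pos hH ?_
  intro x hx
  set F : ℝ → ℂ := fun y => ∑ k ∈ Finset.Ioo (-(m : ℤ)) (m : ℤ),
        t k * Complex.exp (Complex.I * (k : ℂ) * (y : ℂ)) with hF
  set P : ℝ → ℂ := fun y => ∑ j : Fin m, x j * Complex.exp (-Complex.I * (y : ℂ)) ^ (j : ℕ) with hP
  have hFc : Continuous F := by rw [hF]; fun_prop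
  have hPc : Continuous P := by rw [hP]; fun_prop
  -- the complex identity
  have key : ∫ y in (0:ℝ)..(2 * π), F y * ((normSq (P y) : ℝ) : ℂ) =
      ((2 * π : ℝ) : ℂ) * (star x ⬝ᵥ A *ᵥ x) := by
    have hpt : ∀ y : ℝ, F y * ((normSq (P y) : ℝ) : ℂ) =
        ∑ k ∈ Finset.Ioo (-(m : ℤ)) (m : ℤ), ∑ i : Fin m, ∑ j : Fin m,
          (t k * star (x i) * x j) *
            Complex.exp (Complex.I * ((k + (i : ℤ) - (j : ℤ) : ℤ) : ℂ) * (y : ℂ)) := by
      intro y
      rw [normSq_eq_conj_mul_self]
      simp only [hF, hP, map_sum, map_mul, map_pow]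
      rw [Finset.sum_mul_sum (s := (Finset.univ : Finset (Fin m))), Finset.sum_mul]
      refine Finset.sum_congr rfl fun k _ => ?_
      rw [Finset.mul_sum]
      refine Finset.sum_congr rfl fun i _ => ?_
      rw [Finset.mul_sum]
      refine Finset.sum_congr rfl fun j _ => ?_
      rw [← exp_conj, ← Complex.exp_nat_mul, ← Complex.exp_nat_mul]
      simp only [map_mul, map_neg, conj_I, conj_ofReal, neg_neg, Complex.star_def]
      rw [mul_comm (t k) _, mul_mul_mul_comm]
      calc _ = t k * (starRingEnd ℂ) (x i) * x j * (Complex.exp (I * (k:ℂ) * y) *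
              (Complex.exp ((i:ℕ) * (I * y)) * Complex.exp ((j:ℕ) * (-I * y)))) := by ring
        _ = _ := by
          rw [← Complex.exp_add, ← Complex.exp_add]
          congr 2
          push_cast; ring
    simp only [hpt]
    rw [intervalIntegral.integral_finsetSum (fun k _ => (Continuous.intervalIntegrable (by fun_prop) _ _))]
    rw [Finset.sum_congr rfl (fun k _ => intervalIntegral.integral_finsetSum
      (fun i _ => (Continuous.intervalIntegrable (by fun_prop) _ _)))]
    rw [Finset.sum_congr rfl (fun k _ => Finset.sum_congr rfl (fun i _ => intervalIntegral.integral_finsetSum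
      (fun j _ => (Continuous.intervalIntegrable (by fun_prop) _ _))))]
    simp only [intervalIntegral.integral_const_mul, integral_exp_int]
    rw [Finset.sum_comm]
    simp only [dotProduct, Matrix.mulVec, Pi.star_apply, Finset.mul_sum]
    refine Finset.sum_congr rfl fun i _ => ?_
    rw [Finset.sum_comm]
    refine Finset.sum_congr rfl fun j _ => ?_
    rw [Finset.sum_eq_single ((j : ℤ) - (i : ℤ))]
    · rw [if_pos (by ring), hA i j]; ring
    · intro b _ hb
      rw [if_neg (by omega), mul_zero]
    · intro h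
      exact absurd (Finset.mem_Ioo.mpr ⟨by omega, by omega⟩) h
  -- take real parts
  have hre : (∫ y in (0:ℝ)..(2 * π), (F y).re * normSq (P y)) =
      (2 * π) * (star x ⬝ᵥ A *ᵥ x).re := by
    have := congrArg Complex.re key
    rw [Complex.re_ofReal_mul] at this
    rw [← this]
    have h2 := Complex.reCLM.intervalIntegral_comp_comm
      (μ := volume) (a := (0:ℝ)) (b := 2 * π) (f := fun y => F y * ((normSq (P y) : ℝ) : ℂ))
      ((hFc.mul (continuous_ofReal.comp (continuous_normSq.comp hPc))).intervalIntegrable _ _)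
    simp only [Complex.reCLM_apply, Complex.re_mul_ofReal] at h2
    exact h2
  have hnn : ∀ y, 0 ≤ (F y).re := by
    have hd := hpos.dense_compl ℝ
    have hcl : IsClosed {y : ℝ | 0 ≤ (F y).re} := isClosed_le continuous_const (by fun_prop)
    intro y
    have hsub : {y : ℝ | ¬ 0 < (F y).re}ᶜ ⊆ {y : ℝ | 0 ≤ (F y).re} := fun z hz => le_of_lt (not_not.mp hz)
    exact hcl.closure_subset_iff.mpr hsub (hd y)
  -- a point where the integrand is positive
  have hex : ∃ c ∈ Set.Icc (0:ℝ) (2 * π), 0 < (F c).re * normSq (P c) := by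
    set Q : Polynomial ℂ := ∑ j : Fin m, Polynomial.C (x j) * Polynomial.X ^ (j : ℕ) with hQ
    have hQ0 : Q ≠ 0 := by
      intro h
      apply hx
      funext j
      have := congrArg (fun q => Polynomial.coeff q (j : ℕ)) h
      simpa [hQ, Polynomial.coeff_C_mul_X_pow, Fin.val_inj] using this
    have hfin : {y : ℝ | y ∈ Set.Ioo (0:ℝ) (2*π) ∧ P y = 0}.Finite := by
      apply Set.Finite.of_finite_image (f := fun y : ℝ => Complex.exp (-Complex.I * (y : ℂ)))
      · refine (Polynomial.finite_setOfPred_isRoot hQ0).subset ?_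
        rintro _ ⟨y, ⟨-, hy⟩, rfl⟩
        simp only [Set.mem_setOf_eq, Polynomial.IsRoot, hQ, Polynomial.eval_finsetSum]
        simpa [hP] using hy
      · intro a ha b hb hab
        simp only [Complex.exp_eq_exp_iff_exists_int] at hab
        obtain ⟨l, hl⟩ := hab
        have hl' := congrArg Complex.im hl
        simp at hl'
        have h1 := ha.1; have h2 := hb.1
        simp only [Set.mem_Ioo] at h1 h2
        have hl0 : l = 0 := by
          have hpi := Real.pi_pos
          have e1 : (l : ℝ) * (2 * π) < 1 * (2 * π) := by linarith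
          have e2 : (-1 : ℝ) * (2 * π) < (l : ℝ) * (2 * π) := by linarith
          have e1' : (l : ℝ) < 1 := lt_of_mul_lt_mul_right e1 (by positivity)
          have e2' : (-1 : ℝ) < l := lt_of_mul_lt_mul_right e2 (by positivity)
          norm_cast at e1' e2'
          omega
        subst hl0
        simpa using hl'
    have hbad : ({y : ℝ | ¬ 0 < (F y).re} ∪ {y : ℝ | y ∈ Set.Ioo (0:ℝ) (2*π) ∧ P y = 0}).Countable :=
      hpos.union hfin.countable
    obtain ⟨c, hc1, hc2⟩ := (hbad.dense_compl ℝ).exists_mem_open isOpen_Ioo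
      (Set.nonempty_Ioo.mpr (show (0:ℝ) < 2*π by positivity))
    simp only [Set.mem_compl_iff, Set.mem_union, Set.mem_setOf_eq, not_or, not_not, not_and] at hc1
    exact ⟨c, Set.Ioo_subset_Icc_self hc2, mul_pos hc1.1 (normSq_pos.mpr (hc1.2 hc2))⟩
  have hpos' : 0 < ∫ y in (0:ℝ)..(2 * π), (F y).re * normSq (P y) := by
    refine intervalIntegral.integral_pos (by positivity) ?_ (fun y _ => mul_nonneg (hnn y) (normSq_nonneg _)) hex
    exact ((Complex.continuous_re.comp hFc).mul (continuous_normSq.comp hPc)).continuousOn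
  rw [hre] at hpos'
  rw [Complex.lt_def]
  have h2pi : (0:ℝ) < 2 * π := by positivity
  exact ⟨by simpa using pos_of_mul_pos_right hpos' h2pi.le, by
    simpa using (hH.im_star_dotProduct_mulVec_self x).symm⟩

end Groth.L14.Toep
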