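import Mathlib.LinearAlgebra.Matrix.Determinant.Basic
import Mathlib.LinearAlgebra.Vandermonde
import Mathlib.LinearAlgebra.Matrix.SchurComplement
import Mathlib.Analysis.SpecialFunctions.Complex.Circle
import Mathlib.Analysis.SpecialFunctions.Trigonometric.Basic
import Mathlib.Data.Fin.Tuple.Sort
import Mathlib.Algebra.Field.GeomSum
import Mathlib.Algebra.BigOperators.Field

namespace Groth.L14.Verl

open Finset Matrix
open scoped Real

section CB
variable {R : Type*} [CommRing R]

/-- alternant -/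
def D {r : ℕ} (x : Fin r → R) (e : Fin r → ℕ) : R := (Matrix.of fun i j => x j ^ e i).det

theorem det_mul_expand {r M : ℕ} (A : Matrix (Fin r) (Fin M) R) (B : Matrix (Fin M) (Fin r) R) :
    (A * B).det = ∑ f : Fin r → Fin M, (∏ i, A i (f i)) * (B.submatrix f id).det := by
  have : (A * B : Matrix (Fin r) (Fin r) R) = fun i => ∑ a, A i a • B a := by
    funext i j; simp [Matrix.mul_apply]
  rw [this]
  show (Matrix.detRowAlternating (n := Fin r) (R := R)).toMultilinearMap _ = _
  rw [MultilinearMap.map_sum]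
  refine Finset.sum_congr rfl fun f _ => ?_
  rw [MultilinearMap.map_smul_univ]
  rfl

theorem det_mul_eq_sum {r M : ℕ} (A : Matrix (Fin r) (Fin M) R) (B : Matrix (Fin M) (Fin r) R) :
    (A * B).det = ∑ s ∈ (univ : Finset (Fin r → Fin M)).filter StrictMono,
      (A.submatrix id s).det * (B.submatrix s id).det := by
  classical
  rw [det_mul_expand]
  rw [← Finset.sum_filter_of_ne (p := Function.Injective) (fun f _ hf => by
    by_contra hni
    simp only [Function.Injective, not_forall] at hni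
    obtain ⟨i, j, hij, hne⟩ := hni
    exact hf (by rw [Matrix.det_zero_of_row_eq hne (by funext l; simp [hij]), mul_zero]))]
  symm
  calc _ = ∑ s ∈ (univ : Finset (Fin r → Fin M)).filter StrictMono, ∑ σ : Equiv.Perm (Fin r),
        (∏ i, A i (s (σ i))) * (B.submatrix (s ∘ σ) id).det := by
        refine Finset.sum_congr rfl fun s _ => ?_
        rw [← Matrix.det_transpose (A.submatrix id s), Matrix.det_apply', Finset.sum_mul]
        refine Finset.sum_congr rfl fun σ _ => ?_
        rw [show B.submatrix (s ∘ σ) id = (B.submatrix s id).submatrix σ id from rfl, Matrix.det_permute]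
        simp only [Matrix.transpose_apply, Matrix.submatrix_apply, id]
        ring
    _ = _ := by
        rw [← Finset.sum_product']
        refine Finset.sum_bij (fun p _ => p.1 ∘ p.2) ?_ ?_ ?_ ?_
        · intro p hp
          simp only [mem_product, mem_filter, mem_univ, true_and, and_true] at hp
          simpa using hp.injective
        · intro p hp q hq h
          simp only [mem_product, mem_filter, mem_univ, true_and, and_true] at hp hq
          have h1 : p.1 = q.1 := (hp.range_inj hq).mp (by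
            rw [← p.2.surjective.range_comp p.1, ← q.2.surjective.range_comp q.1, h])
          refine Prod.ext h1 (Equiv.ext fun i => hp.injective ?_)
          have := congrFun h i
          simpa [h1] using this
        · intro f hf
          simp only [mem_filter, mem_univ, true_and] at hf
          refine ⟨(f ∘ Tuple.sort f, (Tuple.sort f).symm), ?_, ?_⟩
          · simpa using (Tuple.monotone_sort f).strictMono_of_injective (hf.comp (Tuple.sort f).injective)
          · funext i; simp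
        · intro p _; rfl

theorem sum_strictAnti {r M : ℕ} (x y : Fin r → R) :
    ∑ e ∈ (univ : Finset (Fin r → Fin M)).filter (fun e => StrictAnti e),
      D x (fun i => (e i : ℕ)) * D y (fun i => (e i : ℕ)) =
    (Matrix.of fun j l => ∑ a ∈ range M, (x j * y l) ^ a).det := by
  classical
  have hmul : (Matrix.of fun j l => ∑ a ∈ range M, (x j * y l) ^ a) =
      (Matrix.of fun j (a : Fin M) => x j ^ (a : ℕ)) * (Matrix.of fun (a : Fin M) l => y l ^ (a : ℕ)) := by
    ext j l
    simp [Matrix.mul_apply, mul_pow, Finset.sum_range]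
  rw [hmul, det_mul_eq_sum]
  refine Finset.sum_bij (fun e _ => e ∘ Fin.rev) ?_ ?_ ?_ ?_
  · intro e he
    simp only [mem_filter, mem_univ, true_and] at he ⊢
    intro a b hab; exact he (Fin.rev_lt_rev.mpr hab)
  · intro a _ b _ h
    funext i
    simpa using congrFun h (Fin.rev i)
  · intro s hs
    simp only [mem_filter, mem_univ, true_and] at hs
    refine ⟨s ∘ Fin.rev, ?_, by funext i; simp⟩
    simp only [mem_filter, mem_univ, true_and]
    intro a b hab; exact hs (Fin.rev_lt_rev.mpr hab)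
  · intro e _
    have key : ∀ z : Fin r → R, D z (fun i => (e i : ℕ)) =
        (Equiv.Perm.sign (Fin.revPerm : Equiv.Perm (Fin r)) : R) *
          ((Matrix.of fun j (a : Fin M) => z j ^ (a : ℕ)).submatrix id (e ∘ Fin.rev)).det := by
      intro z
      rw [← Matrix.det_transpose ((Matrix.of fun j (a : Fin M) => z j ^ (a : ℕ)).submatrix id (e ∘ Fin.rev)),
        ← Matrix.det_permute, D]
      congr 1
      ext i j
      simp
    have hs : (Equiv.Perm.sign (Fin.revPerm : Equiv.Perm (Fin r)) : R) *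
        (Equiv.Perm.sign (Fin.revPerm : Equiv.Perm (Fin r)) : R) = 1 := by
      rw [← Int.cast_mul, ← Units.val_mul, Int.units_mul_self]; simp
    rw [key x, key y, mul_mul_mul_comm, hs, one_mul,
      ← Matrix.det_transpose ((Matrix.of fun (a : Fin M) l => y l ^ (a : ℕ)).submatrix (e ∘ Fin.rev) id)]
    rfl

theorem D_succ {r : ℕ} (x : Fin r → R) (a : Fin r → ℕ) :
    D x (fun i => a i + 1) = (∏ j, x j) * D x a := by
  rw [D, D, ← Matrix.det_mul_row]
  congr 1
  ext i j
  simp [pow_succ, mul_comm]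

theorem sum_nonzero_last {r M : ℕ} (hr : 1 ≤ r) (x y : Fin r → R) :
    ∑ v ∈ (univ : Finset (Fin r → Fin (M + 1))).filter
        (fun v : Fin r → Fin (M + 1) => StrictAnti v ∧ ¬ ∀ i : Fin r, (i : ℕ) = r - 1 → (v i : ℕ) = 0),
      D x (fun i => (v i : ℕ)) * D y (fun i => (v i : ℕ)) =
    (∏ j, x j) * (∏ j, y j) * (Matrix.of fun j l => ∑ a ∈ range M, (x j * y l) ^ a).det := by
  rw [← sum_strictAnti, Finset.mul_sum]
  symm
  refine Finset.sum_bij (fun e _ => Fin.succ ∘ e) ?_ ?_ ?_ ?_
  · intro e he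
    simp only [mem_filter, mem_univ, true_and] at he ⊢
    exact ⟨Fin.strictMono_succ.comp_strictAnti he, fun h => by
      simpa using h ⟨r - 1, by omega⟩ rfl⟩
  · intro a _ b _ h
    funext i
    exact Fin.succ_injective _ (congrFun h i)
  · intro v hv
    simp only [mem_filter, mem_univ, true_and] at hv
    have hne : ∀ i, v i ≠ 0 := by
      intro i hi
      apply hv.2
      intro l hl
      have hle : v l ≤ v i := hv.1.antitone (by rw [Fin.le_def]; omega)
      rw [hi, Fin.le_zero_iff] at hle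
      simp [hle]
    refine ⟨fun i => (v i).pred (hne i), ?_, ?_⟩
    · simp only [mem_filter, mem_univ, true_and]
      intro a b hab; simpa [Fin.pred_lt_pred_iff] using hv.1 hab
    · funext i; simp
  · intro e _
    simp only [Function.comp_apply, Fin.val_succ]
    rw [D_succ, D_succ]; ring

theorem sum_last_zero {r M : ℕ} (hr : 1 ≤ r) (x y : Fin r → R) :
    ∑ v ∈ (univ : Finset (Fin r → Fin (M + 1))).filter
        (fun v : Fin r → Fin (M + 1) => StrictAnti v ∧ ∀ i : Fin r, (i : ℕ) = r - 1 → (v i : ℕ) = 0),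
      D x (fun i => (v i : ℕ)) * D y (fun i => (v i : ℕ)) =
    (Matrix.of fun j l => ∑ a ∈ range (M + 1), (x j * y l) ^ a).det -
      (∏ j, x j) * (∏ j, y j) * (Matrix.of fun j l => ∑ a ∈ range M, (x j * y l) ^ a).det := by
  rw [← sum_strictAnti, ← sum_nonzero_last hr, eq_sub_iff_add_eq, ← Finset.filter_filter,
    ← Finset.filter_filter, Finset.sum_filter_add_sum_filter_not]

theorem det_add_smul_rankOne {n : Type*} [DecidableEq n] [Fintype n] (G : Matrix n n R) (u v : n → R) :
    ∃ α : R, ∀ t : R, (G + t • (Matrix.of fun i j => u i * v j)).det = G.det + t * α := by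
  let Bk : R → Matrix (n ⊕ Unit) (n ⊕ Unit) R := fun t =>
    Matrix.fromBlocks G (Matrix.of fun i _ => t * u i) (Matrix.of fun _ j => -v j) 1
  have h1 : ∀ t, (G + t • (Matrix.of fun i j => u i * v j)).det = (Bk t).det := by
    intro t
    rw [Matrix.det_fromBlocks_one₂₂]
    congr 1
    ext i j
    simp [Matrix.mul_apply, mul_assoc]
  let c0 : n ⊕ Unit → R := Sum.elim 0 1
  let c1 : n ⊕ Unit → R := Sum.elim u 0
  refine ⟨((Bk 0).updateCol (Sum.inr ()) c1).det, fun t => ?_⟩
  have h2 : Bk t = (Bk 0).updateCol (Sum.inr ()) (c0 + t • c1) := by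
    ext i j
    rcases i with i | i <;> rcases j with j | j <;> simp [Bk, c0, c1, Matrix.updateCol_apply]
  rw [h1, h2, Matrix.det_updateCol_add, Matrix.det_updateCol_smul]
  congr 1
  have h3 : (Bk 0).updateCol (Sum.inr ()) c0 = Bk 0 := by
    ext i j
    rcases i with i | i <;> rcases j with j | j <;> simp [Bk, c0, Matrix.updateCol_apply]
  rw [h3, ← h1 0]
  simp

end CB

section Roots

theorem sum_roots_lt {r M : ℕ} (z w : Fin r → ℂ) (hN : ∀ j, z j ^ (M + 1) = 1)
    (hzw : ∀ j, z j * w j = 1) (hinj : Function.Injective z) :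
    (Matrix.of fun j l => ∑ a ∈ range (M + 1), (z j * w l) ^ a).det = ((M : ℂ) + 1) ^ r ∧
    (Matrix.of fun j l => ∑ a ∈ range M, (z j * w l) ^ a).det =
      ((M : ℂ) + 1) ^ r * (1 - (r : ℂ) / ((M : ℂ) + 1)) := by
  have hN0 : ((M : ℂ) + 1) ≠ 0 := by exact_mod_cast (Nat.succ_ne_zero M)
  have hw : ∀ j, w j ^ (M + 1) = 1 := by
    intro j
    have h := congrArg (· ^ (M + 1)) (hzw j)
    simpa [mul_pow, hN j] using h
  have hfull : ∀ j l, ∑ a ∈ range (M + 1), (z j * w l) ^ a = if j = l then ((M : ℂ) + 1) else 0 := by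
    intro j l
    split_ifs with h
    · subst h; simp [hzw j]
    · have hne : z j * w l ≠ 1 := by
        intro hc
        apply h
        apply hinj
        calc z j = z j * (z l * w l) := by rw [hzw l, mul_one]
          _ = z l := by rw [mul_left_comm, hc, mul_one]
      rw [geom_sum_eq hne, mul_pow, hN, hw, mul_one, sub_self, zero_div]
  constructor
  · have : (Matrix.of fun j l => ∑ a ∈ range (M + 1), (z j * w l) ^ a) =
        Matrix.diagonal (fun _ : Fin r => ((M : ℂ) + 1)) := by
      ext j l; simp [hfull, Matrix.diagonal_apply]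
    rw [this, Matrix.det_diagonal]; simp
  · have : (Matrix.of fun j l => ∑ a ∈ range M, (z j * w l) ^ a) =
        ((M : ℂ) + 1) • ((1 : Matrix (Fin r) (Fin r) ℂ) +
          Matrix.replicateCol Unit (fun j => -(z j ^ M) / ((M : ℂ) + 1)) *
            Matrix.replicateRow Unit (fun l => w l ^ M)) := by
      ext j l
      have h := hfull j l
      rw [Finset.sum_range_succ] at h
      simp only [Matrix.of_apply, Matrix.smul_apply, Matrix.add_apply, Matrix.one_apply, Matrix.mul_apply,
        Matrix.replicateCol_apply, Matrix.replicateRow_apply, Finset.univ_unique, Finset.sum_singleton,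
        smul_eq_mul]
      rw [eq_sub_of_add_eq h, mul_pow]
      split_ifs <;> field_simp <;> ring
    rw [this, Matrix.det_smul, Matrix.det_one_add_replicateCol_mul_replicateRow, Fintype.card_fin]
    congr 1
    have : ∀ j, w j ^ M * (-(z j ^ M) / ((M : ℂ) + 1)) = -1 / ((M : ℂ) + 1) := by
      intro j
      rw [mul_div_assoc', mul_neg, mul_comm, ← mul_pow, hzw j, one_pow]
    simp only [dotProduct, this, Finset.sum_const, Finset.card_univ, Fintype.card_fin, nsmul_eq_mul]
    ring

/-- sum of alternant products over exponent sets below `M` -/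
theorem norm_low {r k M : ℕ} (hr : 1 ≤ r) (hM : M + 1 = r + k) (z w : Fin r → ℂ)
    (hN : ∀ j, z j ^ (M + 1) = 1) (hzw : ∀ j, z j * w j = 1) (hinj : Function.Injective z) :
    ∑ e ∈ (univ : Finset (Fin r → Fin M)).filter (fun e => StrictAnti e),
      D z (fun i => (e i : ℕ)) * D w (fun i => (e i : ℕ)) = (k : ℂ) * ((r : ℂ) + k) ^ (r - 1) := by
  rw [sum_strictAnti, (sum_roots_lt z w hN hzw hinj).2]
  have h : ((M : ℂ) + 1) = (r : ℂ) + k := by exact_mod_cast hM
  have hne : (r : ℂ) + k ≠ 0 := by exact_mod_cast (show r + k ≠ 0 by omega)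
  obtain ⟨r', rfl⟩ : ∃ r', r = r' + 1 := ⟨r - 1, by omega⟩
  rw [h, Nat.add_sub_cancel, pow_succ]
  field_simp
  ring

theorem norm_last_zero {r k M : ℕ} (hr : 1 ≤ r) (hM : M + 1 = r + k) (z w : Fin r → ℂ)
    (hN : ∀ j, z j ^ (M + 1) = 1) (hzw : ∀ j, z j * w j = 1) (hinj : Function.Injective z) :
    ∑ v ∈ (univ : Finset (Fin r → Fin (M + 1))).filter
        (fun v : Fin r → Fin (M + 1) => StrictAnti v ∧ ∀ i : Fin r, (i : ℕ) = r - 1 → (v i : ℕ) = 0),
      D z (fun i => (v i : ℕ)) * D w (fun i => (v i : ℕ)) = (r : ℂ) * ((r : ℂ) + k) ^ (r - 1) := by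
  rw [sum_last_zero hr, (sum_roots_lt z w hN hzw hinj).2, (sum_roots_lt z w hN hzw hinj).1,
    ← Finset.prod_mul_distrib]
  simp only [hzw, Finset.prod_const_one, one_mul]
  have h : ((M : ℂ) + 1) = (r : ℂ) + k := by exact_mod_cast hM
  have hne : (r : ℂ) + k ≠ 0 := by exact_mod_cast (show r + k ≠ 0 by omega)
  obtain ⟨r', rfl⟩ : ∃ r', r = r' + 1 := ⟨r - 1, by omega⟩
  rw [h, Nat.add_sub_cancel, pow_succ]
  field_simp
  ring

theorem vanish_last_zero {r M : ℕ} (hr : 1 ≤ r) (x y : Fin r → ℂ) (c c' : ℂ)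
    (hx : ∀ j, x j ^ (M + 1) = c) (hy : ∀ j, y j ^ (M + 1) = c')
    (hpx : ∏ j, x j = 1) (hpy : ∏ j, y j = 1)
    (hbad : c * c' = 1 → ∃ j₁ j₂, j₁ ≠ j₂ ∧ (∀ l, x j₁ * y l ≠ 1) ∧ (∀ l, x j₂ * y l ≠ 1)) :
    ∑ v ∈ (univ : Finset (Fin r → Fin (M + 1))).filter
        (fun v : Fin r → Fin (M + 1) => StrictAnti v ∧ ∀ i : Fin r, (i : ℕ) = r - 1 → (v i : ℕ) = 0),
      D x (fun i => (v i : ℕ)) * D y (fun i => (v i : ℕ)) = 0 := by
  rw [sum_last_zero hr, hpx, hpy, one_mul, one_mul]
  set G : Matrix (Fin r) (Fin r) ℂ := Matrix.of fun j l => ∑ a ∈ range (M + 1), (x j * y l) ^ a with hG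
  set G' : Matrix (Fin r) (Fin r) ℂ := Matrix.of fun j l => ∑ a ∈ range M, (x j * y l) ^ a with hG'
  set J : Matrix (Fin r) (Fin r) ℂ := Matrix.of fun _ _ => (1 : ℂ) * 1 with hJ
  have hscale : ∀ A : Matrix (Fin r) (Fin r) ℂ,
      (Matrix.of fun j l => x j * (y l * A j l)).det = A.det := by
    intro A
    have h1 := Matrix.det_mul_column x (Matrix.of fun j l => y l * A j l)
    have h2 := Matrix.det_mul_row y A
    simp only [Matrix.of_apply] at h1
    rw [h1, h2, hpx, hpy, one_mul, one_mul]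
  by_cases hcc : c * c' = 1
  · obtain ⟨j₁, j₂, hne, hb₁, hb₂⟩ := hbad hcc
    have hz : ∀ j, (∀ l, x j * y l ≠ 1) → ∀ l, G j l = 0 := by
      intro j hj l
      simp only [hG, Matrix.of_apply]
      rw [geom_sum_eq (hj l), mul_pow, hx, hy, hcc, sub_self, zero_div]
    have hG0 : G.det = 0 := Matrix.det_eq_zero_of_row_eq_zero j₁ (hz j₁ hb₁)
    have hrow : ∀ j, (∀ l, x j * y l ≠ 1) → ∀ l, x j * (y l * G' j l) = -1 := by
      intro j hj l
      have := hz j hj l
      simp only [hG, Matrix.of_apply, geom_sum_succ] at this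
      simp only [hG', Matrix.of_apply]
      linear_combination this
    have hG'0 : G'.det = 0 := by
      rw [← hscale G']
      refine Matrix.det_zero_of_row_eq hne ?_
      funext l
      simp [hrow j₁ hb₁ l, hrow j₂ hb₂ l]
    rw [hG0, hG'0, sub_zero]
  · obtain ⟨α, hα⟩ := det_add_smul_rankOne G (fun _ => (1 : ℂ)) (fun _ => (1 : ℂ))
    rw [← hJ] at hα
    have h1 : (G + (-1 : ℂ) • J).det = G'.det := by
      rw [← hscale G']
      congr 1
      ext j l
      simp only [hG, hG', hJ, Matrix.add_apply, Matrix.smul_apply, Matrix.of_apply, geom_sum_succ, smul_eq_mul]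
      ring
    have h2 : (G + (c * c' - 1) • J).det = G.det := by
      rw [← hscale G]
      congr 1
      ext j l
      simp only [hG, hJ, Matrix.add_apply, Matrix.smul_apply, Matrix.of_apply, smul_eq_mul]
      have h := geom_sum_mul (x j * y l) (M + 1)
      rw [mul_pow, hx, hy] at h
      linear_combination -h
    have hα0 : α = 0 := by
      have h := hα (c * c' - 1)
      rw [h2] at h
      rcases mul_eq_zero.mp (show (c * c' - 1) * α = 0 by linear_combination -h) with h3 | h3
      · exact absurd (sub_eq_zero.mp h3) hcc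
      · exact h3
    have h := hα (-1)
    rw [h1, hα0, mul_zero, add_zero] at h
    rw [h, sub_self]

/-- `exp (2 π i t / N)` -/
noncomputable def rt (N : ℕ) (t : ℂ) : ℂ := Complex.exp (2 * Real.pi * Complex.I * t / (N : ℂ))

theorem rt_add (N : ℕ) (s t : ℂ) : rt N (s + t) = rt N s * rt N t := by
  rw [rt, rt, rt, ← Complex.exp_add]; congr 1; ring

theorem rt_zero (N : ℕ) : rt N 0 = 1 := by simp [rt]

theorem rt_pow (N : ℕ) (t : ℂ) (n : ℕ) : rt N t ^ n = rt N (n * t) := by
  rw [rt, rt, ← Complex.exp_nat_mul]; congr 1; ring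

theorem rt_sum {ι : Type*} (N : ℕ) (s : Finset ι) (f : ι → ℂ) : rt N (∑ i ∈ s, f i) = ∏ i ∈ s, rt N (f i) := by
  simp only [rt, ← Complex.exp_sum]
  congr 1
  rw [Finset.mul_sum, Finset.sum_div]

theorem rt_eq_one_iff {N : ℕ} (hN : N ≠ 0) (t : ℂ) : rt N t = 1 ↔ ∃ n : ℤ, t = n * N := by
  have hN' : (N : ℂ) ≠ 0 := by exact_mod_cast hN
  rw [rt, Complex.exp_eq_one_iff]
  have hp : (2 * Real.pi * Complex.I : ℂ) ≠ 0 := Complex.two_pi_I_ne_zero
  constructor <;> rintro ⟨n, hn⟩ <;> refine ⟨n, ?_⟩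
  · rw [div_eq_iff hN'] at hn
    apply mul_left_cancel₀ hp
    linear_combination hn
  · rw [hn]; field_simp

theorem rt_int (N : ℕ) (n : ℤ) : rt N (n * N) = 1 := by
  rcases eq_or_ne N 0 with rfl | hN
  · simp [rt]
  · exact (rt_eq_one_iff hN _).mpr ⟨n, rfl⟩

theorem bad_rows {r N : ℕ} (hr : 1 ≤ r) (hN : N ≠ 0) (a b : Fin r → ℕ) (ha : StrictAnti a) (hb : StrictAnti b)
    (haN : ∀ i, a i < N) (hbN : ∀ i, b i < N) (hne : ¬ ∃ e : ℤ, ∀ i, (a i : ℤ) - b i = e)
    (x y : Fin r → ℂ)
    (hx : ∀ i, x i = rt N ((a i : ℂ) - (∑ j, (a j : ℂ)) / r))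
    (hy : ∀ i, y i = rt N (-((b i : ℂ) - (∑ j, (b j : ℂ)) / r))) :
    (∏ j, x j = 1) ∧ (∏ j, y j = 1) ∧
    (rt N (N * (-(∑ j, (a j : ℂ)) / r)) * rt N (N * ((∑ j, (b j : ℂ)) / r)) = 1 →
      ∃ j₁ j₂, j₁ ≠ j₂ ∧ (∀ l, x j₁ * y l ≠ 1) ∧ (∀ l, x j₂ * y l ≠ 1)) := by
  classical
  have hr0 : (r : ℂ) ≠ 0 := by exact_mod_cast (show r ≠ 0 by omega)
  have hpx : ∏ j, x j = 1 := by
    rw [Finset.prod_congr rfl fun i _ => hx i, ← rt_sum, Finset.sum_sub_distrib, Finset.sum_const,
      Finset.card_univ, Fintype.card_fin, nsmul_eq_mul, mul_div_cancel₀ _ hr0, sub_self, rt_zero]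
  have hpy : ∏ j, y j = 1 := by
    rw [Finset.prod_congr rfl fun i _ => hy i, ← rt_sum, Finset.sum_neg_distrib, Finset.sum_sub_distrib,
      Finset.sum_const, Finset.card_univ, Fintype.card_fin, nsmul_eq_mul, mul_div_cancel₀ _ hr0, sub_self,
      neg_zero, rt_zero]
  refine ⟨hpx, hpy, ?_⟩
  intro _
  by_contra hcon
  -- at most one bad row
  have hiff : ∀ i l, x i * y l = 1 ↔ ∃ n : ℤ,
      ((a i : ℂ) - b l) * r - ((∑ j, (a j : ℂ)) - ∑ j, (b j : ℂ)) = (n : ℂ) * N * r := by
    intro i l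
    rw [hx, hy, ← rt_add, rt_eq_one_iff hN]
    constructor <;> rintro ⟨n, hn⟩ <;> refine ⟨n, ?_⟩
    · field_simp at hn; linear_combination hn
    · field_simp; linear_combination hn
  have hyinj : ∀ l l' (j : Fin r), x j * y l = 1 → x j * y l' = 1 → l = l' := by
    intro l l' j h h'
    obtain ⟨n, hn⟩ := (hiff j l).mp h
    obtain ⟨n', hn'⟩ := (hiff j l').mp h'
    have : ((b l' : ℂ) - b l) = ((n - n' : ℤ) : ℂ) * N := by
      apply mul_right_cancel₀ hr0
      push_cast
      linear_combination hn - hn'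
    have h2 : (b l' : ℤ) - b l = (n - n') * N := by exact_mod_cast this
    have : (n - n') = 0 := by
      have := hbN l; have := hbN l'
      rcases lt_trichotomy (n - n') 0 with h3 | h3 | h3
      · nlinarith
      · exact h3
      · nlinarith
    rw [this, zero_mul, sub_eq_zero] at h2
    exact (hb.injective (by exact_mod_cast h2.symm))
  have hxinj : ∀ j j' (l : Fin r), x j * y l = 1 → x j' * y l = 1 → j = j' := by
    intro j j' l h h'
    obtain ⟨n, hn⟩ := (hiff j l).mp h
    obtain ⟨n', hn'⟩ := (hiff j' l).mp h'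
    have : ((a j : ℂ) - a j') = ((n - n' : ℤ) : ℂ) * N := by
      apply mul_right_cancel₀ hr0
      push_cast
      linear_combination hn - hn'
    have h2 : (a j : ℤ) - a j' = (n - n') * N := by exact_mod_cast this
    have : (n - n') = 0 := by
      have := haN j; have := haN j'
      rcases lt_trichotomy (n - n') 0 with h3 | h3 | h3
      · nlinarith
      · exact h3
      · nlinarith
    rw [this, zero_mul, sub_eq_zero] at h2
    exact (ha.injective (by exact_mod_cast h2))
  have hone : ∀ j₁ j₂, (∀ l, x j₁ * y l ≠ 1) → (∀ l, x j₂ * y l ≠ 1) → j₁ = j₂ := by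
    intro j₁ j₂ h1 h2
    by_contra h
    exact hcon ⟨j₁, j₂, h, h1, h2⟩
  -- every row is matched
  have hall : ∀ j, ∃ l, x j * y l = 1 := by
    intro j₀
    by_contra hj₀
    push Not at hj₀
    have hg : ∀ j, j ≠ j₀ → ∃ l, x j * y l = 1 := by
      intro j hj
      by_contra hj'
      push Not at hj'
      exact hj (hone j j₀ hj' hj₀)
    choose g hg using hg
    let f : {j : Fin r // j ≠ j₀} → Fin r := fun j => g j.1 j.2
    have hf : Function.Injective f := fun j j' h => Subtype.ext
      (hxinj j.1 j'.1 (f j) (hg _ _) (by rw [h]; exact hg _ _))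
    obtain ⟨l₀, hl₀⟩ : ∃ l₀, ∀ j, f j ≠ l₀ := by
      by_contra h
      push Not at h
      have := Fintype.card_le_of_surjective f h
      simp at this
      omega
    have himg : (Finset.univ : Finset {j : Fin r // j ≠ j₀}).image f = Finset.univ.erase l₀ := by
      apply Finset.eq_of_subset_of_card_le
      · intro l hl
        simp only [Finset.mem_image] at hl
        obtain ⟨j, -, rfl⟩ := hl
        simp [hl₀ j]
      · rw [Finset.card_image_of_injective _ hf]
        simp
    have hprod : ∏ j : {j : Fin r // j ≠ j₀}, x j.1 * y (f j) = 1 :=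
      Finset.prod_eq_one fun j _ => hg j.1 j.2
    rw [Finset.prod_mul_distrib, ← Finset.prod_image (f := y) (fun a _ b _ h => hf h), himg] at hprod
    have e1 : ∏ j : {j : Fin r // j ≠ j₀}, x j.1 = ∏ j ∈ Finset.univ.erase j₀, x j :=
      (Finset.prod_subtype _ (by simp) x).symm
    rw [e1] at hprod
    have h4 := congrArg (fun t => (x j₀ * y l₀) * t) hprod
    simp only [mul_one] at h4
    rw [mul_mul_mul_comm, Finset.mul_prod_erase _ _ (Finset.mem_univ _),
      Finset.mul_prod_erase _ _ (Finset.mem_univ _), hpx, hpy, one_mul] at h4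
    exact hj₀ l₀ h4.symm
  choose p hp using hall
  have hpinj : Function.Injective p := fun j j' h => hxinj j j' (p j) (hp j) (h ▸ hp j')
  have hbij : Function.Bijective p := Finite.injective_iff_bijective.mp hpinj
  choose n hn using fun j => (hiff j (p j)).mp (hp j)
  have hsumn : ∑ j, (n j : ℂ) = 0 := by
    have h := Finset.sum_congr rfl (fun j (_ : j ∈ Finset.univ) => hn j)
    rw [Finset.sum_sub_distrib, ← Finset.sum_mul, Finset.sum_sub_distrib, Finset.sum_const,
      Finset.card_univ, Fintype.card_fin, nsmul_eq_mul, ← Finset.sum_mul, ← Finset.sum_mul,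
      show ∑ j, (b (p j) : ℂ) = ∑ j, (b j : ℂ) from hbij.sum_comp (fun j => (b j : ℂ))] at h
    have h2 : (∑ j, (n j : ℂ)) * ((N : ℂ) * r) = 0 := by linear_combination -h
    exact (mul_eq_zero.mp h2).resolve_right (mul_ne_zero (by exact_mod_cast hN) hr0)
  have hsumn' : ∑ j, n j = 0 := by exact_mod_cast hsumn
  have hdiff : ∀ i j, ((a i : ℤ) - b (p i)) - ((a j : ℤ) - b (p j)) = (n i - n j) * N := by
    intro i j
    have : ((a i : ℂ) - b (p i)) - ((a j : ℂ) - b (p j)) = ((n i : ℂ) - n j) * N := by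
      apply mul_right_cancel₀ hr0
      linear_combination hn i - hn j
    exact_mod_cast this
  have hclose : ∀ i j, n i - n j ≤ 1 := by
    intro i j
    by_contra h
    have := hdiff i j
    have := haN i; have := hbN (p j)
    nlinarith [Int.natCast_nonneg (a j), Int.natCast_nonneg (b (p i))]
  have hn0 : ∀ i, n i = 0 := by
    intro i
    rcases lt_trichotomy (n i) 0 with h | h | h
    · exfalso
      have : ∑ j, n j < 0 := Finset.sum_neg' (fun j _ => by have := hclose j i; omega) ⟨i, Finset.mem_univ _, h⟩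
      omega
    · exact h
    · exfalso
      have : 0 < ∑ j, n j := Finset.sum_pos' (fun j _ => by have := hclose i j; omega) ⟨i, Finset.mem_univ _, h⟩
      omega
  have hpmono : StrictMono p := by
    intro i j hij
    have h := hdiff i j
    rw [hn0, hn0, sub_self, zero_mul] at h
    have h2 := ha hij
    exact hb.lt_iff_gt.mp (by omega)
  have hpid : p = id := (hpmono.range_inj strictMono_id).mp (by rw [hbij.2.range_eq, Set.range_id])
  apply hne
  refine ⟨(a ⟨0, hr⟩ : ℤ) - b ⟨0, hr⟩, fun i => ?_⟩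
  have h := hdiff i ⟨0, hr⟩
  rw [hn0, hn0, sub_self, zero_mul, hpid] at h
  simp only [id] at h
  linarith

/-- the twisted orthogonality -/
theorem twisted_zero {r N : ℕ} (hr : 1 ≤ r) (hN : N ≠ 0) (a b : Fin r → ℕ) (ha : StrictAnti a) (hb : StrictAnti b)
    (haN : ∀ i, a i < N) (hbN : ∀ i, b i < N) (hne : ¬ ∃ e : ℤ, ∀ i, (a i : ℤ) - b i = e) :
    ∑ v ∈ (univ : Finset (Fin r → Fin N)).filter
        (fun v : Fin r → Fin N => StrictAnti v ∧ ∀ i : Fin r, (i : ℕ) = r - 1 → (v i : ℕ) = 0),
      D (fun i => rt N ((a i : ℂ) - (∑ j, (a j : ℂ)) / r)) (fun i => (v i : ℕ)) *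
      D (fun i => rt N (-((b i : ℂ) - (∑ j, (b j : ℂ)) / r))) (fun i => (v i : ℕ)) = 0 := by
  obtain ⟨M, rfl⟩ : ∃ M, N = M + 1 := ⟨N - 1, by omega⟩
  obtain ⟨h1, h2, h3⟩ := bad_rows hr hN a b ha hb haN hbN hne _ _ (fun i => rfl) (fun i => rfl)
  refine vanish_last_zero hr _ _ _ _ ?_ ?_ h1 h2 h3 <;> intro j <;> rw [rt_pow]
  · calc rt (M + 1) (((M + 1 : ℕ) : ℂ) * ((a j : ℂ) - (∑ j, (a j : ℂ)) / r))
        = rt (M + 1) (((a j : ℤ) : ℂ) * ((M + 1 : ℕ) : ℂ) + ((M + 1 : ℕ) : ℂ) * (-(∑ j, (a j : ℂ)) / r)) := by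
          congr 1; push_cast; ring
      _ = _ := by rw [rt_add, rt_int, one_mul]
  · calc rt (M + 1) (((M + 1 : ℕ) : ℂ) * -((b j : ℂ) - (∑ j, (b j : ℂ)) / r))
        = rt (M + 1) (((-(b j : ℤ) : ℤ) : ℂ) * ((M + 1 : ℕ) : ℂ) + ((M + 1 : ℕ) : ℂ) * ((∑ j, (b j : ℂ)) / r)) := by
          congr 1; push_cast; ring
      _ = _ := by rw [rt_add, rt_int, one_mul]

end Roots

end Groth.L14.Verl
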