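import Groth.Agent.L14.Verlinde

namespace Groth.L14.Verl

open Finset Matrix
open scoped Real

def delta (r : ℕ) : Fin r → ℕ := fun i => r - 1 - (i : ℕ)

theorem gap {r M : ℕ} (a : Fin r → Fin M) (ha : StrictAnti a) :
    ∀ i j : Fin r, i ≤ j → (a j : ℕ) + ((j : ℕ) - i) ≤ a i := by
  intro i j
  induction hd : ((j : ℕ) - i) generalizing j with
  | zero => intro hij; rw [Fin.le_def] at hij; have : i = j := Fin.ext (by omega); simp [this]
  | succ d ih =>
    intro hij
    have hjr := j.2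
    have hij' : (i : ℕ) ≤ j := hij
    have h := ih ⟨(j : ℕ) - 1, by omega⟩ (by simp; omega) (by rw [Fin.le_def]; simp; omega)
    have h2 : a j < a ⟨(j : ℕ) - 1, by omega⟩ := ha (by rw [Fin.lt_def]; simp; omega)
    rw [Fin.lt_def] at h2
    omega

theorem sum_mu {r K M : ℕ} (hM : M + 1 = r + K) (F : (Fin r → ℕ) → ℂ) :
    ∑ μ ∈ (univ : Finset (Fin r → Fin K)).filter (fun μ : Fin r → Fin K => Antitone μ), F (fun i => (μ i : ℕ)) =
    ∑ a ∈ (univ : Finset (Fin r → Fin M)).filter (fun a => StrictAnti a),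
      F (fun i => (a i : ℕ) - delta r i) := by
  refine Finset.sum_bij (fun μ _ => fun i => (⟨(μ i : ℕ) + delta r i, by
      have := (μ i).2; have := i.2; simp only [delta]; omega⟩ : Fin M)) ?_ ?_ ?_ ?_
  · intro μ hμ
    simp only [mem_filter, mem_univ, true_and] at hμ ⊢
    intro i j hij
    have h1 : (μ j : ℕ) ≤ μ i := hμ hij.le
    have := i.2; have := j.2
    rw [Fin.lt_def] at hij ⊢
    simp only [delta]; omega
  · intro μ _ ν _ h
    funext i
    have := congrFun h i
    simp only [Fin.ext_iff] at this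
    exact Fin.ext (by omega)
  · intro a ha
    simp only [mem_filter, mem_univ, true_and] at ha
    refine ⟨fun i => ⟨(a i : ℕ) - delta r i, ?_⟩, ?_, ?_⟩
    · have hr := i.2
      have h0 := gap a ha ⟨0, by omega⟩ i (by rw [Fin.le_def]; simp)
      have := (a ⟨0, by omega⟩).2
      have hl := gap a ha i ⟨r - 1, by omega⟩ (by rw [Fin.le_def]; simp; omega)
      simp only [delta] at *; omega
    · simp only [mem_filter, mem_univ, true_and]
      intro i j hij
      have h := gap a ha i j hij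
      rw [Fin.le_def] at hij ⊢
      have := j.2
      simp only [delta]; omega
    · funext i
      apply Fin.ext
      have hr := i.2
      have hl := gap a ha i ⟨r - 1, by omega⟩ (by rw [Fin.le_def]; simp; omega)
      simp only [delta] at *; omega
  · intro μ _
    simp

theorem sum_mu_last {r k : ℕ} (hr : 1 ≤ r) (F : (Fin r → ℕ) → ℂ) :
    ∑ μ ∈ (univ : Finset (Fin r → Fin (k + 1))).filter
        (fun μ : Fin r → Fin (k + 1) => Antitone μ ∧ ∀ i : Fin r, (i : ℕ) = r - 1 → (μ i : ℕ) = 0),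
      F (fun i => (μ i : ℕ)) =
    ∑ v ∈ (univ : Finset (Fin r → Fin (r + k))).filter
        (fun v : Fin r → Fin (r + k) => StrictAnti v ∧ ∀ i : Fin r, (i : ℕ) = r - 1 → (v i : ℕ) = 0),
      F (fun i => (v i : ℕ) - delta r i) := by
  rw [← Finset.filter_filter, ← Finset.filter_filter, Finset.sum_filter, Finset.sum_filter (s := Finset.filter _ _)]
  rw [sum_mu (M := r + k) (by omega) (fun m => if ∀ i : Fin r, (i : ℕ) = r - 1 → m i = 0 then F m else 0)]
  refine Finset.sum_congr rfl fun a _ => ?_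
  congr 1
  simp only [eq_iff_iff]
  constructor <;> intro h i hi <;> have := h i hi <;> simp only [delta] at * <;> omega

variable {r : ℕ}

noncomputable def sgn (r : ℕ) : ℂ := ((Equiv.Perm.sign (Fin.revPerm : Equiv.Perm (Fin r)) : ℤ) : ℂ)

theorem sgn_sq (r : ℕ) : sgn r * sgn r = 1 := by
  rw [sgn, ← Int.cast_mul, ← Units.val_mul, Int.units_mul_self]; simp

theorem D_rev (x : Fin r → ℂ) (e : Fin r → ℕ) : D x (fun i => e (Fin.rev i)) = sgn r * D x e := by
  rw [D, D, sgn, ← Matrix.det_permute]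
  congr 1

theorem D_scale (x : Fin r → ℂ) (c : ℂ) (e : Fin r → ℕ) :
    D (fun j => c * x j) e = c ^ (∑ i, e i) * D x e := by
  rw [D, D, ← Finset.prod_pow_eq_pow_sum, ← Matrix.det_mul_column]
  congr 1
  ext i j
  simp [mul_pow]

theorem D_shift (x : Fin r → ℂ) (p : ℕ) (e : Fin r → ℕ) :
    D x (fun i => p + e i) = (∏ j, x j) ^ p * D x e := by
  rw [D, D, ← Finset.prod_pow, ← Matrix.det_mul_row]
  congr 1
  ext i j
  simp [pow_add]

/-- reflecting exponents: `z ^ (M - a) = z ^ M * w ^ a` -/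
theorem D_reflect (z w : Fin r → ℂ) (hzw : ∀ j, z j * w j = 1) (M : ℕ) (a : Fin r → ℕ) (ha : ∀ i, a i ≤ M) :
    D z (fun i => M - a (Fin.rev i)) = sgn r * ((∏ j, z j) ^ M * D w a) := by
  rw [show (fun i => M - a (Fin.rev i)) = (fun i => (fun l => M - a l) (Fin.rev i)) from rfl,
    D_rev z (fun l => M - a l)]
  congr 1
  rw [D, D, ← Finset.prod_pow, ← Matrix.det_mul_row]
  congr 1
  ext i j
  simp only [Matrix.of_apply]
  calc z j ^ (M - a i) = z j ^ (M - a i) * (z j * w j) ^ a i := by rw [hzw, one_pow, mul_one]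
    _ = z j ^ M * w j ^ a i := by rw [mul_pow, ← mul_assoc, ← pow_add, Nat.sub_add_cancel (ha i)]

theorem D_delta_sq (z w : Fin r → ℂ) (hzw : ∀ j, z j * w j = 1) :
    D z (delta r) * D z (delta r) = sgn r * (∏ j, z j) ^ (r - 1) * (D z (delta r) * D w (delta r)) := by
  have h : delta r = fun i => (r - 1) - (delta r) (Fin.rev i) := by
    funext i; have := i.2; simp [delta, Fin.val_rev]; omega
  have h2 := D_reflect z w hzw (r - 1) (delta r) (fun i => by simp [delta])
  rw [← h] at h2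
  conv_lhs => arg 2; rw [h2]
  ring

theorem D_delta_vandermonde (z : Fin r → ℂ) :
    D z (delta r) = sgn r * ∏ p ∈ (univ : Finset (Fin r × Fin r)).filter (fun p => p.1 < p.2), (z p.2 - z p.1) := by
  have h : delta r = fun i => (fun l : Fin r => (l : ℕ)) (Fin.rev i) := by
    funext i; have := i.2; simp [delta, Fin.val_rev]; omega
  rw [h, D_rev]
  congr 1
  rw [Finset.prod_finset_product' _ Finset.univ (fun i => Finset.Ioi i) (by intro p; simp)
    (f := fun a b => z b - z a), ← Matrix.det_vandermonde, D, ← Matrix.det_transpose]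
  congr 1

variable (r) in
/-- `∏_{i<j} (2 sin (π (v_i - v_j)/N))^2` -/
noncomputable def Pp (N : ℕ) (v : Fin r → ℕ) : ℝ :=
  ∏ p ∈ (univ : Finset (Fin r × Fin r)).filter (fun p => p.1 < p.2),
    ((2 : ℝ) * Real.sin (Real.pi * ((v p.1 : ℝ) - (v p.2 : ℝ)) / (N : ℝ))) ^ 2

noncomputable def zz (N : ℕ) (v : Fin r → ℕ) : Fin r → ℂ := fun j => rt N (v j)
noncomputable def ww (N : ℕ) (v : Fin r → ℕ) : Fin r → ℂ := fun j => rt N (-(v j : ℂ))

theorem zw (N : ℕ) (v : Fin r → ℕ) (j : Fin r) : zz N v j * ww N v j = 1 := by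
  rw [zz, ww, ← rt_add, add_neg_cancel, rt_zero]

theorem zz_pow (N : ℕ) (v : Fin r → ℕ) (j : Fin r) : zz N v j ^ N = 1 := by
  rw [zz, rt_pow, mul_comm]
  exact_mod_cast rt_int N (v j)

theorem zz_inj {N : ℕ} (hN : N ≠ 0) (v : Fin r → ℕ) (hv : Function.Injective v) (hvN : ∀ i, v i < N) :
    Function.Injective (zz N v) := by
  intro i j h
  have h2 : rt N ((v i : ℂ) - v j) = 1 := by
    rw [sub_eq_add_neg, rt_add, show rt N (v i) = rt N (v j) from h, ← rt_add, add_neg_cancel, rt_zero]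
  obtain ⟨n, hn⟩ := (rt_eq_one_iff hN _).mp h2
  have h3 : (v i : ℤ) - v j = n * N := by exact_mod_cast hn
  have : n = 0 := by
    have := hvN i; have := hvN j
    rcases lt_trichotomy n 0 with h4 | h4 | h4
    · nlinarith
    · exact h4
    · nlinarith
  apply hv
  rw [this, zero_mul] at h3
  omega

theorem P_eq (N : ℕ) (v : Fin r → ℕ) :
    D (zz N v) (delta r) * D (ww N v) (delta r) = (Pp r N v : ℂ) := by
  rw [D_delta_vandermonde, D_delta_vandermonde, mul_mul_mul_comm, sgn_sq, one_mul, ← Finset.prod_mul_distrib,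
    Pp, Complex.ofReal_prod]
  refine Finset.prod_congr rfl fun p _ => ?_
  have hw : ∀ j, ww N v j = (starRingEnd ℂ) (zz N v j) := by
    intro j
    rw [ww, zz, rt, rt, ← Complex.exp_conj]
    congr 1
    simp [map_div₀, Complex.conj_ofReal, Complex.conj_I, map_ofNat]
  rw [hw, hw, ← map_sub, Complex.mul_conj]
  congr 1
  rw [Complex.normSq_sub]
  have hn : ∀ j, Complex.normSq (zz N v j) = 1 := by
    intro j
    have := zw N v j
    rw [hw, Complex.mul_conj] at this
    exact_mod_cast this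
  rw [hn, hn]
  have hc : zz N v p.2 * (starRingEnd ℂ) (zz N v p.1) =
      Complex.exp ((2 * (Real.pi * ((v p.2 : ℝ) - v p.1) / N) : ℝ) * Complex.I) := by
    rw [← hw, zz, ww, ← rt_add, rt]
    congr 1
    push_cast; ring
  rw [hc, Complex.exp_ofReal_mul_I_re, Real.cos_two_mul', Real.cos_sq']
  rw [show Real.pi * ((v p.1 : ℝ) - v p.2) / N = -(Real.pi * ((v p.2 : ℝ) - v p.1) / N) by ring, Real.sin_neg]
  ring

theorem D_delta_ne {N : ℕ} (hN : N ≠ 0) (v : Fin r → ℕ) (hv : Function.Injective v) (hvN : ∀ i, v i < N) :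
    D (zz N v) (delta r) ≠ 0 := by
  rw [D_delta_vandermonde]
  refine mul_ne_zero (fun h => by simpa [h] using sgn_sq r) (Finset.prod_ne_zero_iff.mpr fun p hp => ?_)
  simp only [mem_filter, mem_univ, true_and] at hp
  exact sub_ne_zero.mpr fun h => (ne_of_gt hp) (zz_inj hN v hv hvN h)

theorem Pp_ne {N : ℕ} (hN : N ≠ 0) (v : Fin r → ℕ) (hv : Function.Injective v) (hvN : ∀ i, v i < N) :
    (Pp r N v : ℂ) ≠ 0 := by
  have h := D_delta_ne hN v hv hvN
  intro h0
  have h2 := D_delta_sq (zz N v) (ww N v) (zw N v)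
  rw [P_eq, h0, mul_zero] at h2
  exact mul_ne_zero h h h2

/-- Schur function -/
noncomputable def Sch (μ : Fin r → ℕ) (z : Fin r → ℂ) : ℂ := D z (fun i => μ i + delta r i) / D z (delta r)

theorem dual_exp {k M : ℕ} (hM : M + 1 = r + k) (μ : Fin r → ℕ) (hμ : ∀ i, μ i ≤ k) :
    (fun i => (k - μ (Fin.rev i)) + delta r i) = fun i => M - (fun l => μ l + delta r l) (Fin.rev i) := by
  funext i
  have := i.2; have := hμ (Fin.rev i)
  simp only [delta, Fin.val_rev]; omega

theorem schur_dual {k M : ℕ} (hr : 1 ≤ r) (hM : M + 1 = r + k) (v : Fin r → ℕ) (hv : Function.Injective v)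
    (hvN : ∀ i, v i < r + k) (μ : Fin r → ℕ) (hμ : ∀ i, μ i ≤ k) :
    Sch μ (zz (r + k) v) * Sch (fun i => k - μ (Fin.rev i)) (zz (r + k) v) =
      (∏ j, zz (r + k) v j) ^ k / (Pp r (r + k) v : ℂ) *
        (D (zz (r + k) v) (fun i => μ i + delta r i) * D (ww (r + k) v) (fun i => μ i + delta r i)) := by
  have hN : r + k ≠ 0 := by omega
  rw [Sch, Sch, dual_exp hM μ hμ, D_reflect _ _ (zw (r + k) v) M (fun l => μ l + delta r l) (fun i => by
    have := i.2; have := hμ i; simp only [delta]; omega), div_mul_div_comm,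
    D_delta_sq _ _ (zw (r + k) v), P_eq]
  have hP := Pp_ne hN v hv hvN
  have hprod : (∏ j, zz (r + k) v j) ≠ 0 := Finset.prod_ne_zero_iff.mpr fun j _ h => by simpa [h] using zw (r + k) v j
  have hs : sgn r ≠ 0 := fun h => by simpa [h] using sgn_sq r
  rw [show M = k + (r - 1) by omega, pow_add]
  field_simp

theorem schur_norm {k : ℕ} (hr : 1 ≤ r) (v : Fin r → ℕ) (hv : Function.Injective v) (hvN : ∀ i, v i < r + k) :
    (∑ μ ∈ (Finset.univ : Finset (Fin r → Fin k)).filter (fun μ : Fin r → Fin k => Antitone μ),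
        Sch (fun i => (μ i : ℕ)) (zz (r + k) v) * Sch (fun i => k - (μ (Fin.rev i) : ℕ)) (zz (r + k) v)) =
      (∏ j, zz (r + k) v j) ^ k * ((k : ℂ) * ((r : ℂ) + k) ^ (r - 1)) / (Pp r (r + k) v : ℂ) := by
  obtain ⟨M, hM⟩ : ∃ M, M + 1 = r + k := ⟨r + k - 1, by omega⟩
  rw [Finset.sum_congr rfl (fun μ _ => schur_dual hr hM v hv hvN (fun i => (μ i : ℕ)) (fun i => (μ i).2.le)),
    ← Finset.mul_sum,
    sum_mu hM (fun m => D (zz (r + k) v) (fun i => m i + delta r i) * D (ww (r + k) v) (fun i => m i + delta r i))]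
  have : ∀ a ∈ (univ : Finset (Fin r → Fin M)).filter (fun a => StrictAnti a),
      (fun i => ((a i : ℕ) - delta r i) + delta r i) = fun i => (a i : ℕ) := by
    intro a ha
    simp only [mem_filter, mem_univ, true_and] at ha
    funext i
    have := i.2
    have hl := gap a ha i ⟨r - 1, by omega⟩ (by rw [Fin.le_def]; simp; omega)
    simp only [delta] at *; omega
  rw [Finset.sum_congr rfl (fun a ha => by rw [this a ha]), norm_low hr hM _ _
    (fun j => by rw [hM]; exact zz_pow _ v j) (zw _ v) (zz_inj (by omega) v hv hvN)]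
  ring

theorem sine_sum {k : ℕ} (hr : 1 ≤ r) :
    (∑ v ∈ (Finset.univ : Finset (Fin r → Fin (r + k))).filter
        (fun v : Fin r → Fin (r + k) => StrictAnti v ∧ ∀ i : Fin r, (i : ℕ) = r - 1 → (v i : ℕ) = 0),
      (Pp r (r + k) (fun i => (v i : ℕ)) : ℂ)) = (r : ℂ) * ((r : ℂ) + k) ^ (r - 1) := by
  obtain ⟨M, hM⟩ : ∃ M, M + 1 = r + k := ⟨r + k - 1, by omega⟩
  have key : ∀ v : Fin r → ℕ, (Pp r (r + k) v : ℂ) =
      D (zz (r + k) (delta r)) v * D (ww (r + k) (delta r)) v := by
    intro v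
    rw [← P_eq, D, D, D, D, ← Matrix.det_transpose, ← Matrix.det_transpose (Matrix.of fun i j => ww (r + k) v j ^ delta r i)]
    congr 2 <;> ext i j <;>
      simp only [Matrix.transpose_apply, Matrix.of_apply, zz, ww, rt_pow] <;> congr 1 <;> ring
  simp only [key]
  have hd : Function.Injective (delta r) := by
    intro i j h; have := i.2; have := j.2; simp only [delta] at h; exact Fin.ext (by omega)
  have hlt : ∀ i, delta r i < r + k := fun i => by simp only [delta]; omega
  have h := norm_last_zero (k := k) hr hM (zz (M + 1) (delta r)) (ww (M + 1) (delta r))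
    (fun j => zz_pow _ _ j) (zw _ _) (zz_inj (by omega) _ hd (by rw [hM]; exact hlt))
  rw [hM] at h
  exact h

theorem twisted_schur {k : ℕ} (hr : 1 ≤ r) (v v' : Fin r → ℕ) (hv : StrictAnti v) (hvlt : ∀ i, v i < r + k)
    (hv' : StrictAnti v') (hv'lt : ∀ i, v' i < r + k) (hne : ¬ ∃ a : ℤ, ∀ i, (v i : ℤ) - (v' i : ℤ) = a) :
    (∑ μ ∈ (Finset.univ : Finset (Fin r → Fin (k + 1))).filter
        (fun μ : Fin r → Fin (k + 1) => Antitone μ ∧ ∀ i : Fin r, (i : ℕ) = r - 1 → (μ i : ℕ) = 0),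
      rt (r + k) (-(((∑ i, (μ i : ℕ) : ℕ) : ℂ) * ((∑ j, v j : ℕ) : ℂ) / r)) *
      rt (r + k) (-(((∑ i, (k - (μ (Fin.rev i) : ℕ)) : ℕ) : ℂ) * ((∑ j, v' j : ℕ) : ℂ) / r)) *
      Sch (fun i => (μ i : ℕ)) (zz (r + k) v) * Sch (fun i => k - (μ (Fin.rev i) : ℕ)) (zz (r + k) v')) = 0 := by
  obtain ⟨M, hM⟩ : ∃ M, M + 1 = r + k := ⟨r + k - 1, by omega⟩
  set N := r + k with hNdef
  have hN : N ≠ 0 := by omega
  have hr0 : (r : ℂ) ≠ 0 := by exact_mod_cast (show r ≠ 0 by omega)
  set A : ℂ := ∑ j, (v j : ℂ) with hA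
  set B : ℂ := ∑ j, (v' j : ℂ) with hB
  set x : Fin r → ℂ := fun i => rt N ((v i : ℂ) - A / r) with hx
  set y : Fin r → ℂ := fun i => rt N (-((v' i : ℂ) - B / r)) with hy
  set d : ℕ := ∑ i, delta r i
  set x' : Fin r → ℂ := fun i => rt N ((v' i : ℂ) - B / r) with hx'
  have hxy : ∀ j, x' j * y j = 1 := by
    intro j; rw [hx', hy, ← rt_add, add_neg_cancel, rt_zero]
  have hpx' : ∏ j, x' j = 1 := by
    rw [hx', ← rt_sum, Finset.sum_sub_distrib, Finset.sum_const,
      Finset.card_univ, Fintype.card_fin, nsmul_eq_mul, mul_div_cancel₀ _ hr0, hB, sub_self, rt_zero]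
  set κ : ℂ := rt N ((d : ℂ) * (A / r)) * rt N ((d : ℂ) * (B / r)) * sgn r /
      (D (zz N v) (delta r) * D (zz N v') (delta r)) with hκ
  have key : ∀ m : Fin r → ℕ, (∀ i, m i ≤ k) →
      rt N (-(((∑ i, m i : ℕ) : ℂ) * A / r)) * rt N (-(((∑ i, (k - m (Fin.rev i)) : ℕ) : ℂ) * B / r)) *
        Sch m (zz N v) * Sch (fun i => k - m (Fin.rev i)) (zz N v') =
      κ * (D x (fun i => m i + delta r i) * D y (fun i => m i + delta r i)) := by
    intro m hm
    have e1 : ∀ (u : Fin r → ℕ) (C : ℂ) (e : Fin r → ℕ),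
        rt N (-(((∑ i, e i : ℕ) : ℂ) * C / r)) * D (zz N u) (fun i => e i + delta r i) =
          rt N ((d : ℂ) * (C / r)) * D (fun i => rt N ((u i : ℂ) - C / r)) (fun i => e i + delta r i) := by
      intro u C e
      have : (fun i => rt N ((u i : ℂ) - C / r)) = fun i => rt N (-(C / r)) * zz N u i := by
        funext i; rw [zz, ← rt_add]; congr 1; ring
      rw [this, D_scale, Finset.sum_add_distrib, rt_pow, ← mul_assoc, ← rt_add]
      congr 2
      simp only [d]; push_cast; ring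
    have e2 : D x' (fun i => (k - m (Fin.rev i)) + delta r i) = sgn r * D y (fun i => m i + delta r i) := by
      rw [dual_exp hM m hm, D_reflect _ _ hxy M (fun l => m l + delta r l) (fun i => by
        have := i.2; have := hm i; simp only [delta]; omega), hpx', one_pow, one_mul]
    calc _ = (rt N (-(((∑ i, m i : ℕ) : ℂ) * A / r)) * D (zz N v) (fun i => m i + delta r i)) *
          (rt N (-(((∑ i, (k - m (Fin.rev i)) : ℕ) : ℂ) * B / r)) *
            D (zz N v') (fun i => (k - m (Fin.rev i)) + delta r i)) /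
          (D (zz N v) (delta r) * D (zz N v') (delta r)) := by simp only [Sch]; ring
      _ = _ := by
          rw [e1 v A m, e1 v' B (fun i => k - m (Fin.rev i)), e2, hκ]; ring
  have hA' : ((∑ j, v j : ℕ) : ℂ) = A := by rw [hA]; push_cast; rfl
  have hB' : ((∑ j, v' j : ℕ) : ℂ) = B := by rw [hB]; push_cast; rfl
  rw [hA', hB', Finset.sum_congr rfl (fun μ _ => key (fun i => (μ i : ℕ)) (fun i => by have := (μ i).2; omega)),
    sum_mu_last hr (fun m => κ * (D x (fun i => m i + delta r i) * D y (fun i => m i + delta r i))),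
    ← Finset.mul_sum]
  have : ∀ a ∈ (univ : Finset (Fin r → Fin N)).filter
      (fun v : Fin r → Fin N => StrictAnti v ∧ ∀ i : Fin r, (i : ℕ) = r - 1 → (v i : ℕ) = 0),
      (fun i => ((a i : ℕ) - delta r i) + delta r i) = fun i => (a i : ℕ) := by
    intro a ha
    simp only [mem_filter, mem_univ, true_and] at ha
    funext i
    have := i.2
    have hl := gap a ha.1 i ⟨r - 1, by omega⟩ (by rw [Fin.le_def]; simp; omega)
    simp only [delta] at *; omega
  rw [Finset.sum_congr rfl (fun a ha => by rw [this a ha])]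
  rw [twisted_zero hr hN v v' hv hv' hvlt hv'lt hne, mul_zero]

theorem twisted_dual {k : ℕ} (hr : 1 ≤ r) (lam lam' : Fin r → ℕ) (hlam : Antitone lam) (hlamk : ∀ i, lam i ≤ k)
    (hlam0 : ∀ i : Fin r, (i : ℕ) = r - 1 → lam i = 0)
    (hlam' : Antitone lam') (hlam'k : ∀ i, lam' i ≤ k)
    (hne : ¬ ∃ a : ℤ, ∀ i, (lam i : ℤ) - ((k - lam' (Fin.rev i) : ℕ) : ℤ) = a) :
    (∑ v ∈ (Finset.univ : Finset (Fin r → Fin (r + k))).filter
        (fun v : Fin r → Fin (r + k) => StrictAnti v ∧ ∀ i : Fin r, (i : ℕ) = r - 1 → (v i : ℕ) = 0),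
      rt (r + k) (-((((∑ i, lam i) + (∑ i, lam' i) : ℕ) : ℂ) * ((∑ j, (v j : ℕ) : ℕ) : ℂ) / r)) *
        Sch lam (zz (r + k) (fun j => (v j : ℕ))) * Sch lam' (zz (r + k) (fun j => (v j : ℕ))) *
        (Pp r (r + k) (fun j => (v j : ℕ)) : ℂ)) = 0 := by
  obtain ⟨M, hM⟩ : ∃ M, M + 1 = r + k := ⟨r + k - 1, by omega⟩
  set N := r + k with hNdef
  have hN : N ≠ 0 := by omega
  have hr0 : (r : ℂ) ≠ 0 := by exact_mod_cast (show r ≠ 0 by omega)
  set a : Fin r → ℕ := fun i => lam i + delta r i with ha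
  set b : Fin r → ℕ := fun i => (k - lam' (Fin.rev i)) + delta r i with hb
  have haA : StrictAnti a := by
    intro i j hij; have := hlam hij.le; have := j.2; rw [Fin.lt_def] at hij; simp only [ha, delta]; omega
  have hbA : StrictAnti b := by
    intro i j hij
    have := hlam' (show Fin.rev j ≤ Fin.rev i from Fin.rev_le_rev.mpr hij.le)
    have := j.2; have := hlam'k (Fin.rev i); have := hlam'k (Fin.rev j)
    rw [Fin.lt_def] at hij; simp only [hb, delta]; omega
  have haN : ∀ i, a i < N := fun i => by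
    have := hlamk i; simp only [ha, delta]; omega
  have hbN : ∀ i, b i < N := fun i => by simp only [hb, delta]; omega
  have hne' : ¬ ∃ e : ℤ, ∀ i, (a i : ℤ) - b i = e := by
    rintro ⟨e, he⟩
    refine hne ⟨e, fun i => ?_⟩
    have := he i
    simp only [ha, hb] at this
    push_cast at this
    linarith
  have key : ∀ v : Fin r → ℕ, Function.Injective v → (∀ i, v i < N) →
      rt N (-((((∑ i, lam i) + (∑ i, lam' i) : ℕ) : ℂ) * ((∑ j, v j : ℕ) : ℂ) / r)) *
        Sch lam (zz N v) * Sch lam' (zz N v) * (Pp r N v : ℂ) =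
      D (fun i => rt N ((a i : ℂ) - (∑ j, (a j : ℂ)) / r)) v *
        D (fun i => rt N (-((b i : ℂ) - (∑ j, (b j : ℂ)) / r))) v := by
    intro v hv hvN
    set S : ℂ := ((∑ j, v j : ℕ) : ℂ) with hS
    have e1 : D (fun i => rt N ((a i : ℂ) - (∑ j, (a j : ℂ)) / r)) v =
        rt N (-((∑ j, (a j : ℂ)) / r) * S) * D (zz N v) a := by
      have h1 : (fun i => rt N ((a i : ℂ) - (∑ j, (a j : ℂ)) / r)) =
          fun i => rt N (-((∑ j, (a j : ℂ)) / r)) * zz N a i := by
        funext i; rw [zz, ← rt_add]; congr 1; ring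
      rw [h1, D_scale, rt_pow, hS]
      congr 1
      · congr 1; ring
      · rw [D, D, ← Matrix.det_transpose]
        congr 1; ext i j
        simp only [Matrix.transpose_apply, Matrix.of_apply, zz, rt_pow]
        congr 1; ring
    have e2 : D (fun i => rt N (-((b i : ℂ) - (∑ j, (b j : ℂ)) / r))) v =
        rt N ((∑ j, (b j : ℂ)) / r * S) * D (ww N v) b := by
      have h1 : (fun i => rt N (-((b i : ℂ) - (∑ j, (b j : ℂ)) / r))) =
          fun i => rt N ((∑ j, (b j : ℂ)) / r) * ww N b i := by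
        funext i; rw [ww, ← rt_add]; congr 1; ring
      rw [h1, D_scale, rt_pow, hS]
      congr 1
      · congr 1; ring
      · rw [D, D, ← Matrix.det_transpose]
        congr 1; ext i j
        simp only [Matrix.transpose_apply, Matrix.of_apply, ww, rt_pow]
        congr 1; ring
    have e3 : D (zz N v) (fun i => lam' i + delta r i) = sgn r * ((∏ j, zz N v j) ^ M * D (ww N v) b) := by
      rw [← D_reflect _ _ (zw N v) M b (fun i => by have := hbN i; omega)]
      congr 1
      funext i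
      have := i.2; have := hlam'k i
      simp only [hb, delta, Fin.rev_rev, Fin.val_rev]; omega
    have hdd := D_delta_sq (zz N v) (ww N v) (zw N v)
    rw [P_eq] at hdd
    have hP := Pp_ne hN v hv hvN
    have hp : (∏ j, zz N v j) ≠ 0 := Finset.prod_ne_zero_iff.mpr fun j _ h => by simpa [h] using zw N v j
    have hs : sgn r ≠ 0 := fun h => by simpa [h] using sgn_sq r
    have hS2 : ∏ j, zz N v j = rt N S := by
      rw [hS]; simp only [zz]; rw [← rt_sum]; push_cast; rfl
    have hdd0 : D (zz N v) (delta r) * D (zz N v) (delta r) ≠ 0 :=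
      mul_ne_zero (D_delta_ne hN v hv hvN) (D_delta_ne hN v hv hvN)
    have e4 : Sch lam (zz N v) * Sch lam' (zz N v) * (Pp r N v : ℂ) =
        (∏ j, zz N v j) ^ k * (D (zz N v) a * D (ww N v) b) := by
      rw [Sch, Sch, div_mul_div_comm, e3, hdd, show M = k + (r - 1) by omega, pow_add]
      field_simp
      simp only [ha]
      ring
    have hAB : -((((∑ i, lam i) + (∑ i, lam' i) : ℕ) : ℂ) * S / r) + (k : ℂ) * S =
        -((∑ j, (a j : ℂ)) / r) * S + (∑ j, (b j : ℂ)) / r * S := by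
      have hb' : ∑ j, (b j : ℂ) = (r : ℂ) * k - ∑ i, (lam' i : ℂ) + ∑ i, (delta r i : ℂ) := by
        have h1 : ∀ j, (b j : ℂ) = (k : ℂ) - (lam' (Fin.revPerm j) : ℂ) + (delta r j : ℂ) := by
          intro j; simp only [hb, Fin.revPerm_apply]
          rw [Nat.cast_add, Nat.cast_sub (hlam'k _)]
        rw [Finset.sum_congr rfl (fun j _ => h1 j), Finset.sum_add_distrib, Finset.sum_sub_distrib,
          Finset.sum_const, Finset.card_univ, Fintype.card_fin, nsmul_eq_mul,
          Equiv.sum_comp Fin.revPerm (fun j => (lam' j : ℂ))]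
      rw [hb']
      simp only [ha]
      push_cast
      rw [Finset.sum_add_distrib]
      field_simp
      ring
    rw [e1, e2, mul_assoc, mul_assoc, ← mul_assoc (Sch lam (zz N v)), e4, hS2, rt_pow, ← mul_assoc, ← rt_add,
      hAB, rt_add]
    ring
  rw [Finset.sum_congr rfl (fun (v : Fin r → Fin N) hv => key (fun j => (v j : ℕ)) ?_ (fun i => (v i).2))]
  · exact twisted_zero hr hN a b haA hbA haN hbN hne'
  · simp only [mem_filter] at hv
    exact Fin.val_injective.comp hv.2.1.injective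

end Groth.L14.Verl
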